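import Cfsg.Agent.Lib.OrderFive.Stab

/-!
# Extending an automorphism past a normalizer step by correcting it on a plane
-/

set_option autoImplicit false
set_option linter.unusedSectionVars false
set_option linter.style.haveILetI false

namespace Cfsg.Agent.OrderFive

open Cfsg Cfsg.FusionSystem Cfsg.Agent Cfsg.Agent.FusionSys Cfsg.Agent.MaxEss
open scoped commutatorElement

section group

variable {G : Type*} [Group G] [Finite G] {p : ℕ} [hp : Fact p.Prime] {M : Subgroup G}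

omit hp in
theorem maps_iff {a : MulAut M} {A B : Subgroup G} (hc : Nat.card B ≤ Nat.card A) (h : ∀ x ∈ A, ev a x ∈ B)
    (x : G) : ev a x ∈ B ↔ x ∈ A := by
  refine ⟨fun hx => ?_, h x⟩
  let f : A → B := fun y => ⟨ev a y, h y y.2⟩
  have hf : Function.Injective f := fun u v huv => Subtype.ext (ev_injective a (congrArg Subtype.val huv))
  obtain ⟨⟨y, hy⟩, hye⟩ := (hf.bijective_of_nat_card_le hc).2 ⟨ev a x, hx⟩
  rwa [← ev_injective a (congrArg Subtype.val hye)]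

/-- The image of a subgroup. -/
def img (a : MulAut M) (A : Subgroup G) (hA : A ≤ M) : Subgroup G where
  carrier := {x | ev a⁻¹ x ∈ A}
  one_mem' := by show ev a⁻¹ 1 ∈ A; rw [ev_one]; exact one_mem A
  mul_mem' {x y} hx hy := by
    show ev a⁻¹ (x * y) ∈ A
    rw [ev_mul (ev_mem_iff.1 (hA hx)) (ev_mem_iff.1 (hA hy))]
    exact mul_mem hx hy
  inv_mem' {x} hx := by
    show ev a⁻¹ x⁻¹ ∈ A
    rw [ev_inv (ev_mem_iff.1 (hA hx))]
    exact inv_mem hx

omit [Finite G] hp in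
theorem mem_img {a : MulAut M} {A : Subgroup G} {hA : A ≤ M} {x : G} : x ∈ img a A hA ↔ ev a⁻¹ x ∈ A := Iff.rfl

omit [Finite G] hp in
theorem img_le {a : MulAut M} {A : Subgroup G} {hA : A ≤ M} : img a A hA ≤ M := fun _ hx => ev_mem_iff.1 (hA hx)

omit [Finite G] hp in
theorem card_img (a : MulAut M) (A : Subgroup G) (hA : A ≤ M) : Nat.card (img a A hA) = Nat.card A :=
  Nat.card_congr
    { toFun := fun x => ⟨ev a⁻¹ x, x.2⟩
      invFun := fun y => ⟨ev a y, by rw [mem_img, ev_inv_cancel]; exact y.2⟩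
      left_inv := fun x => Subtype.ext (ev_cancel_inv a _)
      right_inv := fun y => Subtype.ext (ev_inv_cancel a _) }

omit hp in
theorem Step.img {A B : Subgroup G} (h : Step p A B) (a : MulAut M) (hA : A ≤ M) (hB : B ≤ M) :
    Step p (img a A hA) (img a B hB) where
  le x hx := h.le hx
  norm x hx := MaxEss.mem_norm fun y hy => by
    have hxM : x ∈ M := img_le hx
    have hyM : y ∈ M := img_le hy
    rw [mem_img, ev_mul (mul_mem hxM hyM) (inv_mem hxM), ev_mul hxM hyM, ev_inv hxM]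
    exact (Subgroup.mem_normalizer_iff.1 (h.norm hx) _).1 hy
  card := by rw [card_img, card_img]; exact h.card

variable (hG : IsPGroup p G) {Φ : Subgroup G}
include hG

/-- Two distinct lines meet in the base. -/
theorem line_not_mem {X Y : Subgroup G} (hX : Step p Φ X) (hY : Step p Φ Y) (hne : Y ≠ X) {y : G} (hy : y ∈ Y)
    (hyΦ : y ∉ Φ) : y ∉ X := by
  intro hyX
  rcases hY.eq_of_between (C := X ⊓ Y) (le_inf hX.le hY.le) inf_le_right with e | e
  · exact hyΦ (e ▸ Subgroup.mem_inf.2 ⟨hyX, hy⟩)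
  · exact hne (Subgroup.eq_of_le_of_card_ge (inf_eq_right.1 e) (by rw [hX.card, hY.card]))

/-- An automorphism of `p`-power order fixing one line and moving another permutes the other lines transitively. -/
theorem exists_move {X Y Y' : Subgroup G} (hX : Step p Φ X) (hY : Step p Φ Y) (hY' : Step p Φ Y')
    (hXM : Step p X M) (hYM : Y ≤ M) (hY'M : Y' ≤ M) (hne : Y ≠ X) (hne' : Y' ≠ X) {r : MulAut M}
    (hrΦ : r ∈ pres Φ) (hrX : r ∈ pres X) (hrY : r ∉ pres Y) {k : ℕ} (hk : r ^ p ^ k = 1) :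
    ∃ n : ℕ, ∀ w, ev (r ^ n) w ∈ Y' ↔ w ∈ Y := by
  obtain ⟨y', hy', hy'Φ⟩ := hY'.exists_gen (p := p)
  obtain ⟨y0, hy0, hy0Φ⟩ := hY.exists_gen (p := p)
  have hy'X := line_not_mem hG hX hY' hne' hy' hy'Φ
  obtain ⟨j, hj⟩ := hXM.gen hG (hYM hy0) (line_not_mem hG hX hY hne hy0 hy0Φ) (hY'M hy')
  obtain ⟨y, hy, hyX', hyΦ⟩ : ∃ y ∈ Y, y⁻¹ * y' ∈ X ∧ y ∉ Φ := ⟨y0 ^ j, zpow_mem hy0 j, hj, fun h => hy'X (by
    have := mul_mem (hX.le h) hj
    rwa [mul_inv_cancel_left] at this)⟩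
  obtain ⟨x, hxdef⟩ : ∃ x, y⁻¹ * ev r y = x := ⟨_, rfl⟩
  have hry : ev r y = y * x := by rw [← hxdef, mul_inv_cancel_left]
  have hxX : x ∈ X := hxdef ▸ Wt.one_iff.1 (Wt.one_of_pow hG hXM le_rfl hrX (pres_self r) hk) y (hYM hy)
  have hXw := Wt.one_iff.1 (Wt.one_of_pow hG hX hXM.le hrΦ hrX hk)
  have hΦM : Φ ≤ M := hX.le.trans hXM.le
  have hxΦ : x ∉ Φ := fun h => hrY (mem_pres fun w hw => by
    obtain ⟨m, hm⟩ := hY.gen hG hy hyΦ hw
    obtain ⟨f, hf⟩ : ∃ f, (y ^ m)⁻¹ * w = f := ⟨_, rfl⟩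
    rw [hf] at hm
    rw [show w = y ^ m * f by rw [← hf, mul_inv_cancel_left], ev_mul (hYM (zpow_mem hy m)) (hΦM hm),
      ev_zpow (hYM hy), hry]
    exact mul_mem (zpow_mem (mul_mem hy (hY.le h)) m) (hY.le ((hrΦ _).2 hm)))
  have hpow : ∀ n : ℕ, (y * x ^ n)⁻¹ * ev (r ^ n) y ∈ Φ := by
    intro n
    induction n with
    | zero => simp [ev_id]
    | succ n ih =>
      obtain ⟨f, hf⟩ : ∃ f, (y * x ^ n)⁻¹ * ev (r ^ n) y = f := ⟨_, rfl⟩
      rw [hf] at ih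
      have he : ev (r ^ n) y = y * x ^ n * f := by rw [← hf, mul_inv_cancel_left]
      have hxn : (x ^ n)⁻¹ * ev r x ^ n ∈ Φ := by
        have := hX.zpow_congr hG hxX ((hrX x).2 hxX) (hXw x hxX) (n : ℤ)
        rwa [zpow_natCast, zpow_natCast] at this
      rw [pow_succ' r, ev_comp, he, ev_mul (mul_mem (hYM hy) (hXM.le (pow_mem hxX n))) (hΦM ih),
        ev_mul (hYM hy) (hXM.le (pow_mem hxX n)), ev_pow (hXM.le hxX), hry, pow_succ' x]
      rw [show (y * (x * x ^ n))⁻¹ * (y * x * ev r x ^ n * ev r f) = (x ^ n)⁻¹ * ev r x ^ n * ev r f by group]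
      exact mul_mem hxn ((hrΦ _).2 ih)
  obtain ⟨i, hi⟩ := hX.gen hG hxX hxΦ hyX'
  obtain ⟨n, hn⟩ : ∃ n : ℕ, (n : ZMod p) = i := ⟨(i : ZMod p).val, ZMod.natCast_zmod_val _⟩
  refine ⟨n, maps_iff (le_of_eq (by rw [hY.card, hY'.card])) fun w hw => ?_⟩
  have hy1 : ev (r ^ n) y ∈ Y' := by
    have h1 : (x ^ n)⁻¹ * x ^ i ∈ Φ := by
      rw [← zpow_natCast, ← zpow_neg, ← zpow_add]
      exact zpow_mem_of_cast (hX.pow_mem hG hxX) (by push_cast; rw [hn, neg_add_cancel])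
    have h2 := mul_mem (Φ.inv_mem (mul_mem h1 hi)) (hpow n)
    rw [show ((x ^ n)⁻¹ * x ^ i * ((x ^ i)⁻¹ * (y⁻¹ * y')))⁻¹ * ((y * x ^ n)⁻¹ * ev (r ^ n) y) =
      y'⁻¹ * ev (r ^ n) y by group] at h2
    simpa using mul_mem hy' (hY'.le h2)
  obtain ⟨m, hm⟩ := hY.gen hG hy hyΦ hw
  obtain ⟨f, hf⟩ : ∃ f, (y ^ m)⁻¹ * w = f := ⟨_, rfl⟩
  rw [hf] at hm
  rw [show w = y ^ m * f by rw [← hf, mul_inv_cancel_left], ev_mul (hYM (zpow_mem hy m)) (hΦM hm), ev_zpow (hYM hy)]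
  exact mul_mem (zpow_mem hy1 m) (hY'.le ((pow_mem hrΦ n _).2 hm))

end group

variable {Ω : Type*} [Group Ω] {S : Subgroup Ω} [Finite S] {F : FusionSystem S} {p : ℕ} [hp : Fact p.Prime]
  (hS : IsPGroup p S) (hF : F.IsSaturated p)

include hS in
theorem ind_pow {L : Subgroup S} {a : MulAut L} (ha : a ∈ ind L) : ∃ k, a ^ p ^ k = 1 := by
  obtain ⟨n, rfl⟩ := ha
  obtain ⟨k, hk⟩ := (hS.to_subgroup _) n
  exact ⟨k, by rw [← map_pow, hk, map_one]⟩

include hS in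
/-- The normalizer stabilizes a normalized series with steps of order `p`. -/
theorem ind_le_stab {L : Subgroup S} {l : List (Subgroup S)} (hle : ∀ A ∈ l, A ≤ L)
    (hn : ∀ A ∈ l, Subgroup.normalizer (L : Set S) ≤ Subgroup.normalizer (A : Set S))
    (hst : ∀ pr ∈ (⊥ :: l).zip l, Step p pr.1 pr.2) : ind L ≤ stab l := by
  intro a ha
  obtain ⟨k, hk⟩ := ind_pow hS ha
  obtain ⟨n, rfl⟩ := ha
  have hp' : ∀ A ∈ l, L.normalizerMonoidHom n ∈ pres A := fun A hA => conj_mem_pres (hle A hA) (hn A hA n.2)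
  refine ⟨hp', fun pr hpr => Wt.one_iff.1 (Wt.one_of_pow hS (hst pr hpr) (hle _ (List.of_mem_zip hpr).2) ?_
    (hp' _ (List.of_mem_zip hpr).2) hk)⟩
  rcases List.mem_cons.1 (List.of_mem_zip hpr).1 with e | e
  · rw [e]; exact pres_bot _
  · exact hp' _ e

include hS hF in
/-- Correct `τ` on the plane `M / Φ` by an element of `p`-power order and extend it. -/
theorem lift_step {M Φ P L : Subgroup S} (hfn : F.IsFullyNormalized (om M)) {l0 : List (Subgroup S)}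
    (hl0 : Φ ∈ l0) (hinv : ∀ A ∈ l0, autL F M ≤ pres A) (hle : ∀ A ∈ l0 ++ [L, M], A ≤ M)
    (hn : ∀ A ∈ l0 ++ [L, M], Subgroup.normalizer (M : Set S) ≤ Subgroup.normalizer (A : Set S))
    (hst : ∀ pr ∈ (⊥ :: (l0 ++ [L, M])).zip (l0 ++ [L, M]), Step p pr.1 pr.2)
    (hΦP : Step p Φ P) (hPM : Step p P M) (hΦL : Step p Φ L) (hLM : Step p L M)
    (hmove : ∃ u ∈ Subgroup.normalizer (M : Set S), u ∉ Subgroup.normalizer (P : Set S))
    {τ : MulAut M} (hτ : τ ∈ autL F M) (hτP : τ ∈ pres P) :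
    ∃ b ∈ autL F (Subgroup.normalizer (M : Set S)), ∃ γ ∈ autL F M, ∃ k : ℕ, γ ^ p ^ k = 1 ∧ γ ∈ pres P ∧
      (∀ x ∈ M, ev b x = ev γ (ev τ x)) ∧ γ * τ ∈ pres L := by
  suffices h : ∃ γ ∈ autL F M, ∃ k : ℕ, γ ^ p ^ k = 1 ∧ γ ∈ pres P ∧ γ * τ ∈ pres L by
    obtain ⟨γ, hγ, k, hk, hγP, hγL⟩ := h
    obtain ⟨b, hb, hbe⟩ := extend hS hF hfn hle (by simp) (ind_le_stab hS hle hn hst) (mul_mem hγ hτ)
      fun A hA => by
        rcases List.mem_append.1 hA with h | h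
        · exact hinv A h (mul_mem hγ hτ)
        · simp only [List.mem_cons, List.not_mem_nil, or_false] at h
          rcases h with rfl | rfl
          · exact hγL
          · exact pres_self _
    exact ⟨b, hb, γ, hγ, k, hk, hγP, fun x hx => (hbe x hx).trans (ev_comp _ _ x), hγL⟩
  obtain ⟨u, hu, huP⟩ := hmove
  set t : MulAut M := M.normalizerMonoidHom ⟨u, hu⟩ with ht
  have hti : t ∈ ind M := ⟨_, rfl⟩
  have htA : t ∈ autL F M := ind_le M hti
  obtain ⟨k, hk⟩ := ind_pow hS hti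
  have hLM' := hLM.le
  have hPM' := hPM.le
  have htΦ : ∀ {a : MulAut M}, a ∈ autL F M → a ∈ pres Φ := fun ha => hinv Φ hl0 ha
  have htL : t ∈ pres L := conj_mem_pres hLM' (hn L (by simp) hu)
  have htP : t ∉ pres P := fun h => huP (MaxEss.mem_norm fun x hx => by
    have h1 := (h x).2 hx
    rwa [ht, ev_conj _ (hPM' hx)] at h1)
  have hLP : P ≠ L := fun e => htP (e ▸ htL)
  set L' := img τ L hLM' with hL'
  have hτΦ := htΦ hτ
  have eΦ : img τ Φ (hΦL.le.trans hLM') = Φ := SetLike.ext fun x => (Subgroup.inv_mem _ hτΦ) x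
  have eM : img τ M le_rfl = M := SetLike.ext fun x => ev_mem_iff
  have hΦL' : Step p Φ L' := by
    have := hΦL.img τ (hΦL.le.trans hLM') hLM'
    rwa [eΦ] at this
  have hL'M : Step p L' M := by
    have := hLM.img τ hLM' le_rfl
    rwa [eM] at this
  by_cases hLL : L' = L
  · refine ⟨1, one_mem _, 0, one_pow _, one_mem _, ?_⟩
    rw [one_mul]
    intro x
    rw [← SetLike.ext_iff.1 hLL (ev τ x), hL', mem_img, ev_inv_cancel]
  have hPL' : P ≠ L' := fun e => hLP (SetLike.ext fun x => by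
    rw [← hτP x, SetLike.ext_iff.1 e (ev τ x), hL', mem_img, ev_inv_cancel])
  set t' : MulAut M := τ * t * τ⁻¹ with ht'
  have ht'A : t' ∈ autL F M := mul_mem (mul_mem hτ htA) (Subgroup.inv_mem _ hτ)
  have hk' : t' ^ p ^ k = 1 := by rw [ht', conj_pow, hk, mul_one, mul_inv_cancel]
  have ht'L : t' ∈ pres L' := fun x => by
    rw [hL', mem_img, mem_img, ht', ev_comp, ev_comp, ev_inv_cancel, htL]
  have ht'P : t' ∉ pres P := fun h => htP (by
    have := mul_mem (mul_mem (Subgroup.inv_mem _ hτP) h) hτP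
    rwa [show τ⁻¹ * t' * τ = t by rw [ht']; group] at this)
  obtain ⟨n, hn'⟩ := exists_move hS hΦL' hΦP hΦL hL'M hPM' hLM' hPL' (Ne.symm hLL) (htΦ ht'A) ht'L ht'P hk'
  set g := (t' ^ n)⁻¹
  have hgA : g ∈ autL F M := Subgroup.inv_mem _ (pow_mem ht'A n)
  have hgL' : g ∈ pres L' := Subgroup.inv_mem _ (pow_mem ht'L n)
  have hg : ∀ x, ev g⁻¹ x ∈ L ↔ x ∈ P := fun x => by rw [inv_inv]; exact hn' x
  have htL' : t ∉ pres L' := fun h => htP (by
    obtain ⟨m, hm⟩ := exists_move hS hΦL hΦP hΦL' hLM hPM' img_le hLP hLL (htΦ htA) htL htP hk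
    intro x
    rw [← hm, ← ev_comp, ← pow_succ, pow_succ', ev_comp, h, hm])
  set r := g * t * g⁻¹ with hr
  have hrk : r ^ p ^ k = 1 := by rw [hr, conj_pow, hk, mul_one, mul_inv_cancel]
  have hrP : r ∈ pres P := fun x => by
    rw [← hg, ← hg x, hr, ev_comp, ev_comp, ev_inv_cancel, htL]
  have hrA : r ∈ autL F M := mul_mem (mul_mem hgA htA) (Subgroup.inv_mem _ hgA)
  have hrL' : r ∉ pres L' := fun h => htL' (by
    have := mul_mem (mul_mem (Subgroup.inv_mem _ hgL') h) hgL'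
    rwa [show g⁻¹ * r * g = t by rw [hr]; group] at this)
  obtain ⟨m, hm⟩ := exists_move hS hΦP hΦL' hΦL hPM img_le hLM' (Ne.symm hPL') (Ne.symm hLP)
    (htΦ hrA) hrP hrL' hrk
  refine ⟨r ^ m, pow_mem hrA m, k, by rw [← pow_mul, mul_comm, pow_mul, hrk, one_pow], pow_mem hrP m, fun x => ?_⟩
  rw [ev_comp, hm, hL', mem_img, ev_inv_cancel]

end Cfsg.Agent.OrderFive
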