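import Cfsg.Agent.Lib.OrderFive.Maps

/-!
# Torus elements from two opposite transvections
-/

set_option autoImplicit false
set_option linter.unusedSectionVars false
set_option linter.style.haveILetI false

namespace Cfsg.Agent.OrderFive

open Cfsg.Agent
open scoped commutatorElement

variable {p : ℕ} [hp : Fact p.Prime]

section comm

variable {A : Type*} [CommGroup A] {Γ : Type*} [Group Γ] (f : Γ →* MulAut A) {z y : A}

theorem exists_power {a : Γ} {e : ℤ} (he : (e : ZMod p) ≠ 0) (haz : f a z = z) (hay : f a y = y * z ^ e)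
    (hzp : z ^ p = 1) (s : ℤ) : ∃ n : ℕ, f (a ^ n) z = z ∧ f (a ^ n) y = y * z ^ s := by
  obtain ⟨h1, h2⟩ := PlaneFrame.pow_transv haz hay ((s : ZMod p) * (e : ZMod p)⁻¹).val
  refine ⟨_, by rw [map_pow]; exact h1, ?_⟩
  rw [map_pow, h2, PlaneFrame.zpow_congr hzp (j := s) ?_]
  push_cast
  rw [ZMod.natCast_zmod_val, mul_left_comm, mul_inv_cancel₀ he, mul_one]

/-- Two opposite transvections give every torus element of their plane. -/
theorem torus_comm {a b : Γ} {e e' : ℤ} (he : (e : ZMod p) ≠ 0) (he' : (e' : ZMod p) ≠ 0) (hzp : z ^ p = 1)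
    (hyp : y ^ p = 1) (haz : f a z = z) (hay : f a y = y * z ^ e) (hby : f b y = y) (hbz : f b z = z * y ^ e')
    {c d : ℤ} (hcd : (c : ZMod p) * d = 1) :
    ∃ h ∈ Subgroup.closure ({a, b} : Set Γ), f h z = z ^ c ∧ f h y = y ^ d := by
  have hU : ∀ s : ℤ, ∃ g ∈ Subgroup.closure ({a, b} : Set Γ), f g z = z ∧ f g y = y * z ^ s := fun s => by
    obtain ⟨n, h⟩ := exists_power f he haz hay hzp s
    exact ⟨a ^ n, Subgroup.pow_mem _ (Subgroup.subset_closure (by simp)) n, h⟩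
  have hW : ∀ s : ℤ, ∃ g ∈ Subgroup.closure ({a, b} : Set Γ), f g y = y ∧ f g z = z * y ^ s := fun s => by
    obtain ⟨n, h⟩ := exists_power f he' hby hbz hyp s
    exact ⟨b ^ n, Subgroup.pow_mem _ (Subgroup.subset_closure (by simp)) n, h⟩
  have step : ∀ s s' : ℤ, (s : ZMod p) * s' = 1 →
      ∃ g ∈ Subgroup.closure ({a, b} : Set Γ), f g z = y ^ (-s') ∧ f g y = z ^ s := by
    intro s s' hs
    obtain ⟨u, hu, hu1, hu2⟩ := hU s
    obtain ⟨v, hv, hv1, hv2⟩ := hW (-s')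
    have e1 : (y * z ^ s) ^ (-s') * z = y ^ (-s') := by
      rw [mul_zpow, ← zpow_mul, PlaneFrame.zpow_congr hzp (i := s * -s') (j := -1) (by push_cast; rw [mul_neg, hs]),
        mul_assoc, zpow_neg_one, inv_mul_cancel, mul_one]
    refine ⟨u * v * u, mul_mem (mul_mem hu hv) hu, ?_, ?_⟩
    · rw [map_mul, map_mul, MulAut.mul_apply, MulAut.mul_apply, hu1, hv2, map_mul, map_zpow, hu1, hu2, mul_comm]
      exact e1
    · rw [map_mul, map_mul, MulAut.mul_apply, MulAut.mul_apply, hu2, map_mul, map_zpow, hv1, hv2, mul_zpow,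
        ← zpow_mul, PlaneFrame.zpow_congr hyp (i := -s' * s) (j := -1) (by push_cast; rw [neg_mul, mul_comm, hs]),
        mul_left_comm, zpow_neg_one, mul_inv_cancel, mul_one, map_zpow, hu1]
  obtain ⟨w, hw, hw1, hw2⟩ := step c d hcd
  obtain ⟨v, hv, hv1, hv2⟩ := step (-1) (-1) (by norm_num)
  refine ⟨w * v, mul_mem hw hv, ?_, ?_⟩
  · rw [map_mul, MulAut.mul_apply, hv1, neg_neg, zpow_one, hw2]
  · rw [map_mul, MulAut.mul_apply, hv2, map_zpow, hw1, ← zpow_mul, show -d * -1 = d by ring]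

/-- Two opposite transvections move the first direction to every other one. -/
theorem move_comm {a b : Γ} {e e' : ℤ} (he : (e : ZMod p) ≠ 0) (he' : (e' : ZMod p) ≠ 0) (hzp : z ^ p = 1)
    (hyp : y ^ p = 1) (haz : f a z = z) (hay : f a y = y * z ^ e) (hbz : f b z = z * y ^ e') (hby : f b y = y)
    {i j : ℤ} (hs : z ^ i * y ^ j ≠ 1) :
    ∃ g ∈ Subgroup.closure ({a, b} : Set Γ), f g z ∈ Subgroup.zpowers (z ^ i * y ^ j) := by
  have gen : ∀ {w : A} {k : ℤ}, w ^ p = 1 → (k : ZMod p) ≠ 0 → w ∈ Subgroup.zpowers (w ^ k) := fun {w k} hw hk => by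
    obtain ⟨k', hk'⟩ := ZMod.intCast_surjective ((k : ZMod p)⁻¹)
    refine ⟨k', ?_⟩
    show (w ^ k) ^ k' = w
    rw [← zpow_mul, PlaneFrame.zpow_congr hw (j := 1) (by push_cast; rw [hk', mul_inv_cancel₀ hk]), zpow_one]
  by_cases hi : (i : ZMod p) = 0
  · have hzi : z ^ i = 1 := by
      simpa using PlaneFrame.zpow_congr hzp (i := i) (j := 0) (by simpa using hi)
    rw [hzi, one_mul] at hs ⊢
    have hj : (j : ZMod p) ≠ 0 := fun h => hs (by
      simpa using PlaneFrame.zpow_congr hyp (i := j) (j := 0) (by simpa using h))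
    obtain ⟨n, hn1, hn2⟩ := exists_power f he' hby hbz hyp 1
    obtain ⟨m, hm1, hm2⟩ := exists_power f he haz hay hzp (-1)
    refine ⟨a ^ m * b ^ n, mul_mem (Subgroup.pow_mem _ (Subgroup.subset_closure (by simp)) m)
      (Subgroup.pow_mem _ (Subgroup.subset_closure (by simp)) n), ?_⟩
    rw [map_mul, MulAut.mul_apply, hn2, map_mul, map_zpow, hm1, hm2, zpow_one, zpow_neg_one, mul_left_comm,
      mul_inv_cancel, mul_one]
    exact gen hyp hj
  · obtain ⟨i', hi'⟩ := ZMod.intCast_surjective ((i : ZMod p)⁻¹)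
    obtain ⟨n, hn1, hn2⟩ := exists_power f he' hby hbz hyp (j * i')
    refine ⟨b ^ n, Subgroup.pow_mem _ (Subgroup.subset_closure (by simp)) n, i', ?_⟩
    show (z ^ i * y ^ j) ^ i' = _
    rw [hn2, mul_zpow, ← zpow_mul, ← zpow_mul,
      PlaneFrame.zpow_congr hzp (i := i * i') (j := 1) (by push_cast; rw [hi', mul_inv_cancel₀ hi]), zpow_one]

end comm

variable {G : Type*} [Group G] [Finite G] {M D : Subgroup G}

/-- The torus modulo an invariant subgroup containing the commutators. -/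
theorem torus (hDM : D ≤ M) (hn : M ≤ Subgroup.normalizer (D : Set G)) (hc : ∀ x ∈ M, ∀ y ∈ M, ⁅x, y⁆ ∈ D)
    {z y : G} (hz : z ∈ M) (hy : y ∈ M) (hzp : z ^ p ∈ D) (hyp : y ^ p ∈ D) {a b : MulAut M} (ha : a ∈ pres D)
    (hb : b ∈ pres D) {e e' : ℤ} (he : (e : ZMod p) ≠ 0) (he' : (e' : ZMod p) ≠ 0)
    (haz : z⁻¹ * ev a z ∈ D) (hay : (y * z ^ e)⁻¹ * ev a y ∈ D)
    (hby : y⁻¹ * ev b y ∈ D) (hbz : (z * y ^ e')⁻¹ * ev b z ∈ D) {c d : ℤ} (hcd : (c : ZMod p) * d = 1) :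
    ∃ h ∈ Subgroup.closure ({a, b} : Set (MulAut M)), (z ^ c)⁻¹ * ev h z ∈ D ∧ (y ^ d)⁻¹ * ev h y ∈ D := by
  haveI : (D.subgroupOf M).Normal := Subgroup.normal_subgroupOf_of_le_normalizer hn
  set D' := D.subgroupOf M
  letI : CommGroup (M ⧸ D') := { (inferInstance : Group (M ⧸ D')) with
    mul_comm := fun u v => by
      induction u using QuotientGroup.induction_on with
      | _ u =>
        induction v using QuotientGroup.induction_on with
        | _ v =>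
          show QuotientGroup.mk' D' u * QuotientGroup.mk' D' v = QuotientGroup.mk' D' v * QuotientGroup.mk' D' u
          exact MaxEss.mk_comm.2 (Subgroup.mem_subgroupOf.2 (hc u u.2 v v.2)) }
  have hmap : ∀ γ : (pres D : Subgroup (MulAut M)), D'.map (γ : MulAut M).toMonoidHom = D' := fun γ =>
    Subgroup.eq_of_le_of_card_ge (by
      rintro _ ⟨x, hx, rfl⟩
      rw [Subgroup.mem_subgroupOf]
      show ((γ : MulAut M) x : G) ∈ D
      rw [← ev_coe]
      exact (γ.2 _).2 (Subgroup.mem_subgroupOf.1 hx))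
      (Subgroup.card_map_of_injective (γ : MulAut M).injective).ge
  let f : (pres D : Subgroup (MulAut M)) →* MulAut (M ⧸ D') :=
    { toFun := fun γ => QuotientGroup.congr D' D' (γ : MulAut M) (hmap γ)
      map_one' := MulEquiv.ext fun u => by
        induction u using QuotientGroup.induction_on with
        | _ u => rfl
      map_mul' := fun γ δ => MulEquiv.ext fun u => by
        induction u using QuotientGroup.induction_on with
        | _ u => rfl }
  have key : ∀ (γ : (pres D : Subgroup (MulAut M))) (u v : M), ((v : G))⁻¹ * ev (γ : MulAut M) u ∈ D ↔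
      f γ (QuotientGroup.mk u) = QuotientGroup.mk v := by
    intro γ u v
    show _ ↔ (QuotientGroup.mk ((γ : MulAut M) u) : M ⧸ D') = QuotientGroup.mk v
    rw [eq_comm, QuotientGroup.eq, Subgroup.mem_subgroupOf, ev_coe]
    rfl
  have hpow : ∀ u : M, (u : G) ^ p ∈ D → (QuotientGroup.mk u : M ⧸ D') ^ p = 1 := fun u hu => by
    rw [← QuotientGroup.mk_pow]
    exact (QuotientGroup.eq_one_iff _).2 (Subgroup.mem_subgroupOf.2 hu)
  obtain ⟨h, hh, h1, h2⟩ := torus_comm f (a := ⟨a, ha⟩) (b := ⟨b, hb⟩) he he'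
    (z := (QuotientGroup.mk ⟨z, hz⟩ : M ⧸ D')) (y := (QuotientGroup.mk ⟨y, hy⟩ : M ⧸ D'))
    (hpow _ hzp) (hpow _ hyp) ((key ⟨a, ha⟩ ⟨z, hz⟩ ⟨z, hz⟩).1 haz)
    ((key ⟨a, ha⟩ ⟨y, hy⟩ ((⟨y, hy⟩ : M) * (⟨z, hz⟩ : M) ^ e)).1 hay) ((key ⟨b, hb⟩ ⟨y, hy⟩ ⟨y, hy⟩).1 hby)
    ((key ⟨b, hb⟩ ⟨z, hz⟩ ((⟨z, hz⟩ : M) * (⟨y, hy⟩ : M) ^ e')).1 hbz) hcd
  refine ⟨h, ?_, ?_, ?_⟩
  · have := Subgroup.mem_map_of_mem (pres D : Subgroup (MulAut M)).subtype hh
    rwa [MonoidHom.map_closure, Set.image_pair] at this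
  · exact (key h ⟨z, hz⟩ ((⟨z, hz⟩ : M) ^ c)).2 h1
  · exact (key h ⟨y, hy⟩ ((⟨y, hy⟩ : M) ^ d)).2 h2

end Cfsg.Agent.OrderFive
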