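import Cfsg.Agent.Lib.OrderFive.General
import Cfsg.Agent.Lib.OrderFive.LineStep
import Cfsg.Agent.Lib.OrderFive.Torus

/-!
# Abelian essential subgroups of order `p²` and `p³`
-/

set_option autoImplicit false
set_option linter.unusedSectionVars false
set_option linter.style.haveILetI false

namespace Cfsg.Agent.OrderFive

open Cfsg Cfsg.FusionSystem Cfsg.Agent Cfsg.Agent.FusionSys Cfsg.Agent.MaxEss
open scoped commutatorElement

/-- The automorphisms fixing `x`. -/
def fixer {G : Type*} [Group G] {L : Subgroup G} (x : G) : Subgroup (MulAut L) where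
  carrier := {a | ev a x = x}
  one_mem' := ev_id x
  mul_mem' {a b} ha hb := by show ev (a * b) x = x; rw [ev_comp, hb, ha]
  inv_mem' {a} ha := by show ev a⁻¹ x = x; conv_lhs => rw [← (ha : ev a x = x), ev_inv_cancel]

/-- The automorphisms acting trivially modulo `K`. -/
def kp {G : Type*} [Group G] {L : Subgroup G} (K : Subgroup G) : Subgroup (MulAut L) where
  carrier := {a | ∀ x ∈ L, x⁻¹ * ev a x ∈ K}
  one_mem' x _ := by rw [ev_id, inv_mul_cancel]; exact one_mem K
  mul_mem' {a b} ha hb x hx := by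
    have := mul_mem (hb x hx) (ha _ (ev_mem (a := b) hx))
    rwa [mul_assoc, mul_inv_cancel_left, ← ev_comp] at this
  inv_mem' {a} ha x hx := by
    have := K.inv_mem (ha _ (ev_mem (a := a⁻¹) hx))
    rwa [mul_inv_rev, inv_inv, ev_cancel_inv] at this

variable {Ω : Type*} [Group Ω] {S : Subgroup Ω} [Finite S] {F : FusionSystem S} {p : ℕ} [hp : Fact p.Prime]

/-- An abelian essential subgroup `E` of exponent `p`, its normalizer `N` with `|N : E| = p`, the centre `H` of
`N` of index `p` in `E`, and the commutator `z = ⁅u, e⁆`. -/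
structure Ess (F : FusionSystem S) (p : ℕ) (E H : Subgroup S) (u e z : S) : Prop where
  ess : F.IsEssential p (om E)
  comm : ∀ a ∈ E, ∀ b ∈ E, a * b = b * a
  exp : ∀ a ∈ E, a ^ p = 1
  stepN : Step p E (Subgroup.normalizer (E : Set S))
  stepH : Step p H E
  hu : u ∈ Subgroup.normalizer (E : Set S)
  huE : u ∉ E
  he : e ∈ E
  heH : e ∉ H
  hz : ⁅u, e⁆ = z
  hzH : z ∈ H
  hz1 : z ≠ 1
  memH : ∀ x, x ∈ H ↔ x ∈ E ∧ ∀ v ∈ Subgroup.normalizer (E : Set S), v * x = x * v
  commN : ∀ x ∈ Subgroup.normalizer (E : Set S), ∀ y ∈ Subgroup.normalizer (E : Set S), ⁅x, y⁆ ∈ Subgroup.zpowers z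

variable (hS : IsPGroup p S) (hF : F.IsSaturated p)
include hS hF

omit hF in
theorem card_ind_of_centric {E : Subgroup S} (hc : Subgroup.centralizer (E : Set S) ≤ E)
    (hcomm : ∀ a ∈ E, ∀ b ∈ E, a * b = b * a) :
    Nat.card (ind E) * Nat.card E = Nat.card (Subgroup.normalizer (E : Set S)) := by
  have hk : E.normalizerMonoidHom.ker = E.subgroupOf (Subgroup.normalizer (E : Set S)) := by
    ext n
    rw [MonoidHom.mem_ker, Subgroup.mem_subgroupOf]
    refine ⟨fun h => hc (Subgroup.mem_centralizer_iff.2 fun x hx => ?_), fun h => ext_ev fun x hx => ?_⟩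
    · have h2 := ev_conj n hx
      rw [h, ev_id] at h2
      exact (eq_mul_inv_iff_mul_eq.1 h2)
    · rw [ev_conj n hx, ev_id, hcomm _ h _ hx, mul_inv_cancel_right]
  have h1 := E.normalizerMonoidHom.ker.card_mul_index
  rw [Subgroup.index_ker, hk, Nat.card_congr (Subgroup.subgroupOfEquivOfLe Subgroup.le_normalizer).toEquiv,
    mul_comm] at h1
  exact h1

/-- At most `p` automorphisms are induced. -/
theorem card_ind_le (h2 : p ≠ 2) {E : Subgroup S} (hE : F.IsEssential p (om E))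
    (hcomm : ∀ a ∈ E, ∀ b ∈ E, a * b = b * a) (hexp : ∀ a ∈ E, a ^ p = 1)
    (hk : Nat.card E = p ^ 2 ∨ Nat.card E = p ^ 3) : Nat.card (ind E) ≤ p := by
  letI : CommGroup E := { (inferInstance : Group E) with
    mul_comm := fun a b => Subtype.ext (hcomm a a.2 b b.2) }
  have hexp' : ∀ a : E, a ^ p = 1 := fun a => Subtype.ext (by rw [SubmonoidClass.coe_pow]; exact hexp a a.2)
  rcases hk with hk | hk
  · have hEp : IsPGroup p E := hS.to_subgroup E
    have hTp : IsPGroup p (ind E) := ind_pgroup hS hF E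
    obtain ⟨a0, ha0, ha0T, hc1⟩ := MaxEss.exists_step hexp' hEp hTp ⊥ (fun σ _ x hx => by
      rw [Subgroup.mem_bot] at hx ⊢; rw [hx, map_one]) (fun h => by
        have := congrArg (fun T : Subgroup E => Nat.card T) h
        simp only [Subgroup.card_bot, Subgroup.card_top, hk] at this
        exact absurd this (Nat.one_lt_pow (by norm_num) hp.out.one_lt).ne)
    rw [Subgroup.card_bot, mul_one, bot_sup_eq] at hc1
    have hfix : ∀ σ ∈ ind E, σ a0 = a0 := fun σ hσ => (inv_mul_eq_one.1 (Subgroup.mem_bot.1 (ha0T σ hσ))).symm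
    obtain ⟨b0, hb0, hb0T, hc2⟩ := MaxEss.exists_step hexp' hEp hTp (Subgroup.zpowers a0)
      (fun σ hσ x hx => by
        obtain ⟨i, rfl⟩ := Subgroup.mem_zpowers_iff.1 hx
        rw [map_zpow, hfix σ hσ]; exact Subgroup.zpow_mem_zpowers a0 i)
      (fun h => by
        rw [h, Subgroup.card_top, hk] at hc1
        exact absurd hc1 (by nlinarith [hp.out.one_lt]))
    rw [hc1, ← sq, ← hk] at hc2
    have htop := Subgroup.eq_top_of_card_eq _ hc2
    refine hc1 ▸ Nat.card_le_card_of_injective (fun σ : ind E => (⟨_, hb0T σ σ.2⟩ : Subgroup.zpowers a0))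
      fun σ ρ h => Subtype.ext (MulEquiv.ext fun x => ?_)
    have he : (σ : MulAut E) b0 = (ρ : MulAut E) b0 := mul_left_cancel (congrArg Subtype.val h)
    have hle : (⊤ : Subgroup E) ≤ (σ : MulAut E).toMonoidHom.eqLocus (ρ : MulAut E).toMonoidHom := htop ▸
      sup_le (Subgroup.zpowers_le.2 (show (σ : MulAut E) a0 = (ρ : MulAut E) a0 by
        rw [hfix _ σ.2, hfix _ ρ.2])) (Subgroup.zpowers_le.2 he)
    exact hle (Subgroup.mem_top x)
  · obtain ⟨M, hM, hmem⟩ := exists_strong hS hF hE hcomm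
    have := MaxEss.card_le_prime hM h2 hexp' hk ((ind E).subgroupOf (autL F E)) (fun a ha => hmem a (by
        obtain ⟨n, -, hn⟩ := mem_ind_iff.1 ha
        exact ⟨n, fun x => by rw [← hn x x.2, ev_coe]; rfl⟩))
      ((ind_pgroup hS hF E).comap_of_injective _ (autL F E).subtype_injective)
    rwa [Nat.card_congr (Subgroup.subgroupOfEquivOfLe (ind_le E)).toEquiv] at this

/-- The data of an abelian essential subgroup. -/
theorem exists_ess (h2 : p ≠ 2) (hcard : Nat.card S = p ^ 5) {E : Subgroup S} (hE : F.IsEssential p (om E))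
    (hcomm : ∀ a ∈ E, ∀ b ∈ E, a * b = b * a) (hexp : ∀ a ∈ E, a ^ p = 1)
    (hk : Nat.card E = p ^ 2 ∨ Nat.card E = p ^ 3) : ∃ H u e z, Ess F p E H u e z := by
  set N := Subgroup.normalizer (E : Set S) with hN
  have hc := centralizer_le hS hF hE
  have hEtop := essential_ne_top hS hF hE
  have hEN := normalizer_grows hS hEtop
  have hcN : Nat.card N = p * Nat.card E := by
    refine le_antisymm ?_ (pow_le_of_lt hS hEN)
    rw [← card_ind_of_centric hS hc hcomm]
    exact Nat.mul_le_mul_right _ (card_ind_le hS hF h2 hE hcomm hexp hk)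
  have hstN : Step p E N := step_of_card hS Subgroup.le_normalizer hcN
  obtain ⟨u, hu, huE⟩ := hstN.exists_gen (p := p)
  set H := E ⊓ Subgroup.centralizer (N : Set S) with hH
  have memH : ∀ x, x ∈ H ↔ x ∈ E ∧ ∀ v ∈ N, v * x = x * v := fun x => by
    rw [hH, Subgroup.mem_inf, Subgroup.mem_centralizer_iff]; rfl
  have hHne : H ≠ E := fun h => huE (hc (Subgroup.mem_centralizer_iff.2 fun x hx =>
    (((memH x).1 (h.ge hx)).2 u hu).symm))
  have hHlt : H < E := lt_of_le_of_ne inf_le_left hHne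
  have hcH : Nat.card E = p * Nat.card H := by
    refine le_antisymm ?_ (pow_le_of_lt hS hHlt)
    rcases hk with hk | hk
    · rw [hk, sq]
      refine Nat.mul_le_mul_left p ?_
      have hnt : (⊥ : Subgroup S) < Subgroup.center S := by
        haveI : Nontrivial S :=
          Finite.one_lt_card_iff_nontrivial.1 (hcard ▸ Nat.one_lt_pow (by norm_num) hp.out.one_lt)
        haveI := hS.center_nontrivial
        exact bot_lt_iff_ne_bot.2 ((Subgroup.nontrivial_iff_ne_bot _).1 inferInstance)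
      have h1 := pow_le_of_lt hS hnt
      rw [Subgroup.card_bot, mul_one] at h1
      exact h1.trans (Subgroup.card_le_of_le fun x hx => (memH x).2
        ⟨center_le_essential hS hF hE hx, fun v _ => Subgroup.mem_center_iff.1 hx v⟩)
    · have hNtop : N ≠ ⊤ := fun h => by
        rw [h, Subgroup.card_top, hcard, hk, ← pow_succ'] at hcN
        exact absurd (Nat.pow_right_injective hp.out.two_le hcN) (by omega)
      obtain ⟨g, hg, hgN⟩ : ∃ g ∈ Subgroup.normalizer (N : Set S), g ∉ N :=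
        let ⟨g, h1, h2⟩ := SetLike.exists_of_lt (normalizer_grows hS hNtop); ⟨g, h1, h2⟩
      set E' := E.map (MulAut.conj g).toMonoidHom with hE'
      have hE'N : E' ≤ N := by
        rintro _ ⟨x, hx, rfl⟩
        exact (Subgroup.mem_normalizer_iff.1 hg x).1 (hstN.le hx)
      have hE'c : Nat.card E' = p ^ 3 :=
        (Subgroup.card_map_of_injective (MulAut.conj g).injective).trans hk
      have hne : ¬ E' ≤ E := fun h => hgN (MaxEss.mem_norm fun x hx => h ⟨x, hx, rfl⟩)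
      have hsup : E ⊔ E' = N := (hstN.eq_of_between le_sup_left (sup_le hstN.le hE'N)).resolve_left
        fun h => hne (h ▸ le_sup_right)
      have hcd := SolvBasic.card_sup_mul_card_inf (N := E) (H := E') (hE'N.trans hstN.norm)
      rw [hsup, hcN, hk, hE'c] at hcd
      have hle : E ⊓ E' ≤ H := by
        rintro x ⟨hx, hx'⟩
        refine (memH x).2 ⟨hx, fun v hv => ?_⟩
        have hcl : N ≤ Subgroup.centralizer {x} := hsup ▸ sup_le
          (fun a ha => Subgroup.mem_centralizer_singleton_iff.2 (hcomm a ha x hx)) (by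
            rintro _ ⟨y, hy, rfl⟩
            obtain ⟨x', hx'', rfl⟩ := hx'
            rw [Subgroup.mem_centralizer_singleton_iff, ← map_mul, ← map_mul, hcomm y hy x' hx''])
        exact Subgroup.mem_centralizer_singleton_iff.1 (hcl hv)
      have h3 : p ^ 3 * p ^ 3 ≤ p * p ^ 3 * Nat.card H := hcd ▸ Nat.mul_le_mul_left _ (Subgroup.card_le_of_le hle)
      rw [mul_assoc, mul_comm (p ^ 3) (Nat.card H), ← mul_assoc] at h3
      rw [hk]
      exact Nat.le_of_mul_le_mul_right h3 (pow_pos hp.out.pos 3)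
  have hstH : Step p H E := step_of_card hS inf_le_left hcH
  obtain ⟨e, he, heH⟩ := hstH.exists_gen (p := p)
  have hnH : N ≤ Subgroup.normalizer (H : Set S) := fun v hv => MaxEss.mem_norm fun x hx => by
    rw [((memH x).1 hx).2 v hv, mul_inv_cancel_right]; exact hx
  obtain ⟨z, hz⟩ : ∃ z, ⁅u, e⁆ = z := ⟨_, rfl⟩
  have hzH : z ∈ H := hz ▸ MaxEss.step_central hS hstN.le hnH le_rfl hstH.le hcH u hu e he
  have hEu : ∀ w ∈ E, ⁅u, w⁆ ∈ Subgroup.zpowers z := by
    intro w hw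
    obtain ⟨k, hk'⟩ := hstH.gen hS he heH hw
    obtain ⟨h, hh⟩ : ∃ h, (e ^ k)⁻¹ * w = h := ⟨_, rfl⟩
    rw [hh] at hk'
    have hwe : w = e ^ k * h := by rw [← hh, mul_inv_cancel_left]
    have h1 : ⁅u, ⁅u, e⁆⁆ ∈ (⊥ : Subgroup S) := by
      rw [Subgroup.mem_bot, commutatorElement_eq_one_iff_mul_comm, hz]
      exact ((memH z).1 hzH).2 u hu
    have h2 : ⁅e, ⁅u, e⁆⁆ ∈ (⊥ : Subgroup S) := by
      rw [Subgroup.mem_bot, commutatorElement_eq_one_iff_mul_comm, hz]
      exact ((memH z).1 hzH).2 e (hstN.le he)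
    have h3 : ⁅u, h⁆ ∈ (⊥ : Subgroup S) := by
      rw [Subgroup.mem_bot, commutatorElement_eq_one_iff_mul_comm]
      exact ((memH h).1 hk').2 u hu
    have := comm_transfer (D := (⊥ : Subgroup S)) (x := u) (y := e) (r := 1) (q := h) 1 k h1 h2
      (by simp) (by simp) h3
    rw [Subgroup.mem_bot, inv_mul_eq_one, zpow_one, mul_one, hz, one_mul, ← hwe] at this
    exact this ▸ Subgroup.zpow_mem_zpowers z k
  have hz1 : z ≠ 1 := by
    rintro rfl
    refine heH ((memH e).2 ⟨he, fun v hv => ?_⟩)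
    obtain ⟨k, hk'⟩ := hstN.gen hS hu huE hv
    have hc1 : Commute u e := commutatorElement_eq_one_iff_mul_comm.1 hz
    rw [← mul_inv_cancel_left (u ^ k) v]
    exact ((hc1.zpow_left k).mul_left (hcomm _ hk' e he)).eq
  refine ⟨H, u, e, z, hE, hcomm, hexp, hstN, hstH, hu, huE, he, heH, hz, hzH, hz1, memH, fun x hx y hy => ?_⟩
  haveI : ((Subgroup.zpowers z).subgroupOf N).Normal := normal_of_le_center fun c hc => by
    obtain ⟨i, hi⟩ := Subgroup.mem_zpowers_iff.1 (Subgroup.mem_subgroupOf.1 hc)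
    exact Subgroup.mem_center_iff.2 fun v => Subtype.ext (by
      show (v : S) * c = c * v
      rw [← hi]
      exact (show Commute (v : S) z from ((memH z).1 hzH).2 v v.2).zpow_right i)
  obtain ⟨i, hi⟩ := hstN.gen hS hu huE hx
  obtain ⟨j, hj⟩ := hstN.gen hS hu huE hy
  have h1 : ∀ w ∈ E, ⁅w, u⁆ ∈ Subgroup.zpowers z := fun w hw => by
    rw [← commutatorElement_inv]; exact inv_mem (hEu w hw)
  have := comm_transfer (D := (Subgroup.zpowers z).subgroupOf N) (x := (⟨u, hu⟩ : N)) (y := ⟨u, hu⟩)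
    (r := ⟨_, hstN.le hi⟩) (q := ⟨_, hstN.le hj⟩) i j (by simp) (by simp) (h1 _ hi)
    (by
      show ⁅(u ^ i)⁻¹ * x, (u ^ j)⁻¹ * y⁆ ∈ Subgroup.zpowers z
      rw [commutatorElement_eq_one_iff_mul_comm.2 (hcomm _ hi _ hj)]
      exact one_mem _)
    (hEu _ hj)
  rw [commutatorElement_self, one_zpow, inv_one, one_mul, Subgroup.mem_subgroupOf] at this
  change ⁅u ^ i * ((u ^ i)⁻¹ * x), u ^ j * ((u ^ j)⁻¹ * y)⁆ ∈ Subgroup.zpowers z at this
  rwa [mul_inv_cancel_left, mul_inv_cancel_left] at this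

namespace Ess

variable {E H : Subgroup S} {u e z : S} (d : Ess F p E H u e z)
include d

omit hS hF in
theorem hzE : z ∈ E := d.stepH.le d.hzH

omit hS hF in
/-- The transvection induced by `u`. -/
theorem t_spec {x : S} (hx : x ∈ E) :
    ev (E.normalizerMonoidHom ⟨u, d.hu⟩) x = u * x * u⁻¹ ∧
      x⁻¹ * ev (E.normalizerMonoidHom ⟨u, d.hu⟩) x ∈ Subgroup.zpowers z := by
  have h : ev (E.normalizerMonoidHom ⟨u, d.hu⟩) x = u * x * u⁻¹ := ev_conj _ hx
  refine ⟨h, ?_⟩
  rw [h, show x⁻¹ * (u * x * u⁻¹) = ⁅x⁻¹, u⁆ by simp only [commutatorElement_def]; group]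
  exact d.commN _ (d.stepN.le (inv_mem hx)) _ d.hu

theorem fix_iff {x : S} (hx : x ∈ E) : ev (E.normalizerMonoidHom ⟨u, d.hu⟩) x = x ↔ x ∈ H := by
  rw [(d.t_spec hx).1, mul_inv_eq_iff_eq_mul]
  refine ⟨fun h => (d.memH x).2 ⟨hx, fun v hv => ?_⟩, fun h => ((d.memH x).1 h).2 u d.hu⟩
  obtain ⟨k, hk⟩ := d.stepN.gen hS d.hu d.huE hv
  rw [← mul_inv_cancel_left (u ^ k) v]
  exact (((show Commute u x from h).zpow_left k).mul_left (d.comm _ hk x hx)).eq

theorem card_ind : Nat.card (ind E) = p := by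
  have h := card_ind_of_centric hS (centralizer_le hS hF d.ess) d.comm
  rw [d.stepN.card] at h
  exact Nat.eq_of_mul_eq_mul_right Nat.card_pos h

theorem t_kp : E.normalizerMonoidHom ⟨u, d.hu⟩ ∈ kp (Subgroup.zpowers z) := fun _ hx => (d.t_spec hx).2

/-- An automorphism moving the line of `z` moves the induced group. -/
theorem conj_not_mem {α : MulAut E} (hz' : ev α z ∉ Subgroup.zpowers z) :
    α * E.normalizerMonoidHom ⟨u, d.hu⟩ * α⁻¹ ∉ Subgroup.zpowers (E.normalizerMonoidHom ⟨u, d.hu⟩) := by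
  intro h
  refine hz' ?_
  have hze : ev (E.normalizerMonoidHom ⟨u, d.hu⟩) e = e * z := by
    rw [(d.t_spec d.he).1, d.comm e d.he z d.hzE, ← d.hz, commutatorElement_def, inv_mul_cancel_right]
  have h1 := (Subgroup.zpowers_le.2 (d.t_kp hS hF)) h (ev α e) (ev_mem d.he)
  rw [ev_comp, ev_comp, ev_inv_cancel, hze, ev_mul d.he d.hzE, inv_mul_cancel_left] at h1
  exact h1

/-- Otherwise the image of `z` leaves `H` and the conjugate transvection moves `z`. -/
theorem moves {α : MulAut E} (hα : α ∈ autL F E)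
    (hn : α * E.normalizerMonoidHom ⟨u, d.hu⟩ * α⁻¹ ∉ Subgroup.zpowers (E.normalizerMonoidHom ⟨u, d.hu⟩)) :
    ev α z ∉ H ∧ ev (α * E.normalizerMonoidHom ⟨u, d.hu⟩ * α⁻¹) z ≠ z := by
  letI : CommGroup E := { (inferInstance : Group E) with
    mul_comm := fun a b => Subtype.ext (d.comm a a.2 b b.2) }
  set t := E.normalizerMonoidHom ⟨u, d.hu⟩ with ht
  set s : E := ⟨z, d.hzE⟩
  have hsp : s ^ p = 1 := Subtype.ext (by rw [SubmonoidClass.coe_pow]; exact d.exp z d.hzE)
  have hos : orderOf s = p := orderOf_eq_prime hsp fun h => d.hz1 (congrArg Subtype.val h)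
  have htr : IsTransv t s := by
    refine ⟨Subtype.ext ?_, fun r => ?_⟩
    · rw [← ev_coe]; exact (d.fix_iff hS hF d.hzE).2 d.hzH
    · obtain ⟨i, hi⟩ := (d.t_spec r.2).2
      refine ⟨i, Subtype.ext ?_⟩
      show z ^ i = (r : S)⁻¹ * (t r : S)
      rw [← ev_coe]
      exact hi
  have ht1 : t ≠ 1 := fun h => d.heH ((d.fix_iff hS hF d.he).1 (by rw [← ht, h, ev_id]))
  have htA : t ∈ autL F E := ind_le E ⟨_, rfl⟩
  have hsyl : ∀ a ∈ autL F E, ∀ b ∈ autL F E, a ^ p = 1 → b ^ p = 1 → a * b = b * a → a ≠ 1 →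
      b ∈ Subgroup.zpowers a := by
    intro a ha b hb hap hbp hab ha1
    have hz : ∀ w : MulAut E, w ^ p = 1 → IsPGroup p (Subgroup.zpowers w) := fun w hw ⟨v, i, hv⟩ =>
      ⟨1, Subtype.ext (by
        show v ^ p ^ 1 = 1
        rw [pow_one, ← hv, ← zpow_natCast, ← zpow_mul, mul_comm, zpow_mul, zpow_natCast, hw, one_zpow])⟩
    have hnorm : Subgroup.zpowers a ≤ Subgroup.normalizer (Subgroup.zpowers b : Set (MulAut E)) :=
      Subgroup.zpowers_le.2 (MaxEss.mem_norm fun v hv => by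
        obtain ⟨i, rfl⟩ := Subgroup.mem_zpowers_iff.1 hv
        rw [((show Commute a b from hab).zpow_right i).eq, mul_inv_cancel_right]
        exact Subgroup.zpow_mem_zpowers b i)
    have hle := card_le_ind hS hF (essential_fn hS hF d.ess)
      (sup_le (Subgroup.zpowers_le.2 ha) (Subgroup.zpowers_le.2 hb))
      ((hz a hap).to_sup_of_normal_right' (hz b hbp) hnorm)
    rw [d.card_ind hS hF] at hle
    have heq : Subgroup.zpowers a = Subgroup.zpowers a ⊔ Subgroup.zpowers b :=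
      Subgroup.eq_of_le_of_card_ge le_sup_left (by rwa [Nat.card_zpowers, orderOf_eq_prime hap ha1])
    exact heq.ge (Subgroup.mem_sup_right (Subgroup.mem_zpowers b))
  obtain ⟨h1, h2⟩ := pair_moves hsyl htA hα htr hos ht1 hn
  refine ⟨fun h => h1 (Subtype.ext ?_), fun h => h2 (Subtype.ext ?_)⟩
  · rw [← ev_coe, ← ev_coe, show (s : S) = z from rfl]
    exact (d.fix_iff hS hF (ev_mem d.hzE)).2 h
  · rw [← ev_coe]; exact h

/-- An automorphism fixing the direction of `z` fixes `H`. -/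
theorem pres_H {β : MulAut E} (hβ : β ∈ autL F E) (hz' : ev β z ∈ Subgroup.zpowers z) : β ∈ pres H := by
  set t := E.normalizerMonoidHom ⟨u, d.hu⟩ with ht
  have hγ : β * t * β⁻¹ ∈ Subgroup.zpowers t := by
    by_contra hn
    obtain ⟨i, hi⟩ := Subgroup.mem_zpowers_iff.1 hz'
    exact (d.moves hS hF hβ hn).1 (hi ▸ zpow_mem d.hzH i)
  obtain ⟨j, hj⟩ := Subgroup.mem_zpowers_iff.1 hγ
  -- the fixed points of `β t β⁻¹`
  refine Subgroup.inv_mem_iff _ |>.1 (mem_pres fun x hx => ?_)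
  have hxE := d.stepH.le hx
  refine (d.fix_iff hS hF (ev_mem hxE)).1 (ev_injective β ?_)
  rw [← ev_comp, ← ev_comp, ← hj, ev_cancel_inv]
  exact Subgroup.zpow_mem (fixer (L := E) x) ((d.fix_iff hS hF hxE).2 hx) j

omit hS hF in
theorem card_line : Nat.card (Subgroup.zpowers z) = p := by
  rw [Nat.card_zpowers, orderOf_eq_prime (d.exp z d.hzE) d.hz1]

/-- Some automorphism moves the line of `z`. -/
theorem exists_moving (hk : Nat.card E = p ^ 2 ∨ Nat.card E = p ^ 3) :
    ∃ α ∈ autL F E, ev α z ∉ Subgroup.zpowers z := by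
  by_contra! hall
  set Z := Subgroup.zpowers z with hZ
  have hZH : Z ≤ H := Subgroup.zpowers_le.2 d.hzH
  have hZE : Z ≤ E := hZH.trans d.stepH.le
  have hinv : autL F E ≤ pres Z := fun a ha => mem_pres fun w hw => by
    obtain ⟨i, rfl⟩ := Subgroup.mem_zpowers_iff.1 hw
    rw [ev_zpow d.hzE]; exact zpow_mem (hall a ha) i
  have hinvH : autL F E ≤ pres H := fun a ha => d.pres_H hS hF ha (hall a ha)
  have hZbot : Step p ⊥ Z := step_of_card hS bot_le (by rw [hZ, d.card_line, Subgroup.card_bot, mul_one])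
  have hnorm : ∀ A : Subgroup S, A ≤ E → E ≤ Subgroup.normalizer (A : Set S) := fun A hA x hx =>
    MaxEss.mem_norm fun y hy => by rw [d.comm x hx y (hA hy), mul_inv_cancel_right]; exact hy
  have hHc : Nat.card E = p * Nat.card H := d.stepH.card
  rcases hk with hk | hk
  · have heq : Z = H := Subgroup.eq_of_le_of_card_ge hZH (by
      rw [hk, sq] at hHc
      rw [hZ, d.card_line]
      exact (Nat.eq_of_mul_eq_mul_left hp.out.pos hHc).ge)
    refine no_cyclic_series hS hF d.ess (l := [Z, E]) rfl ?_ ?_ ?_ ?_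
    · simp only [List.mem_cons, List.not_mem_nil, or_false, forall_eq_or_imp, forall_eq]
      exact ⟨hnorm _ hZE, Subgroup.le_normalizer⟩
    · simp only [List.mem_cons, List.not_mem_nil, or_false, forall_eq_or_imp, forall_eq]
      exact ⟨hZE, le_rfl⟩
    · simp only [List.mem_cons, List.not_mem_nil, or_false, forall_eq_or_imp, forall_eq]
      exact ⟨hinv, fun a _ => pres_self a⟩
    · simp only [List.zip_cons_cons, List.zip_nil_right, List.mem_cons, List.not_mem_nil, or_false,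
        forall_eq_or_imp, forall_eq]
      exact ⟨hZbot, heq ▸ d.stepH⟩
  · have hZs : Step p Z H := step_of_card hS hZH (by
      rw [hk, pow_succ'] at hHc
      rw [hZ, d.card_line, ← sq]
      exact (Nat.eq_of_mul_eq_mul_left hp.out.pos hHc).symm)
    refine no_cyclic_series hS hF d.ess (l := [Z, H, E]) rfl ?_ ?_ ?_ ?_
    · simp only [List.mem_cons, List.not_mem_nil, or_false, forall_eq_or_imp, forall_eq]
      exact ⟨hnorm _ hZE, hnorm _ d.stepH.le, Subgroup.le_normalizer⟩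
    · simp only [List.mem_cons, List.not_mem_nil, or_false, forall_eq_or_imp, forall_eq]
      exact ⟨hZE, d.stepH.le, le_rfl⟩
    · simp only [List.mem_cons, List.not_mem_nil, or_false, forall_eq_or_imp, forall_eq]
      exact ⟨hinv, hinvH, fun a _ => pres_self a⟩
    · simp only [List.zip_cons_cons, List.zip_nil_right, List.mem_cons, List.not_mem_nil, or_false,
        forall_eq_or_imp, forall_eq]
      exact ⟨hZbot, hZs, d.stepH⟩

/-- The two transvections in coordinates. -/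
theorem frame {α : MulAut E} (hα : α ∈ autL F E) (hn : ev α z ∉ Subgroup.zpowers z) :
    ev α z ∈ E ∧ ev α z ∉ H ∧ (∀ w ∈ E, w⁻¹ * ev (α * E.normalizerMonoidHom ⟨u, d.hu⟩ * α⁻¹) w ∈
        Subgroup.zpowers (ev α z)) ∧
      ev (α * E.normalizerMonoidHom ⟨u, d.hu⟩ * α⁻¹) (ev α z) = ev α z ∧
      (∃ e' : ℤ, (e' : ZMod p) ≠ 0 ∧
        ev (E.normalizerMonoidHom ⟨u, d.hu⟩) (ev α z) = ev α z * z ^ e') ∧
      ∃ m : ℤ, (m : ZMod p) ≠ 0 ∧
        ev (α * E.normalizerMonoidHom ⟨u, d.hu⟩ * α⁻¹) z = z * ev α z ^ m := by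
  set t := E.normalizerMonoidHom ⟨u, d.hu⟩ with ht
  obtain ⟨h1, h2⟩ := d.moves hS hF hα (d.conj_not_mem hS hF hn)
  have hyE : ev α z ∈ E := ev_mem d.hzE
  have hdir : ∀ w ∈ E, w⁻¹ * ev (α * t * α⁻¹) w ∈ Subgroup.zpowers (ev α z) := fun w hw => by
    obtain ⟨i, hi⟩ := (d.t_spec (ev_mem (a := α⁻¹) hw)).2
    refine ⟨i, ?_⟩
    show (ev α z) ^ i = _
    have hi' : z ^ i = (ev α⁻¹ w)⁻¹ * ev t (ev α⁻¹ w) := hi
    rw [← ev_zpow d.hzE, hi', ev_mul (inv_mem (ev_mem hw)) (ev_mem (ev_mem hw)), ev_inv (ev_mem hw), ev_cancel_inv,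
      ev_comp, ev_comp]
  refine ⟨hyE, h1, hdir, ?_, ?_, ?_⟩
  · rw [ev_comp, ev_comp, ev_inv_cancel, (d.fix_iff hS hF d.hzE).2 d.hzH]
  · obtain ⟨i, hi⟩ := (d.t_spec hyE).2
    have hi' : z ^ i = (ev α z)⁻¹ * ev t (ev α z) := hi
    refine ⟨i, fun h0 => h1 ((d.fix_iff hS hF hyE).1 ?_), by rw [hi', mul_inv_cancel_left]⟩
    have : z ^ i = 1 := Subgroup.mem_bot.1 (zpow_mem_of_cast (by rw [d.exp z d.hzE]; exact one_mem _) h0)
    rw [hi', inv_mul_eq_one] at this
    exact this.symm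
  · obtain ⟨i, hi⟩ := hdir z d.hzE
    have hi' : (ev α z) ^ i = z⁻¹ * ev (α * t * α⁻¹) z := hi
    refine ⟨i, fun h0 => h2 ?_, by rw [hi', mul_inv_cancel_left]⟩
    have : (ev α z) ^ i = 1 := Subgroup.mem_bot.1
      (zpow_mem_of_cast (by rw [← ev_pow d.hzE, d.exp z d.hzE, ev_one]; exact one_mem _) h0)
    rw [hi', inv_mul_eq_one] at this
    exact this.symm

/-- The torus of the plane of `z` and its image. -/
theorem exists_torus {α : MulAut E} (hα : α ∈ autL F E) (hn : ev α z ∉ Subgroup.zpowers z) {a b : ℤ}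
    (hab : (a : ZMod p) * b = 1) :
    ∃ h ∈ autL F E, ev h z = z ^ a ∧ ev h (ev α z) = ev α z ^ b ∧ (∀ x ∈ H, x⁻¹ * ev h x ∈ Subgroup.zpowers z) ∧
      h ∈ pres H := by
  letI : CommGroup E := { (inferInstance : Group E) with
    mul_comm := fun a b => Subtype.ext (d.comm a a.2 b b.2) }
  set t := E.normalizerMonoidHom ⟨u, d.hu⟩ with ht
  obtain ⟨hyE, hyH, hdir, hby, ⟨e', he', hay⟩, m, hm, hbz⟩ := d.frame hS hF hα hn
  rw [← ht] at hdir hby hay hbz
  have haz := (d.fix_iff hS hF d.hzE).2 d.hzH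
  rw [← ht] at haz
  obtain ⟨h, hh, hhz, hhy⟩ := torus_comm (MonoidHom.id (MulAut E)) (a := t) (b := α * t * α⁻¹)
    (z := (⟨z, d.hzE⟩ : E)) (y := ⟨ev α z, hyE⟩) he' hm
    (Subtype.ext (by rw [SubmonoidClass.coe_pow]; exact d.exp z d.hzE))
    (Subtype.ext (by rw [SubmonoidClass.coe_pow]; exact d.exp _ hyE))
    (Subtype.ext ((ev_coe t _).symm.trans haz)) (Subtype.ext ((ev_coe t _).symm.trans hay))
    (Subtype.ext ((ev_coe _ _).symm.trans hby)) (Subtype.ext ((ev_coe _ _).symm.trans hbz)) hab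
  have hhz' : ev h z = z ^ a := (ev_of_mem d.hzE).trans (congrArg Subtype.val hhz)
  have hhy' : ev h (ev α z) = ev α z ^ b := (ev_of_mem hyE).trans (congrArg Subtype.val hhy)
  have htA : t ∈ autL F E := ind_le E ⟨_, rfl⟩
  have hH : ∀ x ∈ H, x⁻¹ * ev h x ∈ Subgroup.zpowers z := fun x hx => by
    have hxE := d.stepH.le hx
    obtain ⟨i, hi⟩ := hdir x hxE
    have hi' : (ev α z) ^ i = x⁻¹ * ev (α * t * α⁻¹) x := hi
    obtain ⟨k, hk⟩ := ZMod.intCast_surjective (-(i : ZMod p) * (m : ZMod p)⁻¹)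
    obtain ⟨c, hc⟩ : ∃ c, x * z ^ k = c := ⟨_, rfl⟩
    have hcE : c ∈ E := hc ▸ mul_mem hxE (zpow_mem d.hzE k)
    have hyp : (ev α z) ^ p = 1 := d.exp _ hyE
    have hfix : h ∈ fixer (L := E) c := (Subgroup.closure_le (fixer (L := E) c)).2 (Set.pair_subset
      ((d.fix_iff hS hF hcE).2 (hc ▸ mul_mem hx (zpow_mem d.hzH k))) (by
        show ev (α * t * α⁻¹) c = c
        rw [← hc, ev_mul hxE (zpow_mem d.hzE k), ev_zpow d.hzE, hbz,
          show ev (α * t * α⁻¹) x = x * (ev α z) ^ i by rw [hi', mul_inv_cancel_left],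
          (show Commute z (ev α z ^ m) from (show Commute z (ev α z) from d.comm z d.hzE _ hyE).zpow_right m).mul_zpow,
          ← zpow_mul, d.comm (z ^ k) (zpow_mem d.hzE k) _ (zpow_mem hyE (m * k)), mul_assoc, ← mul_assoc (ev α z ^ i),
          ← zpow_add, PlaneFrame.zpow_congr hyp (i := i + m * k) (j := 0) (by
            push_cast; rw [hk, mul_comm (-(i : ZMod p)), ← mul_assoc, mul_inv_cancel₀ hm, one_mul, add_neg_cancel]),
          zpow_zero, one_mul])) hh
    have hfix' : ev h c = c := hfix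
    rw [← hc, ev_mul hxE (zpow_mem d.hzE k), ev_zpow d.hzE, hhz', ← zpow_mul] at hfix'
    rw [eq_mul_inv_iff_mul_eq.2 hfix', mul_assoc, inv_mul_cancel_left]
    exact mul_mem (Subgroup.zpow_mem_zpowers z k) (inv_mem (Subgroup.zpow_mem_zpowers z _))
  refine ⟨h, (Subgroup.closure_le _).2 (Set.pair_subset htA (mul_mem (mul_mem hα htA) (Subgroup.inv_mem _ hα))) hh,
    hhz', hhy', hH, mem_pres fun x hx => ?_⟩
  have := mul_mem hx ((Subgroup.zpowers_le.2 d.hzH) (hH x hx))
  rwa [mul_inv_cancel_left] at this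

/-- All images of `z` lie in the plane of `z` and one image outside its line. -/
theorem centres {α : MulAut E} (hα : α ∈ autL F E) (hn : ev α z ∉ Subgroup.zpowers z) {β : MulAut E}
    (hβ : β ∈ autL F E) : ∃ i j : ℤ, ev β z = z ^ i * ev α z ^ j := by
  set t := E.normalizerMonoidHom ⟨u, d.hu⟩ with ht
  set b := α * t * α⁻¹ with hb
  obtain ⟨hyE, -, hdir, hby, -, -⟩ := d.frame hS hF hα hn
  rw [← ht, ← hb] at hdir hby
  have hbA : b ∈ autL F E := mul_mem (mul_mem hα (ind_le E ⟨_, rfl⟩)) (Subgroup.inv_mem _ hα)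
  -- an image fixed by `t` lies on the line
  have key : ∀ γ ∈ autL F E, ev t (ev γ z) = ev γ z → ev γ z ∈ Subgroup.zpowers z := fun γ hγ hfix => by
    by_contra h
    exact (d.moves hS hF hγ (d.conj_not_mem hS hF h)).1 ((d.fix_iff hS hF (ev_mem d.hzE)).1 hfix)
  have hsE : ev β z ∈ E := ev_mem d.hzE
  obtain ⟨m, hm⟩ := hdir _ hsE
  have hm' : (ev α z) ^ m = (ev β z)⁻¹ * ev b (ev β z) := hm
  have hyp : (ev α z) ^ p = 1 := d.exp _ hyE
  by_cases hm0 : (m : ZMod p) = 0
  · -- fixed by the conjugate transvection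
    have h1 : ev b (ev β z) = ev β z := by
      have : (ev α z) ^ m = 1 := Subgroup.mem_bot.1 (zpow_mem_of_cast (by rw [hyp]; exact one_mem _) hm0)
      rw [hm', inv_mul_eq_one] at this
      exact this.symm
    have h2 := key _ (mul_mem (Subgroup.inv_mem _ hα) hβ) (by
      apply ev_injective α
      rw [ev_comp, ev_cancel_inv, ← ev_comp, ← ev_comp, ← hb, h1])
    obtain ⟨j, hj⟩ := h2
    refine ⟨0, j, ?_⟩
    have hj' : z ^ j = ev α⁻¹ (ev β z) := hj.trans (ev_comp _ _ _)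
    rw [zpow_zero, one_mul, ← ev_zpow d.hzE, hj', ev_cancel_inv]
  by_cases hon : ev β z ∈ Subgroup.zpowers z
  · obtain ⟨i, hi⟩ := hon
    exact ⟨i, 0, by rw [zpow_zero, mul_one]; exact hi.symm⟩
  obtain ⟨n, hn'⟩ := (d.t_spec hsE).2
  have hn'' : z ^ n = (ev β z)⁻¹ * ev t (ev β z) := hn'
  obtain ⟨-, -, -, -, ⟨e', he', hay⟩, -⟩ := d.frame hS hF hα hn
  rw [← ht] at hay
  have hbp : ∀ k : ℕ, ev (b ^ k) (ev β z) = ev β z * ev α z ^ (m * k) := by
    intro k
    induction k with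
    | zero => simp [ev_id]
    | succ k ih =>
      rw [pow_succ', ev_comp, ih, ev_mul hsE (zpow_mem hyE _), ev_zpow hyE, hby,
        show ev b (ev β z) = ev β z * ev α z ^ m by rw [hm', mul_inv_cancel_left], mul_assoc, ← zpow_add]
      push_cast; ring_nf
  obtain ⟨k, hk⟩ : ∃ k : ℕ, (k : ZMod p) = -(n : ZMod p) * ((m : ZMod p) * e')⁻¹ :=
    ⟨(-(n : ZMod p) * ((m : ZMod p) * e')⁻¹).val, ZMod.natCast_zmod_val _⟩
  have h3 := key _ (mul_mem (pow_mem hbA k) hβ) (by
    rw [ev_comp, hbp, ev_mul hsE (zpow_mem hyE _), ev_zpow hyE, hay,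
      show ev t (ev β z) = ev β z * z ^ n by rw [hn'', mul_inv_cancel_left],
      (show Commute (ev α z) (z ^ e') from d.comm _ hyE _ (zpow_mem d.hzE e')).mul_zpow, ← zpow_mul,
      mul_assoc, ← mul_assoc (z ^ n), d.comm (z ^ n) (zpow_mem d.hzE n) _ (zpow_mem hyE _), mul_assoc, ← zpow_add,
      PlaneFrame.zpow_congr (d.exp z d.hzE) (i := n + e' * (m * k)) (j := 0) (by
        push_cast; rw [hk]; field_simp; ring), zpow_zero, mul_one])
  obtain ⟨i, hi⟩ := h3
  refine ⟨i, -(m * k), ?_⟩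
  have hi' : z ^ i = ev β z * ev α z ^ (m * (k : ℤ)) := hi.trans ((ev_comp _ _ _).trans (hbp k))
  rw [hi', zpow_neg, mul_inv_cancel_right]

/-- Reduction to the automorphisms fixing the line of `z`. -/
theorem le_kp {α : MulAut E} (hα : α ∈ autL F E) (hn : ev α z ∉ Subgroup.zpowers z) {K : Subgroup S}
    (hz : z ∈ K) (hy : ev α z ∈ K) (hst : ∀ β ∈ autL F E, ev β z ∈ Subgroup.zpowers z → β ∈ kp K) :
    autL F E ≤ kp K := by
  letI : CommGroup E := { (inferInstance : Group E) with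
    mul_comm := fun a b => Subtype.ext (d.comm a a.2 b b.2) }
  set t := E.normalizerMonoidHom ⟨u, d.hu⟩ with ht
  obtain ⟨hyE, -, hdir, hby, ⟨e', he', hay⟩, m, hm, hbz⟩ := d.frame hS hF hα hn
  rw [← ht] at hdir hby hay hbz
  have haz := (d.fix_iff hS hF d.hzE).2 d.hzH
  rw [← ht] at haz
  have htK : t ∈ kp (L := E) K := fun x hx => (Subgroup.zpowers_le.2 hz) (d.t_kp hS hF x hx)
  have hbK : α * t * α⁻¹ ∈ kp (L := E) K := fun x hx => (Subgroup.zpowers_le.2 hy) (hdir x hx)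
  intro γ hγ
  obtain ⟨i, j, hij⟩ := d.centres hS hF hα hn hγ
  have hne : ev γ z ≠ 1 := fun h => d.hz1 (ev_injective γ (h.trans (ev_one γ).symm))
  obtain ⟨g, hg, hgz⟩ := move_comm (MonoidHom.id (MulAut E)) (a := t) (b := α * t * α⁻¹)
    (z := (⟨z, d.hzE⟩ : E)) (y := ⟨ev α z, hyE⟩) he' hm
    (Subtype.ext (by rw [SubmonoidClass.coe_pow]; exact d.exp z d.hzE))
    (Subtype.ext (by rw [SubmonoidClass.coe_pow]; exact d.exp _ hyE))
    (Subtype.ext ((ev_coe t _).symm.trans haz)) (Subtype.ext ((ev_coe t _).symm.trans hay))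
    (Subtype.ext ((ev_coe _ _).symm.trans hbz)) (Subtype.ext ((ev_coe _ _).symm.trans hby))
    (i := i) (j := j) (fun h => hne (hij.trans (congrArg Subtype.val h)))
  have htA : t ∈ autL F E := ind_le E ⟨_, rfl⟩
  have hgA : g ∈ autL F E :=
    (Subgroup.closure_le _).2 (Set.pair_subset htA (mul_mem (mul_mem hα htA) (Subgroup.inv_mem _ hα))) hg
  have hgK : g ∈ kp (L := E) K := (Subgroup.closure_le (kp K)).2 (Set.pair_subset htK hbK) hg
  have hβ : γ⁻¹ * g ∈ kp (L := E) K := hst _ (mul_mem (Subgroup.inv_mem _ hγ) hgA) (by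
    obtain ⟨k, hk⟩ := Subgroup.mem_zpowers_iff.1 hgz
    have hk' : ev g z = ev γ z ^ k := by
      rw [ev_of_mem d.hzE, hij]
      exact (congrArg Subtype.val hk).symm
    rw [ev_comp, hk', ev_zpow (ev_mem d.hzE), ev_inv_cancel]
    exact Subgroup.zpow_mem_zpowers z k)
  have := mul_mem hgK (inv_mem hβ)
  rwa [mul_inv_rev, inv_inv, mul_inv_cancel_left] at this

end Ess

end Cfsg.Agent.OrderFive
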