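import Cfsg.Agent.Lib.OrderFive.Tools

/-!
# An abelian essential subgroup of order `p³`: automorphisms of the whole group
-/

set_option autoImplicit false
set_option linter.unusedSectionVars false
set_option linter.style.haveILetI false

namespace Cfsg.Agent.OrderFive

open Cfsg Cfsg.FusionSystem Cfsg.Agent Cfsg.Agent.FusionSys Cfsg.Agent.MaxEss
open scoped commutatorElement

variable {Ω : Type*} [Group Ω] {S : Subgroup Ω} [Finite S] {F : FusionSystem S} {p : ℕ} [hp : Fact p.Prime]

/-- The series above an abelian essential subgroup of order `p³`. -/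
structure Cube (F : FusionSystem S) (p : ℕ) (E H L : Subgroup S) (u e z : S) : Prop where
  d : Ess F p E H u e z
  hk : Nat.card E = p ^ 3
  stepT : Step p (Subgroup.normalizer (E : Set S)) ⊤
  nN : (Subgroup.normalizer (E : Set S)).Normal
  nH : H.Normal
  nL : L.Normal
  nZ : (Subgroup.zpowers z).Normal
  zc : ∀ g, Commute z g
  stepZ : Step p ⊥ (Subgroup.zpowers z)
  stepZH : Step p (Subgroup.zpowers z) H
  stepHL : Step p H L
  stepLN : Step p L (Subgroup.normalizer (E : Set S))
  hLE : L ≠ E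
  commGL : ∀ g : S, ∀ l ∈ L, ⁅g, l⁆ ∈ H
  commGH : ∀ g : S, ∀ h ∈ H, ⁅g, h⁆ ∈ Subgroup.zpowers z
  commGN : ∀ g : S, ∀ n ∈ Subgroup.normalizer (E : Set S), ⁅g, n⁆ ∈ L

variable (hS : IsPGroup p S) (hF : F.IsSaturated p) (hcard : Nat.card S = p ^ 5)
include hS hF hcard

theorem exists_cube {E H : Subgroup S} {u e z : S} (d : Ess F p E H u e z) (hk : Nat.card E = p ^ 3) :
    ∃ L, Cube F p E H L u e z := by
  set N := Subgroup.normalizer (E : Set S) with hN
  have hcN : Nat.card N = p ^ 4 := by rw [d.stepN.card, hk, ← pow_succ']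
  have hcH : Nat.card H = p ^ 2 := by
    have h := d.stepH.card
    rw [hk, pow_succ'] at h
    exact (Nat.eq_of_mul_eq_mul_left hp.out.pos h).symm
  have hT : Step p N ⊤ := step_of_card hS le_top (by rw [Subgroup.card_top, hcard, hcN, ← pow_succ'])
  have nN : N.Normal := normal_of_step_top hT
  have hc := centralizer_le hS hF d.ess
  have hHc : ∀ x, x ∈ H ↔ ∀ v ∈ N, v * x = x * v := fun x =>
    ⟨fun h => ((d.memH x).1 h).2, fun h => (d.memH x).2
      ⟨hc (Subgroup.mem_centralizer_iff.2 fun y hy => h y (d.stepN.le hy)), h⟩⟩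
  have nH : H.Normal := ⟨fun x hx g => (hHc _).2 fun v hv => by
    have h := (hHc x).1 hx (g⁻¹ * v * g) (by simpa using nN.conj_mem v hv g⁻¹)
    calc v * (g * x * g⁻¹) = g * ((g⁻¹ * v * g) * x) * g⁻¹ := by group
      _ = g * (x * (g⁻¹ * v * g)) * g⁻¹ := by rw [h]
      _ = g * x * g⁻¹ * v := by group⟩
  have hzH : Subgroup.zpowers z ≤ H := Subgroup.zpowers_le.2 d.hzH
  have hcz := d.card_line
  have nZ : (Subgroup.zpowers z).Normal := ⟨fun x hx g => by
    obtain ⟨i, rfl⟩ := Subgroup.mem_zpowers_iff.1 hx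
    rw [← conj_zpow]
    refine Subgroup.zpow_mem _ ?_ i
    rw [← d.hz, show g * ⁅u, e⁆ * g⁻¹ = ⁅g * u * g⁻¹, g * e * g⁻¹⁆ by simp only [commutatorElement_def]; group, d.hz]
    exact d.commN _ (nN.conj_mem u d.hu g) _ (nN.conj_mem e (d.stepN.le d.he) g)⟩
  have stepZ : Step p ⊥ (Subgroup.zpowers z) := step_of_card hS bot_le (by rw [hcz, Subgroup.card_bot, mul_one])
  have stepZH : Step p (Subgroup.zpowers z) H := step_of_card hS hzH (by rw [hcH, hcz, sq])
  have top_norm : ∀ A : Subgroup S, A.Normal → (⊤ : Subgroup S) ≤ Subgroup.normalizer (A : Set S) := fun A _ =>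
    (Subgroup.normalizer_eq_top A).ge
  have zc : ∀ g, Commute z g := fun g => by
    have h := MaxEss.step_central hS (A := (⊥ : Subgroup S)) (B := Subgroup.zpowers z) (N := ⊤) le_top
      (top_norm _ inferInstance) (top_norm _ nZ) bot_le stepZ.card g (Subgroup.mem_top g) z (Subgroup.mem_zpowers z)
    exact (commutatorElement_eq_one_iff_mul_comm.1 (Subgroup.mem_bot.1 h)).symm
  obtain ⟨L, nL, hLN, hHL, hgL⟩ := exists_normal_step hS nH nN
    (lt_of_lt_of_le (d.stepH.lt) d.stepN.le)
  have hcL : Nat.card L = p ^ 3 := by rw [hHL.card, hcH, ← pow_succ']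
  have hLE : L ≠ E := by
    rintro rfl
    have h1 : N = ⊤ := Subgroup.normalizer_eq_top L
    rw [h1, Subgroup.card_top, hcard] at hcN
    exact absurd (Nat.pow_right_injective hp.out.two_le hcN) (by omega)
  have stepLN : Step p L N := step_of_card hS hLN (by rw [hcN, hcL, ← pow_succ'])
  exact ⟨L, d, hk, hT, nN, nH, nL, nZ, zc, stepZ, stepZH, hHL, stepLN, hLE, hgL,
    fun g h hh => MaxEss.step_central hS le_top (top_norm _ nZ) (top_norm _ nH) hzH stepZH.card g
      (Subgroup.mem_top g) h hh,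
    fun g n hn => MaxEss.step_central hS le_top (top_norm _ nL) (top_norm _ nN) hLN stepLN.card g
      (Subgroup.mem_top g) n hn⟩

namespace Cube

variable {E H L : Subgroup S} {u e z : S} (c : Cube F p E H L u e z)
include c

omit hcard in
/-- An automorphism of `E` preserving the line of `z` extends to the whole group up to conjugation. -/
theorem lift {τ : MulAut E} (hτ : τ ∈ autL F E) (hz : ev τ z ∈ Subgroup.zpowers z) :
    ∃ B ∈ autL F (⊤ : Subgroup S), B ∈ pres (Subgroup.normalizer (E : Set S)) ∧ B ∈ pres L ∧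
      ∃ n ∈ Subgroup.normalizer (E : Set S), ∀ x ∈ E, ev B x = n * ev τ x * n⁻¹ := by
  have d := c.d
  set N := Subgroup.normalizer (E : Set S) with hN
  set Z := Subgroup.zpowers z with hZ
  have hZE : Z ≤ E := c.stepZH.le.trans d.stepH.le
  have hτZ : τ ∈ pres Z := mem_pres fun w hw => by
    obtain ⟨i, rfl⟩ := Subgroup.mem_zpowers_iff.1 hw
    rw [ev_zpow d.hzE]; exact zpow_mem hz i
  have hτH := d.pres_H hS hF hτ hz
  have hNZ : ∀ A : Subgroup S, A.Normal → N ≤ Subgroup.normalizer (A : Set S) := fun A _ => by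
    rw [Subgroup.normalizer_eq_top]; exact le_top
  have indE : ind E ≤ stab [Z, H, E] := by
    refine ind_le_stab hS ?_ ?_ ?_
    · simp only [List.mem_cons, List.not_mem_nil, or_false, forall_eq_or_imp, forall_eq]
      exact ⟨hZE, d.stepH.le, le_rfl⟩
    · simp only [List.mem_cons, List.not_mem_nil, or_false, forall_eq_or_imp, forall_eq]
      exact ⟨hNZ _ c.nZ, hNZ _ c.nH, le_rfl⟩
    · simp only [List.zip_cons_cons, List.zip_nil_right, List.mem_cons, List.not_mem_nil, or_false,
        forall_eq_or_imp, forall_eq]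
      exact ⟨c.stepZ, c.stepZH, d.stepH⟩
  obtain ⟨b, hb, hbe⟩ := extend hS hF (essential_fn hS hF d.ess) (l := [Z, H, E])
    (by simp only [List.mem_cons, List.not_mem_nil, or_false, forall_eq_or_imp, forall_eq]
        exact ⟨hZE, d.stepH.le, le_rfl⟩) rfl indE hτ
    (by simp only [List.mem_cons, List.not_mem_nil, or_false, forall_eq_or_imp, forall_eq]
        exact ⟨hτZ, hτH, pres_self τ⟩)
  have hbE : b ∈ pres E := mem_pres fun x hx => by rw [hbe x hx]; exact ev_mem hx
  have hinvZ : ∀ γ : MulAut N, γ ∈ pres Z := fun γ => mem_pres fun w hw => by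
    obtain ⟨i, rfl⟩ := Subgroup.mem_zpowers_iff.1 hw
    rw [ev_zpow (d.stepN.le d.hzE), ← d.hz, ev_comm d.hu (d.stepN.le d.he)]
    exact zpow_mem (d.commN _ (ev_mem d.hu) _ (ev_mem (d.stepN.le d.he))) i
  have hinvH : ∀ γ : MulAut N, γ ∈ pres H := fun γ => mem_pres fun x hx => by
    have hxN := d.stepN.le (d.stepH.le hx)
    have hcom : ∀ v ∈ N, v * ev γ x = ev γ x * v := fun v hv => by
      have h1 := ((d.memH x).1 hx).2 _ (ev_mem (a := γ⁻¹) hv)
      have h2 := congrArg (ev γ) h1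
      rwa [ev_mul (ev_mem hv) hxN, ev_mul hxN (ev_mem hv), ev_cancel_inv] at h2
    exact (d.memH _).2 ⟨centralizer_le hS hF d.ess
      (Subgroup.mem_centralizer_iff.2 fun y hy => hcom y (d.stepN.le hy)), hcom⟩
  obtain ⟨g, hg⟩ : ∃ g, g ∉ N := by
    obtain ⟨g, -, hg⟩ := c.stepT.exists_gen (p := p)
    exact ⟨g, hg⟩
  obtain ⟨B, hB, γ, hγ, k, hk, hγE, hBe, hγL⟩ := lift_step hS hF (M := N) (Φ := H) (P := E) (L := L)
    (fn_of_normal c.nN) (l0 := [Z, H]) (by simp)
    (by simp only [List.mem_cons, List.not_mem_nil, or_false, forall_eq_or_imp, forall_eq]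
        exact ⟨fun a _ => hinvZ a, fun a _ => hinvH a⟩)
    (by simp only [List.cons_append, List.nil_append, List.mem_cons, List.not_mem_nil, or_false, forall_eq_or_imp,
          forall_eq]
        exact ⟨hZE.trans d.stepN.le, d.stepH.le.trans d.stepN.le, c.stepLN.le, le_rfl⟩)
    (by simp only [List.cons_append, List.nil_append, List.mem_cons, List.not_mem_nil, or_false, forall_eq_or_imp,
          forall_eq, Subgroup.normalizer_eq_top (H := N) (h := c.nN)]
        exact ⟨(top_le_iff.2 (Subgroup.normalizer_eq_top_iff.2 c.nZ)),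
          (top_le_iff.2 (Subgroup.normalizer_eq_top_iff.2 c.nH)),
          (top_le_iff.2 (Subgroup.normalizer_eq_top_iff.2 c.nL)),
          le_rfl⟩)
    (by simp only [List.cons_append, List.nil_append, List.zip_cons_cons, List.zip_nil_right, List.mem_cons,
          List.not_mem_nil, or_false, forall_eq_or_imp, forall_eq]
        exact ⟨c.stepZ, c.stepZH, c.stepHL, c.stepLN⟩)
    d.stepH d.stepN c.stepHL c.stepLN
    ⟨g, by rw [Subgroup.normalizer_eq_top (H := N) (h := c.nN)]; exact Subgroup.mem_top g, hg⟩ hb hbE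
  obtain ⟨γE, hγEA, hγEe⟩ := exists_restrict d.stepN.le hγ hγE
  have hpow : γE ^ p ^ k = 1 := ext_ev fun x hx => by
    have : ∀ j : ℕ, ∀ w ∈ E, ev (γE ^ j) w = ev (γ ^ j) w := by
      intro j
      induction j with
      | zero => intro w _; rw [pow_zero, pow_zero, ev_id, ev_id]
      | succ j ih =>
        intro w hw
        rw [pow_succ, pow_succ, ev_comp, ev_comp, ← hγEe w hw]
        exact ih _ (ev_mem hw)
    rw [this _ x hx, hk, ev_id, ev_id]
  have hγs : γE ∈ stab [Z, H, E] := by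
    have hp1 : ∀ A : Subgroup S, A ≤ E → γ ∈ pres A → γE ∈ pres A := fun A hA h => mem_pres fun x hx => by
      rw [hγEe x (hA hx)]; exact (h x).2 hx
    have h1 := hp1 Z hZE (hinvZ γ)
    have h2 := hp1 H d.stepH.le (hinvH γ)
    refine ⟨by simp only [List.mem_cons, List.not_mem_nil, or_false, forall_eq_or_imp, forall_eq]
               exact ⟨h1, h2, pres_self _⟩, ?_⟩
    simp only [List.zip_cons_cons, List.zip_nil_right, List.mem_cons, List.not_mem_nil, or_false, forall_eq_or_imp,
      forall_eq]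
    exact ⟨Wt.one_iff.1 (Wt.one_of_pow hS c.stepZ hZE (pres_bot _) h1 hpow),
      Wt.one_iff.1 (Wt.one_of_pow hS c.stepZH d.stepH.le h1 h2 hpow),
      Wt.one_iff.1 (Wt.one_of_pow hS d.stepH le_rfl h2 (pres_self _) hpow)⟩
  obtain ⟨n, hn, hne⟩ := mem_ind_iff.1 (stab_eq_conj hS hF (essential_fn hS hF d.ess) rfl indE hγEA hγs)
  have hNN : Subgroup.normalizer (N : Set S) = ⊤ := Subgroup.normalizer_eq_top (H := N) (h := c.nN)
  obtain ⟨B', hB', hBB'⟩ : ∃ B' ∈ autL F (⊤ : Subgroup S), ∀ x, ev B' x = ev B x := by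
    have aux : ∀ (T : Subgroup S), T = ⊤ → ∀ B : MulAut T, B ∈ autL F T →
        ∃ B' ∈ autL F (⊤ : Subgroup S), ∀ x, ev B' x = ev B x := by
      rintro _ rfl B hB
      exact ⟨B, hB, fun _ => rfl⟩
    exact aux _ hNN B hB
  refine ⟨B', hB', mem_pres fun x hx => ?_, mem_pres fun x hx => ?_, n, hn, fun x hx => ?_⟩
  · rw [hBB', hBe x hx]; exact ev_mem (ev_mem hx)
  · rw [hBB', hBe x (c.stepLN.le hx), ← ev_comp]; exact (hγL x).2 hx
  · rw [hBB', hBe x (d.stepN.le hx), hbe x hx, ← hγEe _ (ev_mem hx), hne _ (ev_mem hx)]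

end Cube

end Cfsg.Agent.OrderFive
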