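import Cfsg.Agent.Lib.OrderFive.CubeThree

/-!
# An abelian essential subgroup of order `p³` excludes a hyperfocal subgroup equal to `S`
-/

set_option autoImplicit false
set_option linter.unusedSectionVars false
set_option linter.style.haveILetI false

namespace Cfsg.Agent.OrderFive

open Cfsg Cfsg.FusionSystem Cfsg.Agent Cfsg.Agent.FusionSys Cfsg.Agent.MaxEss
open scoped commutatorElement

variable {Ω : Type*} [Group Ω] {S : Subgroup Ω} [Finite S] {F : FusionSystem S} {p : ℕ} [hp : Fact p.Prime]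
  (hS : IsPGroup p S) (hF : F.IsSaturated p) (hcard : Nat.card S = p ^ 5)
include hS hF hcard

omit hF hcard in
/-- An element inverted modulo a subgroup respected by the automorphisms lies in it. -/
theorem mem_of_inverted {K : Subgroup S} {M : Subgroup S} {a : MulAut M} (ha : a ∈ kp K) {x : S} (hx : x ∈ M)
    (h2 : p ≠ 2) (hxp : x ^ p ∈ K) (h : x * ev a x ∈ K) : x ∈ K := by
  refine mem_of_zpow_mem hxp (k := 2) ?_ ?_
  · intro h0
    rw [ZMod.intCast_zmod_eq_zero_iff_dvd] at h0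
    exact h2 ((Nat.prime_dvd_prime_iff_eq hp.out Nat.prime_two).1 (Int.natCast_dvd_natCast.1 h0))
  · have := mul_mem h (inv_mem (ha x hx))
    rwa [mul_inv_rev, inv_inv, mul_assoc, mul_inv_cancel_left, ← zpow_two] at this

omit hF hcard in
/-- A conjugation moves an element inside `K`. -/
theorem conj_mem_K {K : Subgroup S} (hc : commutator S ≤ K) (n x : S) : x⁻¹ * (n * x * n⁻¹) ∈ K := by
  refine hc ?_
  rw [show x⁻¹ * (n * x * n⁻¹) = ⁅x⁻¹, n⁆ by simp only [commutatorElement_def, inv_inv, mul_assoc]]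
  exact Subgroup.commutator_mem_commutator (Subgroup.mem_top _) (Subgroup.mem_top _)

/-- Abelian essential subgroups of order `p³` respect `K`. -/
theorem CubeTop.abelian_kp (h2 : p ≠ 2) {K L C : Subgroup S} (t : CubeTop F p K L C) {Q : Subgroup S}
    (hQ : F.IsEssential p (om Q)) (hab : ∀ a ∈ Q, ∀ b ∈ Q, a * b = b * a) (hexp : ∀ a ∈ Q, a ^ p = 1)
    (hk : Nat.card Q = p ^ 3) : autL F Q ≤ kp K := by
  obtain ⟨H', u, e, z, d⟩ := exists_ess hS hF h2 hcard hQ hab hexp (Or.inr hk)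
  obtain ⟨L', c⟩ := exists_cube hS hF hcard d hk
  obtain ⟨α, hα, hn⟩ := d.exists_moving hS hF (Or.inr hk)
  have hzK : z ∈ K := t.hcomm (d.hz ▸ Subgroup.commutator_mem_commutator (Subgroup.mem_top u) (Subgroup.mem_top e))
  refine d.le_kp hS hF hα hn hzK ?_ fun β hβ hβz => ?_
  · obtain ⟨B, hB, -, -, -, -, -, -, hy, -, -⟩ :=
      c.exists_weights hS hF hα hn (a := -1) (b := -1) (by norm_num)
    rw [zpow_neg_one, inv_inv] at hy
    exact mem_of_inverted hS (t.glob B hB) (Subgroup.mem_top _) h2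
      (by rw [d.exp _ (ev_mem d.hzE)]; exact one_mem K) ((Subgroup.zpowers_le.2 hzK) hy)
  · obtain ⟨B, hB, -, -, n, -, hBe⟩ := c.lift hS hF hβ hβz
    intro x hx
    have h1 := t.glob B hB x (Subgroup.mem_top x)
    rw [hBe x hx] at h1
    have h3 := mul_mem h1 (inv_mem (conj_mem_K hS t.hcomm n (ev β x)))
    rwa [show x⁻¹ * (n * ev β x * n⁻¹) * ((ev β x)⁻¹ * (n * ev β x * n⁻¹))⁻¹ = x⁻¹ * ev β x by group] at h3

/-- There is no essential subgroup of order `p²`. -/
theorem CubeTop.not_sq (h2 : p ≠ 2) {K L C : Subgroup S} (t : CubeTop F p K L C) {Q : Subgroup S}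
    (hQ : F.IsEssential p (om Q)) (hab : ∀ a ∈ Q, ∀ b ∈ Q, a * b = b * a) (hexp : ∀ a ∈ Q, a ^ p = 1)
    (hk : Nat.card Q = p ^ 2) : False := by
  have hc := centralizer_le hS hF hQ
  have hN : Nat.card (Subgroup.normalizer (Q : Set S)) ≤ p ^ 3 := by
    rw [← card_ind_of_centric hS hc hab, hk, pow_succ' p 2]
    exact Nat.mul_le_mul_right _ (card_ind_le hS hF h2 hQ hab hexp (Or.inl hk))
  have hLN : L ≤ Subgroup.normalizer (Q : Set S) := fun l hl => MaxEss.mem_norm fun x hx => by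
    have h1 : ⁅l, x⁆ ∈ Subgroup.center S := by
      rw [← commutatorElement_inv]; exact inv_mem (t.hgL x l hl)
    have := mul_mem (center_le_essential hS hF hQ h1) hx
    rwa [commutatorElement_def, inv_mul_cancel_right] at this
  have he := Subgroup.eq_of_le_of_card_ge hLN (t.cardL.symm ▸ hN)
  have hQL : Q ≤ L := he ▸ Subgroup.le_normalizer
  have := Subgroup.card_le_of_le (show L ≤ Q from fun l hl => hc (Subgroup.mem_centralizer_iff.2 fun x hx =>
    t.commL x (hQL hx) l hl))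
  rw [t.cardL, hk] at this
  exact absurd ((Nat.pow_le_pow_iff_right hp.out.one_lt).1 this) (by omega)

/-- Nonabelian essential subgroups respect `K`. -/
theorem CubeTop.nonabelian_kp (h2 : p ≠ 2) {K L C : Subgroup S} (t : CubeTop F p K L C) {Q : Subgroup S}
    (hQ : F.IsEssential p (om Q)) (hab : ¬ ∀ a ∈ Q, ∀ b ∈ Q, a * b = b * a) : autL F Q ≤ kp K := by
  have hinvZ := nonabelian_pres hS hF hcard hQ hab
  set Z := Subgroup.center S with hZd
  have hZQ : Z ≤ Q := center_le_essential hS hF hQ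
  haveI : Z.Normal := inferInstance
  have hZc : ∀ x ∈ Z, ∀ g : S, ⁅g, x⁆ = 1 := fun x hx g =>
    commutatorElement_eq_one_iff_mul_comm.2 (Subgroup.mem_center_iff.1 hx g)
  have hZnorm : ∀ y : S, y ∈ Subgroup.normalizer (Z : Set S) := fun y => by
    rw [Subgroup.normalizer_eq_top]; exact Subgroup.mem_top y
  have hgL' : ∀ g : S, ∀ l ∈ L, ⁅l, g⁆ ∈ Z := fun g l hl => by
    rw [← commutatorElement_inv]; exact inv_mem (t.hgL g l hl)
  -- `Q` contains `L`
  have hLQ : L ≤ Q := fun l hl => by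
    refine mem_of_stab hS hF hQ (l := [Z, Q]) ?_ rfl ?_ (MaxEss.mem_norm fun x hx => ?_) ?_
    · simp only [List.mem_cons, List.not_mem_nil, or_false, forall_eq_or_imp, forall_eq]
      exact ⟨hZQ, le_rfl⟩
    · simp only [List.mem_cons, List.not_mem_nil, or_false, forall_eq_or_imp, forall_eq]
      exact ⟨hinvZ, fun a _ => pres_self a⟩
    · have := mul_mem (hZQ (hgL' x l hl)) hx
      rwa [commutatorElement_def, inv_mul_cancel_right] at this
    · simp only [List.zip_cons_cons, List.zip_nil_right, List.mem_cons, List.not_mem_nil, or_false, forall_eq_or_imp,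
        forall_eq]
      exact ⟨fun y hy => by
          rw [Subgroup.mem_center_iff.1 hy l, mul_inv_cancel_right, inv_mul_cancel]; exact one_mem _,
        fun y _ => shift_mem (hZnorm y) (hgL' y l hl)⟩
  have hQL : ¬ Q ≤ L := fun h => hab fun a ha b hb => t.commL a (h ha) b (h hb)
  have hcQ : Nat.card Q = p ^ 4 := by
    refine le_antisymm ?_ ?_
    · have := pow_le_of_lt hS (lt_top_iff_ne_top.2 (essential_ne_top hS hF hQ))
      rw [Subgroup.card_top, hcard, pow_succ'] at this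
      exact Nat.le_of_mul_le_mul_left this hp.out.pos
    · have := pow_le_of_lt hS (lt_of_le_of_ne hLQ fun h => hQL h.ge)
      rwa [t.cardL, ← pow_succ'] at this
  have stepLQ : Step p L Q := step_of_card hS hLQ (by rw [hcQ, t.cardL, ← pow_succ'])
  have stepQ : Step p Q ⊤ := step_of_card hS le_top (by rw [Subgroup.card_top, hcard, hcQ, ← pow_succ'])
  haveI hQn : Q.Normal := normal_of_step_top stepQ
  haveI hLn : L.Normal := t.nL
  obtain ⟨x, hx, hxL⟩ := stepLQ.exists_gen (p := p)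
  have hQQ : ∀ a ∈ Q, ∀ b ∈ Q, ⁅a, b⁆ ∈ Z := by
    intro a ha b hb
    obtain ⟨i, hi⟩ := stepLQ.gen hS hx hxL ha
    obtain ⟨j, hj⟩ := stepLQ.gen hS hx hxL hb
    have h := comm_transfer (D := Z) (x := x) (y := x) i j (r := (x ^ i)⁻¹ * a) (q := (x ^ j)⁻¹ * b)
      (by simp) (by simp) (hgL' x _ hi) (hgL' _ _ hi) (t.hgL x _ hj)
    rwa [commutatorElement_self, one_zpow, inv_one, one_mul, mul_inv_cancel_left, mul_inv_cancel_left] at h
  -- the centre of `Q`
  set D := L ⊓ Subgroup.centralizer {x} with hDd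
  have memD : ∀ y, y ∈ D ↔ y ∈ L ∧ y * x = x * y := fun y => by
    rw [hDd, Subgroup.mem_inf, Subgroup.mem_centralizer_singleton_iff]
  have hDL : D ≤ L := inf_le_left
  have hDQc : ∀ y, y ∈ D ↔ y ∈ Q ∧ ∀ v ∈ Q, v * y = y * v := by
    intro y
    refine ⟨fun hy => ⟨hLQ (hDL hy), fun v hv => ?_⟩, fun ⟨hyQ, hy⟩ => ?_⟩
    · obtain ⟨i, hi⟩ := stepLQ.gen hS hx hxL hv
      rw [← mul_inv_cancel_left (x ^ i) v]
      exact (((show Commute x y from ((memD y).1 hy).2.symm).zpow_left i).mul_left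
        (t.commL _ hi y (hDL hy))).eq
    · refine (memD y).2 ⟨?_, (hy x hx).symm⟩
      by_contra hyL
      refine hab fun a ha b hb => ?_
      have hA := comm_sup_zpowers t.commL (x := y) fun l hl => (hy l (hLQ hl)).symm
      have htop : Q ≤ L ⊔ Subgroup.zpowers y := ((stepLQ.eq_of_between (C := L ⊔ Subgroup.zpowers y) le_sup_left
        (sup_le hLQ (Subgroup.zpowers_le.2 hyQ))).resolve_left fun h =>
          hyL (h.le (Subgroup.mem_sup_right (Subgroup.mem_zpowers y)))).ge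
      exact hA a (htop ha) b (htop hb)
  have hZD : Z ≤ D := fun w hw => (hDQc w).2 ⟨hZQ hw, fun v _ => Subgroup.mem_center_iff.1 hw v⟩
  have hDneL : D ≠ L := fun h => hab fun a ha b hb => by
    have hA := comm_sup_zpowers t.commL (x := x) fun l hl => (((memD l).1 (h.ge hl)).2).symm
    have htop : Q ≤ L ⊔ Subgroup.zpowers x := ((stepLQ.eq_of_between (C := L ⊔ Subgroup.zpowers x) le_sup_left
      (sup_le hLQ (Subgroup.zpowers_le.2 hx))).resolve_left fun h =>
        hxL (h.le (Subgroup.mem_sup_right (Subgroup.mem_zpowers x)))).ge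
    exact hA a (htop ha) b (htop hb)
  have hcD : Nat.card D = p ^ 2 := by
    refine le_antisymm ?_ ?_
    · have := pow_le_of_lt hS (lt_of_le_of_ne hDL hDneL)
      rw [t.cardL, pow_succ'] at this
      exact Nat.le_of_mul_le_mul_left this hp.out.pos
    · let f : L →* Z :=
        { toFun := fun l => ⟨⁅(l : S), x⁆, hgL' x l l.2⟩
          map_one' := Subtype.ext (commutatorElement_one_left x)
          map_mul' := fun a b => Subtype.ext (by
            show ⁅(a : S) * b, x⁆ = ⁅(a : S), x⁆ * ⁅(b : S), x⁆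
            rw [show ⁅(a : S) * b, x⁆ = (a : S) * ⁅(b : S), x⁆ * (a : S)⁻¹ * ⁅(a : S), x⁆ by
              simp only [commutatorElement_def]; group,
              Subgroup.mem_center_iff.1 (hgL' x b b.2) a, mul_inv_cancel_right,
              Subgroup.mem_center_iff.1 (hgL' x a a.2) _]) }
      have hker : f.ker = D.subgroupOf L := by
        ext l
        rw [MonoidHom.mem_ker, Subgroup.mem_subgroupOf, memD, Subtype.ext_iff]
        show ⁅(l : S), x⁆ = 1 ↔ _
        rw [commutatorElement_eq_one_iff_mul_comm]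
        exact ⟨fun h => ⟨l.2, h⟩, fun h => h.2⟩
      have h1 := f.ker.card_mul_index
      rw [Subgroup.index_ker, hker, Nat.card_congr (Subgroup.subgroupOfEquivOfLe hDL).toEquiv, t.cardL, pow_succ] at h1
      have h3 : Nat.card f.range ≤ p := t.cardZ ▸ Subgroup.card_le_card_group f.range
      exact Nat.le_of_mul_le_mul_right (h1.ge.trans (Nat.mul_le_mul_left _ h3)) hp.out.pos
  have stepDL : Step p D L := step_of_card hS hDL (by rw [hcD, t.cardL, ← pow_succ'])
  have stepZD : Step p Z D := step_of_card hS hZD (by rw [hcD, t.cardZ, sq])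
  have stepZ : Step p ⊥ Z := step_of_card hS bot_le (by rw [t.cardZ, Subgroup.card_bot, mul_one])
  have hinvD : ∀ a : MulAut Q, a ∈ pres D := fun a => mem_pres fun y hy => (hDQc _).2
    ⟨ev_mem (hLQ (hDL hy)), fun v hv => by
      have h := congrArg (ev a) (((hDQc y).1 hy).2 (ev a⁻¹ v) (ev_mem hv))
      rwa [ev_mul (ev_mem hv) (hLQ (hDL hy)), ev_mul (hLQ (hDL hy)) (ev_mem hv), ev_cancel_inv] at h⟩
  haveI hDn : D.Normal := ⟨fun y hy g => (hDQc _).2 ⟨hQn.conj_mem y (hLQ (hDL hy)) g, fun v hv => by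
    have h := ((hDQc y).1 hy).2 (g⁻¹ * v * g) (by simpa using hQn.conj_mem v hv g⁻¹)
    calc v * (g * y * g⁻¹) = g * ((g⁻¹ * v * g) * y) * g⁻¹ := by group
      _ = g * (y * (g⁻¹ * v * g)) * g⁻¹ := by rw [h]
      _ = g * y * g⁻¹ * v := by group⟩⟩
  have hDnorm : ∀ y : S, y ∈ Subgroup.normalizer (D : Set S) := fun y => by
    rw [Subgroup.normalizer_eq_top]; exact Subgroup.mem_top y
  -- stabilizing elements lie in `Q`
  have hout : ∀ g : S, (∀ y ∈ Q, ⁅g, y⁆ ∈ D) → g ∈ Q := fun g hg => by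
    refine mem_of_stab hS hF hQ (l := [Z, D, Q]) ?_ rfl ?_ (by rw [Subgroup.normalizer_eq_top]; exact Subgroup.mem_top g) ?_
    · simp only [List.mem_cons, List.not_mem_nil, or_false, forall_eq_or_imp, forall_eq]
      exact ⟨hZQ, hDL.trans hLQ, le_rfl⟩
    · simp only [List.mem_cons, List.not_mem_nil, or_false, forall_eq_or_imp, forall_eq]
      exact ⟨hinvZ, fun a _ => hinvD a, fun a _ => pres_self a⟩
    · simp only [List.zip_cons_cons, List.zip_nil_right, List.mem_cons, List.not_mem_nil, or_false, forall_eq_or_imp,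
        forall_eq]
      exact ⟨fun y hy => by
          rw [Subgroup.mem_center_iff.1 hy g, mul_inv_cancel_right, inv_mul_cancel]; exact one_mem _,
        fun y hy => shift_mem (hZnorm y) (t.hgL g y (hDL hy)), fun y hy => shift_mem (hDnorm y) (hg y hy)⟩
  obtain ⟨g, -, hg⟩ := stepQ.exists_gen (p := p)
  have hgG : ∀ y : S, ⁅g, y⁆ ∈ commutator S := fun y =>
    Subgroup.commutator_mem_commutator (Subgroup.mem_top g) (Subgroup.mem_top y)
  -- `g` moves every element of `Q` outside `L` modulo `D`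
  have hmove : ∀ y ∈ Q, y ∉ L → ⁅g, y⁆ ∉ D := by
    intro y hy hyL h
    refine hg (hout g fun w hw => ?_)
    obtain ⟨i, hi⟩ := stepLQ.gen hS hy hyL hw
    set q := QuotientGroup.mk' D
    have h1 : Commute (q g) (q y) := MaxEss.mk_comm.2 h
    have h2 : Commute (q g) (q ((y ^ i)⁻¹ * w)) := MaxEss.mk_comm.2 (hZD (t.hgL g _ hi))
    refine MaxEss.mk_comm.1 ?_
    rw [← mul_inv_cancel_left (y ^ i) w, map_mul, map_zpow]
    exact ((h1.zpow_right i).mul_right h2).eq
  obtain ⟨c1, hc1def⟩ : ∃ c1, ⁅g, x⁆ = c1 := ⟨_, rfl⟩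
  have hc1L0 : c1 ∈ commutator S := hc1def ▸ hgG x
  have hc1D : c1 ∉ D := hc1def ▸ hmove x hx hxL
  have hc1L : c1 ∈ L := t.hL0L hc1L0
  have hc1Q : c1 ∈ Q := hLQ hc1L
  -- some automorphism moves `L`
  obtain ⟨α, hα, hαL⟩ : ∃ α ∈ autL F Q, α ∉ pres L := by
    by_contra! hall
    refine no_cyclic_series hS hF hQ (l := [Z, D, L, Q]) rfl ?_ ?_ ?_ ?_
    · simp only [List.mem_cons, List.not_mem_nil, or_false, forall_eq_or_imp, forall_eq, Subgroup.normalizer_eq_top]
      exact ⟨le_top, le_top, le_top, le_top⟩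
    · simp only [List.mem_cons, List.not_mem_nil, or_false, forall_eq_or_imp, forall_eq]
      exact ⟨hZQ, hDL.trans hLQ, hLQ, le_rfl⟩
    · simp only [List.mem_cons, List.not_mem_nil, or_false, forall_eq_or_imp, forall_eq]
      exact ⟨hinvZ, fun a _ => hinvD a, hall, fun a _ => pres_self a⟩
    · simp only [List.zip_cons_cons, List.zip_nil_right, List.mem_cons, List.not_mem_nil, or_false, forall_eq_or_imp,
        forall_eq]
      exact ⟨stepZ, stepZD, stepDL, stepLQ⟩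
  have hαc : ev α c1 ∉ L := fun h => hαL (mem_pres fun w hw => by
    obtain ⟨i, hi⟩ := stepDL.gen hS hc1L hc1D hw
    rw [← mul_inv_cancel_left (c1 ^ i) w, ev_mul (zpow_mem hc1Q i) (hLQ (hDL hi)), ev_zpow hc1Q]
    exact mul_mem (zpow_mem h i) (hDL ((hinvD α _).2 hi)))
  have hαc' : ev α⁻¹ c1 ∉ L := fun h => hαL (by
    refine inv_mem_iff.1 (mem_pres fun w hw => ?_)
    obtain ⟨i, hi⟩ := stepDL.gen hS hc1L hc1D hw
    rw [← mul_inv_cancel_left (c1 ^ i) w, ev_mul (zpow_mem hc1Q i) (hLQ (hDL hi)), ev_zpow hc1Q]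
    exact mul_mem (zpow_mem h i) (hDL ((hinvD α⁻¹ _).2 hi)))
  obtain ⟨y, hydef⟩ : ∃ y, ev α c1 = y := ⟨_, rfl⟩
  have hyQ : y ∈ Q := hydef ▸ ev_mem hc1Q
  have hyL : y ∉ L := hydef ▸ hαc
  set τ : MulAut Q := Q.normalizerMonoidHom ⟨g, by rw [Subgroup.normalizer_eq_top]; exact Subgroup.mem_top g⟩ with hτd
  have hτA : τ ∈ autL F Q := ind_le Q ⟨_, rfl⟩
  have hev : ∀ w ∈ Q, ev τ w = g * w * g⁻¹ := fun w hw => ev_conj _ hw
  have htrans : ∀ w ∈ Q, w ∉ L → ∃ m : ℤ, (m : ZMod p) ≠ 0 ∧ (w * c1 ^ m)⁻¹ * ev τ w ∈ D := by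
    intro w hw hwL
    have h1 : ⁅g, w⁆ ∈ L := t.hL0L (hgG w)
    obtain ⟨m, hm⟩ := stepDL.gen hS hc1L hc1D h1
    refine ⟨m, fun h0 => hmove w hw hwL ?_, ?_⟩
    · have := mul_mem (zpow_mem_of_cast (stepDL.pow_mem hS hc1L) h0) hm
      rwa [mul_inv_cancel_left] at this
    · rw [hev w hw, mul_inv_rev, mul_assoc, show w⁻¹ * (g * w * g⁻¹) = (w⁻¹ * ⁅g, w⁆ * w) by
        simp only [commutatorElement_def]; group]
      rw [show (c1 ^ m)⁻¹ * (w⁻¹ * ⁅g, w⁆ * w) = ((c1 ^ m)⁻¹ * ⁅g, w⁆) * (⁅g, w⁆⁻¹ * (w⁻¹ * ⁅g, w⁆ * w)) by group]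
      refine mul_mem hm (hZD ?_)
      rw [show ⁅g, w⁆⁻¹ * (w⁻¹ * ⁅g, w⁆ * w) = ⁅⁅g, w⁆⁻¹, w⁻¹⁆ by simp only [commutatorElement_def]; group]
      exact hgL' _ _ (inv_mem h1)
  set b : MulAut Q := α * τ * α⁻¹ with hbd
  have hbA : b ∈ autL F Q := mul_mem (mul_mem hα hτA) (Subgroup.inv_mem _ hα)
  have hevb : ∀ w, ev b w = ev α (ev τ (ev α⁻¹ w)) := fun w => by rw [hbd, ev_comp, ev_comp]
  obtain ⟨e, he, hay⟩ := htrans y hyQ hyL
  obtain ⟨e', he', hbz0⟩ := htrans (ev α⁻¹ c1) (ev_mem hc1Q) hαc'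
  have haz : c1⁻¹ * ev τ c1 ∈ D := by
    rw [hev c1 hc1Q]; exact hZD (shift_mem (hZnorm c1) (t.hgL g c1 hc1L))
  have hby : y⁻¹ * ev b y ∈ D := by
    rw [← hydef, hevb, ev_inv_cancel, ← ev_inv hc1Q, ← ev_mul (inv_mem hc1Q) (ev_mem hc1Q)]
    exact (hinvD α _).2 haz
  have hbz : (c1 * y ^ e')⁻¹ * ev b c1 ∈ D := by
    have h := (hinvD α _).2 hbz0
    rwa [ev_mul (inv_mem (mul_mem (ev_mem hc1Q) (zpow_mem hc1Q _))) (ev_mem (ev_mem hc1Q)),
      ev_inv (mul_mem (ev_mem hc1Q) (zpow_mem hc1Q _)), ev_mul (ev_mem hc1Q) (zpow_mem hc1Q _), ev_zpow hc1Q,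
      ev_cancel_inv, hydef, ← hevb] at h
  have hc1p : c1 ^ p ∈ D := stepDL.pow_mem hS hc1L
  have hyp : y ^ p ∈ D := hydef ▸ ev_pow hc1Q (a := α) p ▸ (hinvD α _).2 hc1p
  obtain ⟨h, hh, hhz, hhy⟩ := torus (M := Q) (D := D) (hDL.trans hLQ) (fun w _ => hDnorm w)
    (fun a ha b hb => hZD (hQQ a ha b hb)) hc1Q hyQ hc1p hyp (hinvD τ) (hinvD b) he he' haz hay hby hbz
    (c := -1) (d := -1) (by norm_num)
  have hhA : h ∈ autL F Q := (Subgroup.closure_le _).2 (Set.pair_subset hτA hbA) hh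
  rw [zpow_neg_one, inv_inv] at hhz hhy
  -- trivial action on `D` modulo `Z` and on `Z`
  have hτs : τ ∈ stab [Z, D] := by
    refine ⟨?_, ?_⟩
    · simp only [List.mem_cons, List.not_mem_nil, or_false, forall_eq_or_imp, forall_eq]
      exact ⟨hinvZ hτA, hinvD τ⟩
    · simp only [List.zip_cons_cons, List.zip_nil_right, List.mem_cons, List.not_mem_nil, or_false, forall_eq_or_imp,
        forall_eq]
      exact ⟨fun w hw => by
          rw [hev w (hZQ hw), Subgroup.mem_center_iff.1 hw g, mul_inv_cancel_right, inv_mul_cancel]; exact one_mem _,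
        fun w hw => by rw [hev w (hLQ (hDL hw))]; exact shift_mem (hZnorm w) (t.hgL g w (hDL hw))⟩
  have hZDle : ∀ A ∈ [Z, D], A ≤ Q := by
    simp only [List.mem_cons, List.not_mem_nil, or_false, forall_eq_or_imp, forall_eq]
    exact ⟨hZQ, hDL.trans hLQ⟩
  have hbs : b ∈ stab [Z, D] := conj_stab hZDle hτs fun A hA => by
    simp only [List.mem_cons, List.not_mem_nil, or_false] at hA
    rcases hA with rfl | rfl
    · exact hinvZ hα
    · exact hinvD α
  have hhs : h ∈ stab [Z, D] := (Subgroup.closure_le _).2 (Set.pair_subset hτs hbs) hh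
  -- the torus inverts `Q` modulo `D`
  have hinv : ∀ w ∈ Q, w * ev h w ∈ D := by
    intro w hw
    obtain ⟨i, hi⟩ := stepLQ.gen hS hyQ hyL hw
    obtain ⟨j, hj⟩ := stepDL.gen hS hc1L hc1D hi
    set q := QuotientGroup.mk' D
    have e1 : q (ev h c1) = (q c1)⁻¹ := by
      rw [eq_inv_iff_mul_eq_one, mul_eq_one_comm, ← map_mul]; exact (QuotientGroup.eq_one_iff _).2 hhz
    have e2 : q (ev h y) = (q y)⁻¹ := by
      rw [eq_inv_iff_mul_eq_one, mul_eq_one_comm, ← map_mul]; exact (QuotientGroup.eq_one_iff _).2 hhy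
    have hyc : Commute (q y) (q c1) := MaxEss.mk_comm.2 (hZD (hQQ y hyQ c1 hc1Q))
    obtain ⟨d', hd'⟩ : ∃ d', (c1 ^ j)⁻¹ * ((y ^ i)⁻¹ * w) = d' := ⟨_, rfl⟩
    rw [hd'] at hj
    have hw' : w = y ^ i * c1 ^ j * d' := by
      rw [← hd', mul_assoc, mul_inv_cancel_left, mul_inv_cancel_left]
    refine (QuotientGroup.eq_one_iff _).1 ?_
    show q (w * ev h w) = 1
    rw [map_mul, hw', ev_mul (mul_mem (zpow_mem hyQ i) (zpow_mem hc1Q j)) (hLQ (hDL hj)),
      ev_mul (zpow_mem hyQ i) (zpow_mem hc1Q j), ev_zpow hyQ, ev_zpow hc1Q, map_mul, map_mul, map_mul, map_mul,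
      show q d' = 1 from (QuotientGroup.eq_one_iff _).2 hj,
      show q (ev h d') = 1 from (QuotientGroup.eq_one_iff _).2 ((hinvD h _).2 hj), mul_one, mul_one, map_zpow,
      map_zpow, map_zpow, map_zpow, e1, e2, (hyc.zpow_zpow i j).eq, inv_zpow, inv_zpow, mul_assoc,
      mul_inv_cancel_left, mul_inv_cancel]
  -- automorphisms preserving `L` extend
  have hle4 : ∀ A ∈ [Z, D, L, Q], A ≤ Q := by
    simp only [List.mem_cons, List.not_mem_nil, or_false, forall_eq_or_imp, forall_eq]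
    exact ⟨hZQ, hDL.trans hLQ, hLQ, le_rfl⟩
  have hind : ind Q ≤ stab [Z, D, L, Q] := by
    refine ind_le_stab hS hle4 ?_ ?_
    · simp only [List.mem_cons, List.not_mem_nil, or_false, forall_eq_or_imp, forall_eq, Subgroup.normalizer_eq_top]
      exact ⟨le_rfl, le_rfl, le_rfl, le_rfl⟩
    · simp only [List.zip_cons_cons, List.zip_nil_right, List.mem_cons, List.not_mem_nil, or_false,
        forall_eq_or_imp, forall_eq]
      exact ⟨stepZ, stepZD, stepDL, stepLQ⟩
  have hext : ∀ γ ∈ autL F Q, γ ∈ pres L → γ ∈ kp K ∧ ∃ B : MulAut (⊤ : Subgroup S), B ∈ autL F (⊤ : Subgroup S) ∧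
      ∀ w ∈ Q, ev B w = ev γ w := fun γ hγ hγL => by
    obtain ⟨B, hB, hBe⟩ := extend hS hF (essential_fn hS hF hQ) hle4 rfl hind hγ (by
      simp only [List.mem_cons, List.not_mem_nil, or_false, forall_eq_or_imp, forall_eq]
      exact ⟨hinvZ hγ, hinvD γ, hγL, pres_self γ⟩)
    have aux : ∀ (T : Subgroup S), T = ⊤ → ∀ B : MulAut T, B ∈ autL F T → ∀ w ∈ T, ∃ B' ∈ autL F (⊤ : Subgroup S),
        ∀ x, ev B' x = ev B x := by
      rintro _ rfl B hB _ -
      exact ⟨B, hB, fun _ => rfl⟩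
    obtain ⟨B', hB', hBB'⟩ := aux _ (Subgroup.normalizer_eq_top Q) B hB 1 (one_mem _)
    refine ⟨fun w hw => ?_, B', hB', fun w hw => by rw [hBB', hBe w hw]⟩
    rw [← hBe w hw, ← hBB']
    exact t.glob B' hB' w (Subgroup.mem_top w)
  have hhL : h ∈ pres L := mem_pres fun w hw => by
    have := mul_mem (inv_mem hw) (hDL (hinv w (hLQ hw)))
    rwa [inv_mul_cancel_left] at this
  obtain ⟨hhK, B, hB, hBe⟩ := hext h hhA hhL
  -- the derived group is inverted modulo `Z`
  have hBc : c1 * ev h c1 ∈ Z := by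
    have h1 : ev h c1 ∈ commutator S := by
      rw [← hBe c1 hc1Q]
      have hle : commutator S ≤ (commutator S).comap
          ((⊤ : Subgroup S).subtype.comp (B.toMonoidHom.comp Subgroup.topEquiv.symm.toMonoidHom)) := by
        rw [commutator_def, Subgroup.commutator_le]
        intro v _ w _
        rw [Subgroup.mem_comap, map_commutatorElement]
        exact Subgroup.commutator_mem_commutator (Subgroup.mem_top _) (Subgroup.mem_top _)
      rw [ev_of_mem (Subgroup.mem_top c1)]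
      exact hle hc1L0
    rcases t.stepL0.eq_of_between (C := D ⊓ commutator S) (le_inf hZD t.stepL0.le) inf_le_right with h2 | h2
    · exact h2.le ⟨hinv c1 hc1Q, mul_mem hc1L0 h1⟩
    · exact absurd ((inf_le_left : D ⊓ commutator S ≤ D) (h2.ge hc1L0)) hc1D
  -- so the moved element lies in `K`
  have hZK : Z ≤ K := t.stepL0.le.trans t.hcomm
  have hyK : y ∈ K := by
    obtain ⟨w, hw, hwe⟩ := stab_inner hS hF hQ (l := [Z, D, Q]) (a := ⁅α, h⁆)
      (by simp only [List.mem_cons, List.not_mem_nil, or_false, forall_eq_or_imp, forall_eq]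
          exact ⟨hZQ, hDL.trans hLQ, le_rfl⟩) rfl
      (by simp only [List.mem_cons, List.not_mem_nil, or_false, forall_eq_or_imp, forall_eq]
          exact ⟨hinvZ, fun a _ => hinvD a, fun a _ => pres_self a⟩)
      (mul_mem (mul_mem (mul_mem hα hhA) (Subgroup.inv_mem _ hα)) (Subgroup.inv_mem _ hhA)) (by
        have h1 := comm_stab (p := p) hS (L := Q) (l := [Z, D]) hZDle
          (by simp only [List.zip_cons_cons, List.zip_nil_right, List.mem_cons, List.not_mem_nil, or_false,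
                forall_eq_or_imp, forall_eq]
              exact ⟨stepZ, stepZD⟩)
          (a := α) (b := h)
          (by simp only [List.mem_cons, List.not_mem_nil, or_false, forall_eq_or_imp, forall_eq]
              exact ⟨hinvZ hα, hinvD α⟩) hhs.1
        refine ⟨?_, ?_⟩
        · simp only [List.mem_cons, List.not_mem_nil, or_false, forall_eq_or_imp, forall_eq]
          exact ⟨h1.1 Z (by simp), h1.1 D (by simp), pres_self _⟩
        · simp only [List.zip_cons_cons, List.zip_nil_right, List.mem_cons, List.not_mem_nil, or_false,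
            forall_eq_or_imp, forall_eq]
          refine ⟨h1.2 (⊥, Z) (by simp), h1.2 (Z, D) (by simp), fun v hv => ?_⟩
          set q := QuotientGroup.mk' D
          have hqi : ∀ w ∈ Q, q (ev h w) = (q w)⁻¹ := fun w hw => by
            rw [eq_inv_iff_mul_eq_one, mul_eq_one_comm, ← map_mul]
            exact (QuotientGroup.eq_one_iff _).2 (hinv w hw)
          have hqh : ∀ w ∈ Q, q (ev h⁻¹ w) = (q w)⁻¹ := fun w hw => by
            have := hqi (ev h⁻¹ w) (ev_mem hw)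
            rw [ev_cancel_inv] at this
            rw [this, inv_inv]
          have hqα : ∀ w ∈ Q, ∀ w' ∈ Q, q w = (q w')⁻¹ → q (ev α w) = (q (ev α w'))⁻¹ := fun w hw w' hw' h' => by
            rw [eq_inv_iff_mul_eq_one, ← map_mul] at h' ⊢
            have := (hinvD α _).2 ((QuotientGroup.eq_one_iff _).1 h')
            rw [ev_mul hw hw'] at this
            exact (QuotientGroup.eq_one_iff _).2 this
          refine QuotientGroup.eq.1 ?_
          show q v = q (ev ⁅α, h⁆ v)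
          have hv1 : ev h⁻¹ v ∈ Q := ev_mem hv
          rw [commutatorElement_def, ev_comp, ev_comp, ev_comp,
            hqα (ev h (ev α⁻¹ (ev h⁻¹ v))) (ev_mem (ev_mem hv1)) (ev α⁻¹ (ev h⁻¹ v)) (ev_mem hv1)
              (hqi _ (ev_mem hv1)), ev_cancel_inv, hqh v hv, inv_inv])
    refine mem_of_inverted hS hhK hyQ h2 ?_ ?_
    · rw [← hydef, ← ev_pow hc1Q]
      have h1 : c1 ^ p ∈ Z := t.stepL0.pow_mem hS hc1L0
      exact hZK ((hinvZ hα _).2 h1)
    · refine hZK ?_
      have h1 : ev α (ev h c1) = ev ⁅α, h⁆ (ev h y) := by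
        rw [← hydef, ← ev_comp, ← ev_comp, ← ev_comp, commutatorElement_def, inv_mul_cancel_right,
          inv_mul_cancel_right]
      have h3 : y * (w * ev h y * w⁻¹) ∈ Z := by
        rw [← hwe _ (ev_mem hyQ), ← h1, ← hydef, ← ev_mul hc1Q (ev_mem hc1Q)]
        exact (hinvZ hα _).2 hBc
      have h4 : (ev h y)⁻¹ * (w * ev h y * w⁻¹) ∈ Z := shift_mem (hZnorm _) (hQQ w hw _ (ev_mem hyQ))
      have := mul_mem h3 (inv_mem h4)
      rwa [mul_inv_rev, inv_inv, mul_assoc, mul_inv_cancel_left] at this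
  have hL0K : ∀ w ∈ commutator S, ev α w ∈ K := fun w hw => by
    have hc1Z : c1 ∉ Z := fun h => hc1D (hZD h)
    obtain ⟨i, hi⟩ := t.stepL0.gen hS hc1L0 hc1Z hw
    rw [← mul_inv_cancel_left (c1 ^ i) w, ev_mul (zpow_mem hc1Q i) (hZQ hi), ev_zpow hc1Q, hydef]
    exact mul_mem (zpow_mem hyK i) (hZK ((hinvZ hα _).2 hi))
  have hτK : τ ∈ kp K := fun w hw => by rw [hev w hw]; exact conj_mem_K hS t.hcomm g w
  have hbK : b ∈ kp K := fun w hw => by
    have hv : ev α⁻¹ w ∈ Q := ev_mem hw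
    have h1 : (ev α⁻¹ w)⁻¹ * ev τ (ev α⁻¹ w) ∈ commutator S := by
      rw [hev _ hv, show (ev α⁻¹ w)⁻¹ * (g * ev α⁻¹ w * g⁻¹) = ⁅(ev α⁻¹ w)⁻¹, g⁆ by
        simp only [commutatorElement_def, inv_inv, mul_assoc]]
      exact Subgroup.commutator_mem_commutator (Subgroup.mem_top _) (Subgroup.mem_top _)
    have := hL0K _ h1
    rwa [ev_mul (inv_mem hv) (ev_mem hv), ev_inv hv, ev_cancel_inv, ← hevb] at this
  -- lines over `D`
  have hbL : b ∈ pres (img α L hLQ) := fun w => by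
    rw [mem_img, mem_img, hevb, ev_inv_cancel]
    exact (conj_mem_pres hLQ (n := ⟨g, _⟩) (by rw [Subgroup.normalizer_eq_top]; exact Subgroup.mem_top g) _)
  have eD : ∀ γ : MulAut Q, img γ D (hDL.trans hLQ) = D := fun γ => SetLike.ext fun w => hinvD γ⁻¹ w
  have hstep : ∀ γ : MulAut Q, Step p D (img γ L hLQ) ∧ Step p (img γ L hLQ) Q := fun γ => by
    have h1 := stepDL.img γ (hDL.trans hLQ) hLQ
    rw [eD] at h1
    have h2 := stepLQ.img γ hLQ le_rfl
    rw [show img γ Q le_rfl = Q from SetLike.ext fun w => ev_mem_iff] at h2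
    exact ⟨h1, h2⟩
  obtain ⟨k, hk⟩ := ind_pow hS (show τ ∈ ind Q from ⟨_, rfl⟩)
  have hbk : b ^ p ^ k = 1 := by rw [hbd, conj_pow, hk, mul_one, mul_inv_cancel]
  set L1 := img α L hLQ with hL1
  have hL1L : L1 ≠ L := fun e => hαc (by
    rw [← SetLike.ext_iff.1 e (ev α c1), hL1, mem_img, ev_inv_cancel]; exact hc1L)
  have hbL' : b ∉ pres L := fun h => by
    have h1 := (h c1).2 hc1L
    obtain ⟨d', hd'⟩ : ∃ d', (c1 * y ^ e')⁻¹ * ev b c1 = d' := ⟨_, rfl⟩
    rw [hd'] at hbz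
    have hey : y ^ e' ∈ L := by
      have := mul_mem (mul_mem (inv_mem hc1L) h1) (inv_mem (hDL hbz))
      rwa [← hd', show c1⁻¹ * ev b c1 * ((c1 * y ^ e')⁻¹ * ev b c1)⁻¹ = y ^ e' by group] at this
    exact hyL (mem_of_zpow_mem (hDL hyp) he' hey)
  have hτL1 : τ ∉ pres L1 := fun h => by
    have hyL1 : y ∈ L1 := by rw [← hydef, hL1, mem_img, ev_inv_cancel]; exact hc1L
    obtain ⟨d', hd'⟩ : ∃ d', (y * c1 ^ e)⁻¹ * ev τ y = d' := ⟨_, rfl⟩
    rw [hd'] at hay
    have hey : c1 ^ e ∈ L1 := by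
      have := mul_mem (mul_mem (inv_mem hyL1) ((h y).2 hyL1)) (inv_mem ((hstep α).1.le hay))
      rwa [← hd', show y⁻¹ * ev τ y * ((y * c1 ^ e)⁻¹ * ev τ y)⁻¹ = c1 ^ e by group] at this
    exact line_not_mem hS stepDL (hstep α).1 hL1L (mem_of_zpow_mem ((hstep α).1.le hc1p) he hey) hc1D hc1L
  have hτLL : τ ∈ pres L := conj_mem_pres hLQ (by rw [Subgroup.normalizer_eq_top]; exact Subgroup.mem_top g)
  intro γ hγ
  suffices hg' : ∃ r ∈ autL F Q, r ∈ kp K ∧ ∀ w, ev r w ∈ img γ L hLQ ↔ w ∈ L by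
    obtain ⟨r, hrA, hrK, hr⟩ := hg'
    have h1 := (hext (γ⁻¹ * r) (mul_mem (Subgroup.inv_mem _ hγ) hrA) (fun w => by rw [ev_comp, ← hr w, mem_img])).1
    have := mul_mem hrK (inv_mem h1)
    rwa [mul_inv_rev, inv_inv, mul_inv_cancel_left] at this
  by_cases hγL : img γ L hLQ = L
  · exact ⟨1, one_mem _, one_mem _, fun w => by rw [hγL, ev_id]⟩
  by_cases hγ1 : img γ L hLQ = L1
  · -- through a third line
    set L2 := img τ L1 img_le with hL2
    have hL2s : Step p D L2 := by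
      have h1 := (hstep α).1.img τ (hDL.trans hLQ) img_le
      rwa [eD] at h1
    have hL21 : L2 ≠ L1 := fun e => hτL1 fun w => by
      rw [← SetLike.ext_iff.1 e (ev τ w), hL2, mem_img, ev_inv_cancel]
    obtain ⟨n, hn⟩ := exists_move hS (hstep α).1 stepDL hL2s (hstep α).2 hLQ img_le (Ne.symm hL1L) hL21 (hinvD b)
      hbL hbL' hbk
    refine ⟨τ⁻¹ * b ^ n, mul_mem (Subgroup.inv_mem _ hτA) (pow_mem hbA n), mul_mem (inv_mem hτK) (pow_mem hbK n),
      fun w => ?_⟩
    rw [hγ1, ev_comp]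
    exact hn w
  · obtain ⟨n, hn⟩ := exists_move hS (hstep α).1 stepDL (hstep γ).1 (hstep α).2 hLQ img_le (Ne.symm hL1L) hγ1
      (hinvD b) hbL hbL' hbk
    exact ⟨b ^ n, pow_mem hbA n, pow_mem hbK n, hn⟩

/-- No abelian essential subgroup of order `p³`. -/
theorem no_cube (h2 : p ≠ 2) (h7 : p ≠ 7) (hnab : NoAb p S) (hhyp : F.hyperfocalSubgroup p = S) {E : Subgroup S}
    (hE : F.IsEssential p (om E)) (hab : ∀ a ∈ E, ∀ b ∈ E, a * b = b * a) (hk : Nat.card E = p ^ 3) : False := by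
  obtain ⟨H, u, e, z, d⟩ := exists_ess hS hF h2 hcard hE hab (abelian_essential hS hF hnab hE hab).1 (Or.inr hk)
  obtain ⟨L, c⟩ := exists_cube hS hF hcard d hk
  obtain ⟨α, hα, hn⟩ := d.exists_moving hS hF (Or.inr hk)
  obtain ⟨-, K, C, t⟩ := c.exists_top hS hF hcard h2 h7 hnab hα hn
  refine false_of_invariant hS hF hhyp t.hK
    (fun x y => t.hcomm (Subgroup.commutator_mem_commutator (Subgroup.mem_top x) (Subgroup.mem_top y))) ?_
  rintro Q (rfl | hQ) a ha x hx
  · exact t.glob a ha x hx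
  by_cases hQa : ∀ a ∈ Q, ∀ b ∈ Q, a * b = b * a
  · obtain ⟨hexp, hk | hk⟩ := abelian_essential hS hF hnab hQ hQa
    · exact (t.not_sq hS hF hcard h2 hQ hQa hexp hk).elim
    · exact t.abelian_kp hS hF hcard h2 hQ hQa hexp hk ha x hx
  · exact t.nonabelian_kp hS hF hcard h2 hQ hQa ha x hx

end Cfsg.Agent.OrderFive
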