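import Cfsg.Agent.Lib.OrderFive.CubeWeights

/-!
# An abelian essential subgroup of order `3³`: a proper subgroup respected by the automorphisms of the group
-/

set_option autoImplicit false
set_option linter.unusedSectionVars false
set_option linter.style.haveILetI false

namespace Cfsg.Agent.OrderFive

open Cfsg Cfsg.FusionSystem Cfsg.Agent Cfsg.Agent.FusionSys Cfsg.Agent.MaxEss
open scoped commutatorElement

variable {Ω : Type*} [Group Ω] {S : Subgroup Ω} [Finite S] {F : FusionSystem S}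

/-- A proper subgroup respected by the automorphisms of `S`, with the subgroups `L`, `C` used for the essential
subgroups. -/
structure CubeTop (F : FusionSystem S) (p : ℕ) (K L C : Subgroup S) : Prop where
  hK : K ≠ ⊤
  hcomm : commutator S ≤ K
  glob : ∀ B ∈ autL F (⊤ : Subgroup S), B ∈ kp K
  nL : L.Normal
  commL : ∀ a ∈ L, ∀ b ∈ L, a * b = b * a
  cardL : Nat.card L = p ^ 3
  cardC : Nat.card C = p ^ 4
  cardZ : Nat.card (Subgroup.center S) = p
  stepL0 : Step p (Subgroup.center S) (commutator S)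
  hL0L : commutator S ≤ L
  hLC : L ≤ C
  hC : ∀ x, x ∈ C ↔ ∀ v ∈ commutator S, v * x = x * v
  hgL : ∀ g : S, ∀ l ∈ L, ⁅g, l⁆ ∈ Subgroup.center S

theorem card_sup_zpowers_le {G : Type*} [Group G] [Finite G] {p : ℕ} [hp : Fact p.Prime] {A : Subgroup G}
    (hA : A.Normal) {y : G} (hy : y ^ p ∈ A) : Nat.card (A ⊔ Subgroup.zpowers y : Subgroup G) ≤ p * Nat.card A := by
  set q := QuotientGroup.mk' A
  have hle : A ⊔ Subgroup.zpowers y ≤ (Subgroup.zpowers (q y)).comap q :=
    sup_le (fun a ha => Subgroup.mem_comap.2 (by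
      rw [show q a = 1 from (QuotientGroup.eq_one_iff a).2 ha]; exact one_mem _))
      (Subgroup.zpowers_le.2 (Subgroup.mem_zpowers (q y)))
  refine (Subgroup.card_le_of_le hle).trans ?_
  have h1 := Subgroup.card_mul_index ((Subgroup.zpowers (q y)).comap q)
  rw [Subgroup.index_comap_of_surjective _ (QuotientGroup.mk'_surjective A)] at h1
  have h2 := Subgroup.card_mul_index (Subgroup.zpowers (q y))
  rw [← Subgroup.index_eq_card] at h2
  have h3 := A.card_mul_index
  rw [← h2, ← h1, ← mul_assoc] at h3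
  rw [← Nat.eq_of_mul_eq_mul_right (Nat.pos_of_ne_zero Subgroup.index_ne_zero_of_finite) h3, mul_comm p]
  refine Nat.mul_le_mul_left _ ?_
  rw [Nat.card_zpowers]
  exact Nat.le_of_dvd hp.out.pos (orderOf_dvd_of_pow_eq_one (by
    rw [← map_pow]; exact (QuotientGroup.eq_one_iff _).2 hy))

theorem zpow_three_comm {G : Type*} [Group G] {a b : G} (h : Commute a b) : (a * b) ^ 3 = a ^ 3 * b ^ 3 :=
  h.mul_pow 3

theorem two_ne_zero_three : ((2 : ℤ) : ZMod 3) ≠ 0 := by decide

theorem weights_three : ∀ U V W R T : ZMod 3, U ≠ 0 → V ≠ 0 → R = U * V → T = U * R → T = V * W → W = 1 := by decide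

variable {p : ℕ} [hp : Fact p.Prime] (hS : IsPGroup p S) (hF : F.IsSaturated p) (hcard : Nat.card S = p ^ 5)
include hS hF hcard

theorem Cube.exists_top (h2 : p ≠ 2) (h7 : p ≠ 7) (hnab : NoAb p S) {E H L : Subgroup S} {u e z : S}
    (c : Cube F p E H L u e z) {α : MulAut E} (hα : α ∈ autL F E) (hn : ev α z ∉ Subgroup.zpowers z) :
    p = 3 ∧ ∃ K C, CubeTop F p K L C := by
  have d := c.d
  obtain ⟨hp3, hGH, hGL⟩ := c.prime_eq_three hS hF h2 h7 hnab hα hn
  refine ⟨hp3, ?_⟩
  subst hp3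
  set N := Subgroup.normalizer (E : Set S) with hN
  set Z := Subgroup.zpowers z with hZ
  obtain ⟨B, hB, hBN, hBL, hBH, hBZ, hBz, hBH1, hBy, hwL, hwT⟩ :=
    c.exists_weights hS hF hα hn (a := -1) (b := -1) (by norm_num)
  have hy : ev α z ∈ E := ev_mem d.hzE
  have hyH : ev α z ∉ H := (d.moves hS hF hα (d.conj_not_mem hS hF hn)).1
  generalize ev α z = y at *
  obtain ⟨g, -, hg⟩ := c.stepT.exists_gen (p := 3)
  obtain ⟨dd, hdd, hddz⟩ := c.stepZH.exists_gen (p := 3)
  have hyN := d.stepN.le hy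
  have hyL : y ∉ L := fun h => hyH (c.inter_H hS hF h hy)
  -- the centre
  have hZc : Subgroup.center S = Z := by
    refine le_antisymm (fun x hx => ?_) (fun x hx => Subgroup.mem_center_iff.2 fun v =>
      (c.zpowers_comm hx v).eq.symm)
    have hxH : x ∈ H := (d.memH x).2 ⟨center_le_essential hS hF d.ess hx, fun v _ => Subgroup.mem_center_iff.1 hx v⟩
    by_contra hxz
    exact hGH g hg x hxH hxz (commutatorElement_eq_one_iff_mul_comm.2 (Subgroup.mem_center_iff.1 hx g))
  haveI := c.nZ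
  haveI := c.nH
  have hgyH : ⁅g, y⁆ ∉ H := fun h => hg (MaxEss.mem_norm fun x hx => by
    obtain ⟨k, hk⟩ := d.stepH.gen hS hy hyH hx
    have h1 : g * y * g⁻¹ ∈ E := by
      have := mul_mem (d.stepH.le h) hy
      rwa [commutatorElement_def, inv_mul_cancel_right] at this
    rw [← mul_inv_cancel_left (y ^ k) x,
      show g * (y ^ k * ((y ^ k)⁻¹ * x)) * g⁻¹ = (g * y * g⁻¹) ^ k * (g * ((y ^ k)⁻¹ * x) * g⁻¹) by
        rw [conj_zpow]; simp only [mul_assoc, inv_mul_cancel_left]]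
    exact mul_mem (zpow_mem h1 k) (d.stepH.le (c.nH.conj_mem _ hk g)))
  -- the second centre is `L`
  set T : Subgroup S := (Subgroup.center (S ⧸ Z)).comap (QuotientGroup.mk' Z) with hT
  have memT : ∀ x, x ∈ T ↔ ∀ v, ⁅v, x⁆ ∈ Z := fun x => by
    rw [hT, Subgroup.mem_comap, Subgroup.mem_center_iff]
    refine ⟨fun h v => MaxEss.mk_comm.1 (h _), fun h v => ?_⟩
    induction v using QuotientGroup.induction_on with
    | _ v => exact MaxEss.mk_comm.2 (h v)
  have hTL : T = L := by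
    refine le_antisymm (fun x hx => ?_) (fun x hx => (memT x).2 fun v => hGL v x hx)
    have hxN : x ∈ N := MaxEss.mem_norm fun w hw => by
      have h1 : ⁅x, w⁆ ∈ Z := by rw [← commutatorElement_inv]; exact inv_mem ((memT x).1 hx w)
      have := mul_mem (d.stepH.le (c.stepZH.le h1)) hw
      rwa [commutatorElement_def, inv_mul_cancel_right] at this
    by_contra hxL
    have hle : L ⊔ Subgroup.zpowers x ≤ T :=
      sup_le (fun l hl => (memT l).2 fun v => hGL v l hl) (Subgroup.zpowers_le.2 hx)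
    rcases c.stepLN.eq_of_between (C := L ⊔ Subgroup.zpowers x) le_sup_left
      (sup_le c.stepLN.le (Subgroup.zpowers_le.2 hxN)) with h | h
    · exact hxL (h.le (Subgroup.mem_sup_right (Subgroup.mem_zpowers x)))
    · exact hgyH (c.stepZH.le ((memT y).1 (hle (h.ge hyN)) g))
  -- the derived group
  obtain ⟨c0, hc0⟩ : ∃ c0, ⁅g, y⁆ = c0 := ⟨_, rfl⟩
  rw [hc0] at hgyH
  have hc0L : c0 ∈ L := hc0 ▸ c.commGN g y hyN
  have hyc : ⁅y, c0⁆ ≠ 1 := fun h => hgyH (c.inter_H hS hF hc0L
    (c.mem_of_comm hS hF hy hyH (c.stepLN.le hc0L) (commutatorElement_eq_one_iff_mul_comm.1 h).symm))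
  have hc03 : c0 ^ 3 ∈ Z := by
    set q := QuotientGroup.mk' Z
    have hcomm : Commute (q c0) (q y) := (MaxEss.mk_comm.2 (hGL y c0 hc0L)).symm
    have h1 : (c0 * y) ^ 3 = 1 := by
      rw [← hc0, commutatorElement_def, inv_mul_cancel_right, conj_pow, d.exp y hy, mul_one, mul_inv_cancel]
    have h2 := congrArg q h1
    rw [map_pow, map_mul, hcomm.mul_pow, ← map_pow, ← map_pow, d.exp y hy, map_one, mul_one] at h2
    exact (QuotientGroup.eq_one_iff _).1 h2
  set L0 := Z ⊔ Subgroup.zpowers c0 with hL0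
  have hZL : Z ≤ L := c.stepZH.le.trans c.stepHL.le
  have hL0L : L0 ≤ L := sup_le hZL (Subgroup.zpowers_le.2 hc0L)
  have hc0Z : c0 ∉ Z := fun h => hgyH (c.stepZH.le h)
  have stepL0 : Step 3 Z L0 := step_of_card hS le_sup_left
    (le_antisymm (card_sup_zpowers_le c.nZ hc03) (le_card_sup hS hc0Z))
  have hL0n : L0.Normal := ⟨fun x hx v => by
    have h1 : ⁅v, x⁆ ∈ L0 := Subgroup.mem_sup_left (hGL v x (hL0L hx))
    have := mul_mem h1 hx
    rwa [commutatorElement_def, inv_mul_cancel_right] at this⟩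
  have hGc : commutator S = L0 := by
    refine le_antisymm ?_ (sup_le (Subgroup.zpowers_le.2 (d.hz ▸ Subgroup.commutator_mem_commutator
      (Subgroup.mem_top u) (Subgroup.mem_top e))) (Subgroup.zpowers_le.2 (hc0 ▸
      Subgroup.commutator_mem_commutator (Subgroup.mem_top g) (Subgroup.mem_top y))))
    rw [commutator_def, Subgroup.commutator_le]
    intro v _ w _
    haveI := hL0n
    set q := QuotientGroup.mk' L0
    have hgen : ∀ P : Subgroup S, g ∈ P → y ∈ P → L ≤ P → ∀ x, x ∈ P := fun P h1 h2 h3 x => by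
      obtain ⟨i, hi⟩ := c.stepT.gen hS (Subgroup.mem_top g) hg (Subgroup.mem_top x)
      obtain ⟨j, hj⟩ := c.stepLN.gen hS hyN hyL hi
      have := mul_mem (zpow_mem h1 i) (mul_mem (zpow_mem h2 j) (h3 hj))
      rwa [mul_inv_cancel_left, mul_inv_cancel_left] at this
    have hmk : ∀ a b : S, b ∈ (Subgroup.centralizer {q a}).comap q ↔ ⁅b, a⁆ ∈ L0 := fun a b => by
      rw [Subgroup.mem_comap, Subgroup.mem_centralizer_singleton_iff]
      exact MaxEss.mk_comm
    have hLc : ∀ a, L ≤ (Subgroup.centralizer {q a}).comap q := fun a l hl => (hmk a l).2 (by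
      rw [← commutatorElement_inv]; exact inv_mem (Subgroup.mem_sup_left (hGL a l hl)))
    have hgy : ⁅g, y⁆ ∈ L0 := hc0 ▸ Subgroup.mem_sup_right (Subgroup.mem_zpowers c0)
    have hG : ∀ b, ⁅b, g⁆ ∈ L0 := fun b => (hmk g b).1 (hgen _ ((hmk g g).2 (by simp))
      ((hmk g y).2 (by rw [← commutatorElement_inv]; exact inv_mem hgy)) (hLc g) b)
    have hY : ∀ b, ⁅b, y⁆ ∈ L0 := fun b => (hmk y b).1 (hgen _ ((hmk y g).2 hgy) ((hmk y y).2 (by simp)) (hLc y) b)
    exact (hmk w v).1 (hgen _ ((hmk w g).2 (by rw [← commutatorElement_inv]; exact inv_mem (hG w)))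
      ((hmk w y).2 (by rw [← commutatorElement_inv]; exact inv_mem (hY w))) (hLc w) v)
  haveI := hL0n
  -- the centralizer of the derived group
  set C := Subgroup.centralizer (L0 : Set S) with hC
  have memC : ∀ x, x ∈ C ↔ ∀ v ∈ L0, v * x = x * v := fun x => by rw [hC, Subgroup.mem_centralizer_iff]; rfl
  have hLC : L ≤ C := fun l hl => (memC l).2 fun v hv => c.L_comm hS hF v (hL0L hv) l hl
  have hyC : y ∉ C := fun h => hyc (commutatorElement_eq_one_iff_mul_comm.2
    ((memC y).1 h c0 (Subgroup.mem_sup_right (Subgroup.mem_zpowers c0))).symm)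
  obtain ⟨k, hk⟩ := exists_adjust (p := 3) c.zc (d.exp z d.hzE) (hGL g c0 hc0L) (hGL y c0 hc0L) hyc
  obtain ⟨g', hg'⟩ : ∃ g', g * y ^ k = g' := ⟨_, rfl⟩
  rw [hg'] at hk
  have hg'N : g' ∉ N := fun h => hg (by
    have := mul_mem h (inv_mem (zpow_mem hyN k))
    rwa [← hg', mul_inv_cancel_right] at this)
  have hg'C : g' ∈ C := (memC g').2 fun v hv => by
    have hle : L0 ≤ Subgroup.centralizer {g'} := sup_le
      (fun w hw => Subgroup.mem_centralizer_singleton_iff.2 (c.zpowers_comm hw g').eq)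
      (Subgroup.zpowers_le.2 (Subgroup.mem_centralizer_singleton_iff.2
        (commutatorElement_eq_one_iff_mul_comm.1 hk).symm))
    exact Subgroup.mem_centralizer_singleton_iff.1 (hle hv)
  have hcH : Nat.card H = 3 ^ 2 := by
    have h := d.stepH.card
    rw [c.hk, pow_succ'] at h
    exact (Nat.eq_of_mul_eq_mul_left (by norm_num) h).symm
  have hcL : Nat.card L = 3 ^ 3 := by rw [c.stepHL.card, hcH, ← pow_succ']
  have hcC : Nat.card C = 3 ^ 4 := by
    refine le_antisymm ?_ ?_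
    · have := pow_le_of_lt hS (lt_top_iff_ne_top.2 fun h : C = ⊤ => hyC (h ▸ Subgroup.mem_top y))
      rw [Subgroup.card_top, hcard, pow_succ'] at this
      exact Nat.le_of_mul_le_mul_left this (by norm_num)
    · have := pow_le_of_lt hS (lt_of_le_of_ne hLC fun h : L = C => hg'N (c.stepLN.le (h ▸ hg'C)))
      rwa [hcL, ← pow_succ'] at this
  have stepLC : Step 3 L C := step_of_card hS hLC (by rw [hcC, hcL, ← pow_succ'])
  have stepC : Step 3 C ⊤ := step_of_card hS le_top (by rw [Subgroup.card_top, hcard, hcC, ← pow_succ'])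
  have hCN : ∀ x ∈ C, x ∈ N → x ∈ L := fun x hxC hxN => by
    by_contra hxL
    rcases c.stepLN.eq_of_between (C := L ⊔ Subgroup.zpowers x) le_sup_left
      (sup_le c.stepLN.le (Subgroup.zpowers_le.2 hxN)) with h | h
    · exact hxL (h.le (Subgroup.mem_sup_right (Subgroup.mem_zpowers x)))
    · exact hyC ((sup_le hLC (Subgroup.zpowers_le.2 hxC)) (h.ge hyN))
  have hddL : dd ∈ L := c.stepHL.le hdd
  have hddL0 : dd ∉ L0 := fun h => line_not_mem hS stepL0 c.stepZH
    (fun e => hgyH (e.ge (Subgroup.mem_sup_right (Subgroup.mem_zpowers c0)))) hdd hddz h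
  have stepL0L : Step 3 L0 L := step_of_card hS hL0L (by
    rw [hcL, stepL0.card, hZ, d.card_line, ← sq, ← pow_succ'])
  -- invariance
  have hpZ : ∀ β : MulAut (⊤ : Subgroup S), β ∈ pres Z := fun β => mem_pres fun x hx => by
    rw [← hZc] at hx ⊢
    refine Subgroup.mem_center_iff.2 fun v => ?_
    have h1 := congrArg (ev β) (Subgroup.mem_center_iff.1 hx (ev β⁻¹ v))
    rwa [ev_mul (Subgroup.mem_top _) (Subgroup.mem_top _), ev_mul (Subgroup.mem_top _) (Subgroup.mem_top _),
      ev_cancel_inv] at h1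
  have hcomm_ev : ∀ (β : MulAut (⊤ : Subgroup S)) (v w : S), ev β ⁅v, w⁆ = ⁅ev β v, ev β w⁆ := fun β v w =>
    ev_comm (Subgroup.mem_top v) (Subgroup.mem_top w)
  have hpL0 : ∀ β : MulAut (⊤ : Subgroup S), β ∈ pres L0 := fun β => mem_pres fun x hx => by
    have hle : L0 ≤ L0.comap ((⊤ : Subgroup S).subtype.comp (β.toMonoidHom.comp Subgroup.topEquiv.symm.toMonoidHom)) := by
      rw [← hGc]
      rw [commutator_def, Subgroup.commutator_le]
      intro v _ w _
      rw [Subgroup.mem_comap, map_commutatorElement]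
      exact Subgroup.commutator_mem_commutator (Subgroup.mem_top _) (Subgroup.mem_top _)
    rw [ev_of_mem (Subgroup.mem_top x)]
    exact hle hx
  have hpL : ∀ β : MulAut (⊤ : Subgroup S), β ∈ pres L := fun β => mem_pres fun x hx => by
    rw [← hTL] at hx ⊢
    refine (memT _).2 fun v => ?_
    have h := (hpZ β _).2 ((memT x).1 hx (ev β⁻¹ v))
    rwa [hcomm_ev, ev_cancel_inv] at h
  have hpC : ∀ β : MulAut (⊤ : Subgroup S), β ∈ pres C := fun β => mem_pres fun x hx => (memC _).2 fun v hv => by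
    have h := congrArg (ev β) ((memC x).1 hx _ ((inv_mem (hpL0 β) v).2 hv))
    rwa [ev_mul (Subgroup.mem_top _) (Subgroup.mem_top _), ev_mul (Subgroup.mem_top _) (Subgroup.mem_top _),
      ev_cancel_inv] at h
  -- the involution inverts `S` modulo `L`
  have hBinv : ∀ x, x * ev B x ∈ L := fun x => by
    have h1 : x * ev B x ∈ N := by
      have h := Wt.congr hS c.stepT hwT (t := -1) (by push_cast; ring) x (Subgroup.mem_top x)
      rwa [zpow_neg_one, inv_inv] at h
    have h2 : x * ev B x ∈ C := by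
      have hw : Wt (ev B) C ⊤ (-1) := Wt.of_elt hS stepC le_rfl (hpC B) (Subgroup.mem_top y) hyC
        (hLC (hZL hBy))
      have h := hw x (Subgroup.mem_top x)
      rwa [zpow_neg_one, inv_inv] at h
    exact hCN _ h2 h1
  letI : CommGroup (S ⧸ L0) := { (inferInstance : Group (S ⧸ L0)) with
    mul_comm := fun a b => by
      induction a using QuotientGroup.induction_on with
      | _ a =>
        induction b using QuotientGroup.induction_on with
        | _ b =>
          exact MaxEss.mk_comm.2 (hGc.le (Subgroup.commutator_mem_commutator (Subgroup.mem_top a) (Subgroup.mem_top b))) }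
  set q := QuotientGroup.mk' L0 with hq
  let χ : S →* S ⧸ L0 :=
    { toFun := fun x => q x * q (ev B x)
      map_one' := by rw [ev_one, map_one, mul_one]
      map_mul' := fun a b => by
        rw [ev_mul (Subgroup.mem_top a) (Subgroup.mem_top b), map_mul, map_mul, mul_mul_mul_comm] }
  have hχ : ∀ x, x ∈ χ.ker ↔ x * ev B x ∈ L0 := fun x => by
    show q x * q (ev B x) = 1 ↔ _
    rw [← map_mul]
    exact QuotientGroup.eq_one_iff _
  refine ⟨χ.ker, C, ?_, ?_, ?_, c.nL, c.L_comm hS hF, hcL, hcC, ?_, ?_, hGc ▸ hL0L, hLC, fun x => by rw [hGc]; exact memC x,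
    fun v l hl => hZc ▸ hGL v l hl⟩
  · intro h
    have h1 : dd * ev B dd ∈ L0 := (hχ dd).1 (h ▸ Subgroup.mem_top dd)
    have h3 : dd * dd ∈ L0 := by
      have := mul_mem h1 (inv_mem (Subgroup.mem_sup_left (T := Subgroup.zpowers c0) (hBH1 dd hdd)))
      rwa [mul_inv_rev, inv_inv, mul_assoc, mul_inv_cancel_left] at this
    refine hddL0 (mem_of_zpow_mem (p := 3) (k := 2) ?_ two_ne_zero_three (by rwa [zpow_two]))
    rw [d.exp dd (d.stepH.le hdd)]; exact one_mem _
  · intro x hx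
    rw [hGc] at hx
    exact (hχ x).2 (mul_mem hx ((hpL0 B x).2 hx))
  swap
  · rw [hZc, hZ, d.card_line]
  swap
  · rw [hZc, hGc]; exact stepL0
  -- every automorphism respects `K`
  intro β hβ
  obtain ⟨wu, hu⟩ := Wt.exists_wt hS stepC le_rfl (hpC β) (pres_self β)
  obtain ⟨wv, hv⟩ := Wt.exists_wt hS stepLC le_top (hpL β) (hpC β)
  obtain ⟨ww, hw⟩ := Wt.exists_wt hS stepL0L le_top (hpL0 β) (hpL β)
  obtain ⟨wr, hr⟩ := Wt.exists_wt hS stepL0 le_top (hpZ β) (hpL0 β)
  obtain ⟨ws, hs⟩ := Wt.exists_wt hS c.stepZ le_top (pres_bot β) (hpZ β)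
  have hu0 := Wt.ne_zero hS stepC le_rfl (hpC β) hu
  have hv0 := Wt.ne_zero hS stepLC le_top (hpL β) hv
  have hbot : ∀ a b : S, (b ∈ Z ∨ a ∈ Z) → ⁅a, b⁆ ∈ (⊥ : Subgroup S) := fun a b h => by
    rw [Subgroup.mem_bot, commutatorElement_eq_one_iff_mul_comm]
    rcases h with h | h
    · exact (c.zpowers_comm h a).eq.symm
    · exact (c.zpowers_comm h b).eq
  have hLg' : ∀ r ∈ C, ⁅r, g'⁆ ∈ Z := fun r hr' => by
    obtain ⟨j, hj⟩ := stepLC.gen hS hg'C (fun h => hg'N (c.stepLN.le h)) hr'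
    rw [← mul_inv_cancel_left (g' ^ j) r, show ⁅g' ^ j * ((g' ^ j)⁻¹ * r), g'⁆ =
      g' ^ j * ⁅(g' ^ j)⁻¹ * r, g'⁆ * (g' ^ j)⁻¹ by simp only [commutatorElement_def]; group]
    refine c.nZ.conj_mem _ ?_ _
    rw [← commutatorElement_inv]; exact inv_mem (hGL g' _ hj)
  have hyg : ⁅y, g'⁆ = c0⁻¹ := by
    rw [← hg', show ⁅y, g * y ^ k⁆ = ⁅y, g⁆ * (g * ⁅y, y ^ k⁆ * g⁻¹) by simp only [commutatorElement_def]; group,
      commutatorElement_eq_one_iff_mul_comm.2 ((Commute.refl y).zpow_right k).eq, mul_one, mul_inv_cancel, mul_one,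
      ← commutatorElement_inv, hc0]
  have hc0L0 : c0 ∈ L0 := Subgroup.mem_sup_right (Subgroup.mem_zpowers c0)
  have e1 : (wr : ZMod 3) = wu * wv :=
    wt_transfer (a := β) (x := y) (y := g') (D := Z) (Subgroup.mem_top y) (Subgroup.mem_top g')
      (hr _ (by rw [hyg]; exact inv_mem hc0L0)) (by rw [hyg]; exact fun h => hc0Z (inv_mem_iff.1 h))
      (stepL0.pow_mem hS (by rw [hyg]; exact inv_mem hc0L0)) (by rw [hyg]; exact hGL y _ (inv_mem hc0L))
      (by rw [hyg]; exact hGL g' _ (inv_mem hc0L)) (hLg' _ (hu y (Subgroup.mem_top y))) (hGL _ _ (hv g' hg'C))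
      (hGL y _ (hv g' hg'C))
  have hyc0 : ⁅y, c0⁆ ∈ Z := hGL y c0 hc0L
  have e2 : (ws : ZMod 3) = wu * wr :=
    wt_transfer (a := β) (x := y) (y := c0) (D := (⊥ : Subgroup S)) (Subgroup.mem_top y) (Subgroup.mem_top c0)
      (hs _ hyc0) (by rwa [Subgroup.mem_bot]) (c.stepZ.pow_mem hS hyc0) (hbot _ _ (Or.inl hyc0))
      (hbot _ _ (Or.inl hyc0))
      (by
        rw [Subgroup.mem_bot, commutatorElement_eq_one_iff_mul_comm]
        exact ((memC _).1 (hu y (Subgroup.mem_top y)) c0 hc0L0).symm)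
      (hbot _ _ (Or.inl (hr c0 hc0L0))) (hbot _ _ (Or.inl (hr c0 hc0L0)))
  have hgd : ⁅g', dd⁆ ∈ Z := c.commGH g' dd hdd
  have e3 : (ws : ZMod 3) = wv * ww :=
    wt_transfer (a := β) (x := g') (y := dd) (D := (⊥ : Subgroup S)) (Subgroup.mem_top g') (Subgroup.mem_top dd)
      (hs _ hgd) (by rw [Subgroup.mem_bot]; exact hGH g' hg'N dd hdd hddz) (c.stepZ.pow_mem hS hgd)
      (hbot _ _ (Or.inl hgd)) (hbot _ _ (Or.inl hgd))
      (by
        rw [Subgroup.mem_bot, commutatorElement_eq_one_iff_mul_comm]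
        exact c.L_comm hS hF _ (hv g' hg'C) dd hddL)
      (by
        rw [Subgroup.mem_bot, commutatorElement_eq_one_iff_mul_comm]
        exact c.L_comm hS hF _ (hv g' hg'C) _ (hL0L (hw dd hddL)))
      (by
        rw [Subgroup.mem_bot, commutatorElement_eq_one_iff_mul_comm]
        exact ((memC g').1 hg'C _ (hw dd hddL)).symm)
  have hw1 : (ww : ZMod 3) = 1 := by
    exact weights_three _ _ _ _ _ hu0 hv0 e1 e2 e3
  have hfix : Wt (ev β) L0 L 1 := Wt.congr hS stepL0L hw (by rw [hw1]; norm_num)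
  -- `β` commutes with `B` modulo the derived group
  have hl : ∀ A ∈ [Z, L0, L, C, (⊤ : Subgroup S)], ∀ a : MulAut (⊤ : Subgroup S), a ∈ pres A := by
    simp only [List.mem_cons, List.not_mem_nil, or_false, forall_eq_or_imp, forall_eq]
    exact ⟨hpZ, hpL0, hpL, hpC, fun a => pres_self a⟩
  have hγ := comm_stab (p := 3) hS (L := (⊤ : Subgroup S)) (l := [Z, L0, L, C, ⊤]) (fun _ _ => le_top)
    (by simp only [List.zip_cons_cons, List.zip_nil_right, List.mem_cons, List.not_mem_nil, or_false,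
          forall_eq_or_imp, forall_eq]
        exact ⟨c.stepZ, stepL0, stepL0L, stepLC, stepC⟩)
    (a := β) (b := B) (fun A hA => hl A hA β) (fun A hA => hl A hA B)
  obtain ⟨m, -, hm⟩ := mem_ind_iff.1 (stab_le_ind hS hF (top_fn hS hF) (l := [Z, L0, L, C, ⊤]) (fun _ _ => le_top) rfl
    (fun A hA a _ => hl A hA a)
    (show ⁅β, B⁆ ∈ autL F (⊤ : Subgroup S) from
      mul_mem (mul_mem (mul_mem hβ hB) (Subgroup.inv_mem _ hβ)) (Subgroup.inv_mem _ hB)) hγ)
  have hqγ : ∀ x, q (ev β (ev B x)) = q (ev B (ev β x)) := fun x => by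
    have h1 : ev β (ev B x) = ev ⁅β, B⁆ (ev B (ev β x)) := by
      rw [← ev_comp, ← ev_comp, ← ev_comp, commutatorElement_def, inv_mul_cancel_right,
        inv_mul_cancel_right]
    rw [h1, hm _ (Subgroup.mem_top _), map_mul, map_mul, map_inv, mul_right_comm, mul_inv_cancel, one_mul]
  intro x _
  refine (hχ _).2 ((QuotientGroup.eq_one_iff _).1 ?_)
  show q (x⁻¹ * ev β x * ev B (x⁻¹ * ev β x)) = 1
  have h3 : q (ev β (x * ev B x)) = q (x * ev B x) := by
    have := hfix _ (hBinv x)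
    rw [zpow_one] at this
    exact (QuotientGroup.eq.2 this).symm
  rw [ev_mul (Subgroup.mem_top _) (Subgroup.mem_top _), map_mul, hqγ, map_mul] at h3
  rw [ev_mul (Subgroup.mem_top _) (Subgroup.mem_top _), ev_inv (Subgroup.mem_top _), map_mul, map_mul, map_mul,
    map_inv, map_inv, mul_mul_mul_comm, h3, mul_mul_mul_comm, inv_mul_cancel, inv_mul_cancel, one_mul]

end Cfsg.Agent.OrderFive
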