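import Cfsg.Agent.Lib.OrderFive.Cube

/-!
# An abelian essential subgroup of order `p³`: weights, and the reduction to `p = 3`
-/

set_option autoImplicit false
set_option linter.unusedSectionVars false
set_option linter.style.haveILetI false

namespace Cfsg.Agent.OrderFive

open Cfsg Cfsg.FusionSystem Cfsg.Agent Cfsg.Agent.FusionSys Cfsg.Agent.MaxEss
open scoped commutatorElement

variable {Ω : Type*} [Group Ω] {S : Subgroup Ω} [Finite S] {F : FusionSystem S} {p : ℕ} [hp : Fact p.Prime]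

theorem NoAb.lt {G : Type*} [Group G] [Finite G] (hG : IsPGroup p G) (h : NoAb p G) {A : Subgroup G}
    (hA : ∀ a ∈ A, ∀ b ∈ A, a * b = b * a) : ¬ p ^ 4 ≤ Nat.card A := fun hle => by
  obtain ⟨a, ha⟩ := card_exists hG A
  obtain ⟨B, hB⟩ := Sylow.exists_subgroup_card_pow_prime p (n := 4) (G := A) (by
    rw [ha]; exact pow_dvd_pow p ((Nat.pow_le_pow_iff_right hp.out.one_lt).1 (ha ▸ hle)))
  refine h (B.map A.subtype) ?_ ((Subgroup.card_map_of_injective A.subtype_injective).trans hB)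
  rintro _ ⟨u, -, rfl⟩ _ ⟨v, -, rfl⟩
  exact hA u u.2 v v.2

/-- An abelian subgroup and an element commuting with it generate an abelian subgroup. -/
theorem comm_sup_zpowers {G : Type*} [Group G] {A : Subgroup G} (hA : ∀ a ∈ A, ∀ b ∈ A, a * b = b * a) {x : G}
    (hx : ∀ a ∈ A, x * a = a * x) : ∀ a ∈ A ⊔ Subgroup.zpowers x, ∀ b ∈ A ⊔ Subgroup.zpowers x, a * b = b * a := by
  have h1 : ∀ b ∈ A ⊔ Subgroup.zpowers x, ∀ a, (a ∈ A ∨ a = x) → a * b = b * a := by
    intro b hb a ha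
    have hle : A ⊔ Subgroup.zpowers x ≤ Subgroup.centralizer {a} := by
      refine sup_le (fun c hc => Subgroup.mem_centralizer_singleton_iff.2 ?_)
        (Subgroup.zpowers_le.2 (Subgroup.mem_centralizer_singleton_iff.2 ?_))
      · rcases ha with ha | rfl
        · exact hA c hc a ha
        · exact (hx c hc).symm
      · rcases ha with ha | rfl
        · exact hx a ha
        · rfl
    exact (Subgroup.mem_centralizer_singleton_iff.1 (hle hb)).symm
  intro a ha b hb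
  have hle : A ⊔ Subgroup.zpowers x ≤ Subgroup.centralizer {b} :=
    sup_le (fun c hc => Subgroup.mem_centralizer_singleton_iff.2 (h1 b hb c (Or.inl hc)))
      (Subgroup.zpowers_le.2 (Subgroup.mem_centralizer_singleton_iff.2 (h1 b hb x (Or.inr rfl))))
  exact Subgroup.mem_centralizer_singleton_iff.1 (hle ha)

variable (hS : IsPGroup p S) (hF : F.IsSaturated p)
include hS hF

namespace Cube

variable {E H L : Subgroup S} {u e z : S} (c : Cube F p E H L u e z)
include c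

omit hF in
theorem comm_mem_line {x y : S} (hx : x ∈ Subgroup.normalizer (E : Set S))
    (hy : y ∈ Subgroup.normalizer (E : Set S)) : ⁅x, y⁆ ∈ Subgroup.zpowers z := c.d.commN x hx y hy

omit hS hF in
theorem zpowers_comm {x : S} (hx : x ∈ Subgroup.zpowers z) (g : S) : Commute x g := by
  obtain ⟨i, rfl⟩ := Subgroup.mem_zpowers_iff.1 hx
  exact (c.zc g).zpow_left i

omit hS hF in
theorem line_pres {T : Subgroup S} (hz : z ∈ T) {a : MulAut T} (ha : ev a z ∈ Subgroup.zpowers z) :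
    a ∈ pres (Subgroup.zpowers z) := mem_pres fun w hw => by
  obtain ⟨i, rfl⟩ := Subgroup.mem_zpowers_iff.1 hw
  rw [ev_zpow hz]; exact zpow_mem ha i

/-- An element of `N` commuting with an element of `E` outside `H` lies in `E`. -/
theorem mem_of_comm {y v : S} (hy : y ∈ E) (hyH : y ∉ H) (hv : v ∈ Subgroup.normalizer (E : Set S))
    (h : v * y = y * v) : v ∈ E := by
  refine centralizer_le hS hF c.d.ess (Subgroup.mem_centralizer_iff.2 fun x hx => ?_)
  obtain ⟨k, hk⟩ := c.d.stepH.gen hS hy hyH hx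
  rw [← mul_inv_cancel_left (y ^ k) x]
  exact (((show Commute v y from h).zpow_right k).mul_right (((c.d.memH _).1 hk).2 v hv)).eq.symm

theorem inter_H {l : S} (hl : l ∈ L) (hlE : l ∈ E) : l ∈ H := by
  by_contra h
  exact line_not_mem hS c.d.stepH c.stepHL c.hLE hl h hlE

/-- The automorphism of the whole group extending a torus element. -/
theorem exists_weights {α : MulAut E} (hα : α ∈ autL F E) (hn : ev α z ∉ Subgroup.zpowers z) {a b : ℤ}
    (hab : (a : ZMod p) * b = 1) :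
    ∃ B ∈ autL F (⊤ : Subgroup S), B ∈ pres (Subgroup.normalizer (E : Set S)) ∧ B ∈ pres L ∧ B ∈ pres H ∧
      B ∈ pres (Subgroup.zpowers z) ∧ (∀ i : ℤ, ev B (z ^ i) = (z ^ i) ^ a) ∧
      (∀ x ∈ H, x⁻¹ * ev B x ∈ Subgroup.zpowers z) ∧ ((ev α z) ^ b)⁻¹ * ev B (ev α z) ∈ Subgroup.zpowers z ∧
      Wt (ev B) H L (a ^ 2) ∧ Wt (ev B) (Subgroup.normalizer (E : Set S)) ⊤ (a ^ 3) := by
  have d := c.d
  set N := Subgroup.normalizer (E : Set S) with hN
  haveI := c.nH
  obtain ⟨τ, hτ, hτz, hτy, hτH, hτH'⟩ := d.exists_torus hS hF hα hn hab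
  have hy : ev α z ∈ E := ev_mem d.hzE
  have hyH : ev α z ∉ H := (d.moves hS hF hα (d.conj_not_mem hS hF hn)).1
  obtain ⟨B, hB, hBN, hBL, n, hn', hBe⟩ := c.lift hS hF hτ (by rw [hτz]; exact Subgroup.zpow_mem_zpowers z a)
  generalize ev α z = y at *
  have hBH1 : ∀ x ∈ H, ev B x = ev τ x := fun x hx => by
    rw [hBe x (d.stepH.le hx), ((d.memH _).1 ((hτH' x).2 hx)).2 n hn', mul_inv_cancel_right]
  have hBz : ∀ i : ℤ, ev B (z ^ i) = (z ^ i) ^ a := fun i => by
    rw [ev_zpow (Subgroup.mem_top z), hBH1 z d.hzH, hτz, ← zpow_mul, ← zpow_mul, mul_comm]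
  have hBH : ∀ x ∈ H, x⁻¹ * ev B x ∈ Subgroup.zpowers z := fun x hx => by rw [hBH1 x hx]; exact hτH x hx
  have hBy : (y ^ b)⁻¹ * ev B y ∈ Subgroup.zpowers z := by
    rw [hBe y hy, hτy, show (y ^ b)⁻¹ * (n * y ^ b * n⁻¹) = ⁅(y ^ b)⁻¹, n⁆ by
      simp only [commutatorElement_def, inv_inv, mul_assoc]]
    exact c.comm_mem_line hS (d.stepN.le (inv_mem (zpow_mem hy b))) hn'
  have hBZ : B ∈ pres (Subgroup.zpowers z) := c.line_pres (Subgroup.mem_top z) (by
    have := hBz 1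
    rw [zpow_one] at this
    rw [this]
    exact Subgroup.zpow_mem_zpowers z a)
  have hBH' : B ∈ pres H := mem_pres fun x hx => by
    have := mul_mem hx (c.stepZH.le (hBH x hx))
    rwa [mul_inv_cancel_left] at this
  obtain ⟨w, hw⟩ := Wt.exists_wt hS c.stepHL le_top hBH' hBL
  obtain ⟨v, hv⟩ := Wt.exists_wt hS c.stepT le_rfl hBN (pres_self B)
  obtain ⟨l, hl, hlH⟩ := c.stepHL.exists_gen (p := p)
  have hlN := c.stepLN.le hl
  have hyN := d.stepN.le hy
  have hw2 : (a : ZMod p) = w * b := by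
    obtain ⟨i, hi⟩ := Subgroup.mem_zpowers_iff.1 (c.comm_mem_line hS hlN hyN)
    have hne : ⁅l, y⁆ ≠ 1 := fun h => hlH (c.inter_H hS hF hl
      (c.mem_of_comm hS hF hy hyH hlN (commutatorElement_eq_one_iff_mul_comm.1 h)))
    have hcz : ∀ x ∈ Subgroup.zpowers z, ∀ g : S, ⁅g, x⁆ ∈ (⊥ : Subgroup S) := fun x hx g => by
      rw [Subgroup.mem_bot, commutatorElement_eq_one_iff_mul_comm]; exact (c.zpowers_comm hx g).eq.symm
    refine wt_transfer (a := B) (x := l) (y := y) (D := (⊥ : Subgroup S)) (Subgroup.mem_top l)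
      (Subgroup.mem_top y) (c := a) (by rw [← hi, hBz, inv_mul_cancel]; exact one_mem _)
      (by rwa [Subgroup.mem_bot]) ?_ (hcz _ ⟨i, hi⟩ l) (hcz _ ⟨i, hi⟩ y) ?_ (hcz _ hBy _) (hcz _ hBy l)
    · rw [Subgroup.mem_bot, ← hi, ← zpow_natCast, ← zpow_mul, mul_comm, zpow_mul, zpow_natCast,
        d.exp z d.hzE, one_zpow]
    · rw [Subgroup.mem_bot, commutatorElement_eq_one_iff_mul_comm]
      exact (((d.memH _).1 (hw l hl)).2 y hyN).symm
  have hw' : Wt (ev B) H L (a ^ 2) := Wt.congr hS c.stepHL hw (by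
    push_cast
    calc (w : ZMod p) = w * ((a : ZMod p) * b) := by rw [hab, mul_one]
      _ = a * (w * b) := by ring
      _ = (a : ZMod p) ^ 2 := by rw [← hw2]; ring)
  refine ⟨B, hB, hBN, hBL, hBH', hBZ, hBz, hBH, hBy, hw', ?_⟩
  obtain ⟨g, -, hg⟩ := c.stepT.exists_gen (p := p)
  have hgy := c.commGN g y hyN
  have hgyH : ⁅g, y⁆ ∉ H := fun h => hg (MaxEss.mem_norm fun x hx => by
    obtain ⟨k, hk⟩ := d.stepH.gen hS hy hyH hx
    have h1 : g * y * g⁻¹ ∈ E := by
      have := mul_mem (d.stepH.le h) hy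
      rwa [commutatorElement_def, inv_mul_cancel_right] at this
    rw [← mul_inv_cancel_left (y ^ k) x,
      show g * (y ^ k * ((y ^ k)⁻¹ * x)) * g⁻¹ = (g * y * g⁻¹) ^ k * (g * ((y ^ k)⁻¹ * x) * g⁻¹) by
        rw [conj_zpow]; simp only [mul_assoc, inv_mul_cancel_left]]
    exact mul_mem (zpow_mem h1 k) (d.stepH.le (c.nH.conj_mem _ hk g)))
  have hv2 : ((a ^ 2 : ℤ) : ZMod p) = v * b := by
    have hq : ∀ g' : S, ⁅g', (y ^ b)⁻¹ * ev B y⁆ ∈ H := fun g' => by
      rw [commutatorElement_eq_one_iff_mul_comm.2 (c.zpowers_comm hBy g').eq.symm]; exact one_mem _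
    exact wt_transfer (a := B) (x := g) (y := y) (D := H) (Subgroup.mem_top g) (Subgroup.mem_top y)
      (hw' _ hgy) hgyH (c.stepHL.pow_mem hS hgy) (c.commGL g _ hgy) (c.commGL y _ hgy)
      (c.stepZH.le (c.comm_mem_line hS (hv g (Subgroup.mem_top g)) hyN)) (hq _) (hq g)
  refine Wt.congr hS c.stepT hv ?_
  push_cast at hv2 ⊢
  calc (v : ZMod p) = v * ((a : ZMod p) * b) := by rw [hab, mul_one]
    _ = a * (v * b) := by ring
    _ = (a : ZMod p) ^ 3 := by rw [← hv2]; ring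

/-- `L` is abelian. -/
theorem L_comm : ∀ a ∈ L, ∀ b ∈ L, a * b = b * a := by
  obtain ⟨l, hl, hlH⟩ := c.stepHL.exists_gen (p := p)
  have hlN := c.stepLN.le hl
  have hA := comm_sup_zpowers (A := H) (x := l)
    (fun a ha b hb => c.d.comm a (c.d.stepH.le ha) b (c.d.stepH.le hb))
    fun a ha => ((c.d.memH a).1 ha).2 l hlN
  have hle : L ≤ H ⊔ Subgroup.zpowers l := by
    intro x hx
    obtain ⟨k, hk⟩ := c.stepHL.gen hS hl hlH hx
    rw [← mul_inv_cancel_left (l ^ k) x]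
    exact mul_mem (Subgroup.mem_sup_right (Subgroup.zpow_mem_zpowers l k)) (Subgroup.mem_sup_left hk)
  exact fun a ha b hb => hA a (hle ha) b (hle hb)

/-- Only `p = 3` occurs, and elements outside `N` centralize no element of `H` outside the line. -/
theorem prime_eq_three (h2 : p ≠ 2) (h7 : p ≠ 7) (hnab : NoAb p S) {α : MulAut E} (hα : α ∈ autL F E)
    (hn : ev α z ∉ Subgroup.zpowers z) :
    p = 3 ∧ (∀ g ∉ Subgroup.normalizer (E : Set S), ∀ x ∈ H, x ∉ Subgroup.zpowers z → ⁅g, x⁆ ≠ 1) ∧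
      ∀ g : S, ∀ l ∈ L, ⁅g, l⁆ ∈ Subgroup.zpowers z := by
  have d := c.d
  set N := Subgroup.normalizer (E : Set S) with hN
  haveI := c.nZ
  obtain ⟨a, b, hab, h5, hsq, -, -⟩ := exists_scalar (p := p) h2 h7
  obtain ⟨B, hB, hBN, hBL, hBH, hBZ, hBz, hBH1, hBy, hwL, hwT⟩ := c.exists_weights hS hF hα hn hab
  have hy : ev α z ∈ E := ev_mem d.hzE
  have hyH : ev α z ∉ H := (d.moves hS hF hα (d.conj_not_mem hS hF hn)).1
  -- commutators with `L`
  have hGL : ∀ g : S, ∀ l ∈ L, ⁅g, l⁆ ∈ Subgroup.zpowers z := by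
    intro g l hl
    by_cases hg : g ∈ N
    · exact c.comm_mem_line hS hg (c.stepLN.le hl)
    by_contra hne
    refine h5 ?_
    have hgl := c.commGL g l hl
    have hq : ∀ g' : S, ⁅g', (l ^ (a ^ 2))⁻¹ * ev B l⁆ ∈ Subgroup.zpowers z := fun g' => c.commGH g' _ (hwL l hl)
    have := wt_transfer (a := B) (x := g) (y := l) (D := Subgroup.zpowers z) (Subgroup.mem_top g)
      (Subgroup.mem_top l) (s := a ^ 3) (t := a ^ 2) (c := 1) (by rw [zpow_one]; exact hBH1 _ hgl) hne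
      (c.stepZH.pow_mem hS hgl) (c.commGH g _ hgl) (c.commGH l _ hgl)
      (c.comm_mem_line hS (hwT g (Subgroup.mem_top g)) (c.stepLN.le hl)) (hq _) (hq g)
    push_cast at this
    linear_combination -this
  have hGH : ∀ g ∉ N, ∀ x ∈ H, x ∉ Subgroup.zpowers z → ⁅g, x⁆ ≠ 1 := by
    intro g hg x hx hxz h1
    -- then `g` centralizes `H`
    have hgH : ∀ h ∈ H, g * h = h * g := fun h hh => by
      obtain ⟨k, hk⟩ := c.stepZH.gen hS hx hxz hh
      rw [← mul_inv_cancel_left (x ^ k) h]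
      exact (((show Commute g x from commutatorElement_eq_one_iff_mul_comm.1 h1).zpow_right k).mul_right
        (c.zpowers_comm hk g).symm).eq
    obtain ⟨l, hl, hlH⟩ := c.stepHL.exists_gen (p := p)
    have hy1 : ⁅ev α z, l⁆ ≠ 1 := fun h => hlH (c.inter_H hS hF hl (c.mem_of_comm hS hF hy hyH (c.stepLN.le hl)
      (commutatorElement_eq_one_iff_mul_comm.1 h).symm))
    obtain ⟨k, hk⟩ := exists_adjust (p := p) c.zc (d.exp z d.hzE) (hGL g l hl) (hGL _ l hl) hy1
    have hg' : g * ev α z ^ k ∉ L := fun h => hg (by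
      have := mul_mem (c.stepLN.le h) (inv_mem (d.stepN.le (zpow_mem hy k)))
      rwa [mul_inv_cancel_right] at this)
    have hcomm : ∀ a' ∈ L, g * ev α z ^ k * a' = a' * (g * ev α z ^ k) := by
      intro a' ha'
      obtain ⟨j, hj⟩ := c.stepHL.gen hS hl hlH ha'
      rw [← mul_inv_cancel_left (l ^ j) a']
      refine (((show Commute (g * ev α z ^ k) l from commutatorElement_eq_one_iff_mul_comm.1 hk).zpow_right j
        ).mul_right ((show Commute g _ from hgH _ hj).mul_left ?_)).eq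
      exact ((d.comm _ (zpow_mem hy k) _ (d.stepH.le hj)))
    refine hnab.lt hS (comm_sup_zpowers (c.L_comm hS hF) hcomm) ?_
    refine le_trans ?_ (le_card_sup hS hg')
    have hH : Nat.card H = p ^ 2 := by
      have h := d.stepH.card
      rw [c.hk, pow_succ'] at h
      exact (Nat.eq_of_mul_eq_mul_left hp.out.pos h).symm
    rw [c.stepHL.card, hH, ← pow_succ', ← pow_succ']
  refine ⟨?_, hGH, hGL⟩
  by_contra h3
  refine hsq h3 ?_
  obtain ⟨g, -, hg⟩ := c.stepT.exists_gen (p := p)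
  obtain ⟨x, hx, hxz⟩ := c.stepZH.exists_gen (p := p)
  have hgx := c.commGH g x hx
  obtain ⟨i, hi⟩ := Subgroup.mem_zpowers_iff.1 hgx
  have hcz : ∀ w ∈ Subgroup.zpowers z, ∀ g' : S, ⁅g', w⁆ ∈ (⊥ : Subgroup S) := fun w hw g' => by
    rw [Subgroup.mem_bot, commutatorElement_eq_one_iff_mul_comm]; exact (c.zpowers_comm hw g').eq.symm
  have hq : (x ^ (1 : ℤ))⁻¹ * ev B x ∈ Subgroup.zpowers z := by rw [zpow_one]; exact hBH1 x hx
  have := wt_transfer (a := B) (x := g) (y := x) (D := (⊥ : Subgroup S)) (Subgroup.mem_top g) (Subgroup.mem_top x)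
    (s := a ^ 3) (t := 1) (c := a) (by rw [← hi, hBz, inv_mul_cancel]; exact one_mem _)
    (by rw [Subgroup.mem_bot]; exact hGH g hg x hx hxz)
    (by rw [Subgroup.mem_bot, ← hi, ← zpow_natCast, ← zpow_mul, mul_comm, zpow_mul, zpow_natCast, d.exp z d.hzE,
      one_zpow]) (hcz _ hgx g) (hcz _ hgx x)
    (by
      rw [Subgroup.mem_bot, commutatorElement_eq_one_iff_mul_comm]
      exact ((d.memH x).1 hx).2 _ (hwT g (Subgroup.mem_top g)))
    (hcz _ hq _) (hcz _ hq g)
  push_cast at this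
  have ha0 : (a : ZMod p) ≠ 0 := fun h => by rw [h, zero_mul] at hab; exact zero_ne_one hab
  exact mul_left_cancel₀ ha0 (by rw [mul_one]; linear_combination -this)

end Cube

end Cfsg.Agent.OrderFive
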