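import Cfsg.Agent.Lib.OrderFive.Stab
import Cfsg.Agent.S5186
import Cfsg.Agent.Lib.Fusion.Normal

/-!
# Reductions for a saturated system on a group of order `p⁵` without abelian maximal subgroup
-/

set_option autoImplicit false
set_option linter.unusedSectionVars false
set_option linter.style.haveILetI false

namespace Cfsg.Agent.OrderFive

open Cfsg Cfsg.FusionSystem Cfsg.Agent Cfsg.Agent.FusionSys Cfsg.Agent.MaxEss
open scoped commutatorElement

section group

variable {G : Type*} [Group G] [Finite G] {p : ℕ} [hp : Fact p.Prime]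

/-- No abelian subgroup of order `p⁴`. -/
def NoAb (p : ℕ) (G : Type*) [Group G] : Prop :=
  ∀ A : Subgroup G, (∀ a ∈ A, ∀ b ∈ A, a * b = b * a) → Nat.card A ≠ p ^ 4

theorem pow_le_of_lt (hG : IsPGroup p G) {A B : Subgroup G} (h : A < B) : p * Nat.card A ≤ Nat.card B := by
  obtain ⟨a, ha⟩ := card_exists hG A
  obtain ⟨b, hb⟩ := card_exists hG B
  have hlt : p ^ a < p ^ b := by
    rw [← ha, ← hb]
    exact Nat.lt_of_le_of_ne (Subgroup.card_le_of_le h.le) fun e =>
      h.ne (Subgroup.eq_of_le_of_card_ge h.le e.ge)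
  rw [ha, hb, ← pow_succ']
  exact Nat.pow_le_pow_right hp.out.pos ((Nat.pow_lt_pow_iff_right hp.out.one_lt).1 hlt)

theorem normalizer_grows (hG : IsPGroup p G) {A : Subgroup G} (h : A ≠ ⊤) :
    A < Subgroup.normalizer (A : Set G) := by
  haveI := hG.isNilpotent
  exact Group.normalizerCondition_of_isNilpotent A (lt_top_iff_ne_top.2 h)

theorem le_card_sup (hG : IsPGroup p G) {A : Subgroup G} {y : G} (hy : y ∉ A) :
    p * Nat.card A ≤ Nat.card (A ⊔ Subgroup.zpowers y : Subgroup G) :=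
  pow_le_of_lt hG (lt_of_le_of_ne le_sup_left fun e =>
    hy (e.ge (Subgroup.mem_sup_right (Subgroup.mem_zpowers y))))

theorem step_of_card (hG : IsPGroup p G) {A B : Subgroup G} (hle : A ≤ B) (hc : Nat.card B = p * Nat.card A) :
    Step p A B := by
  refine ⟨hle, ?_, hc⟩
  have hlt : A.subgroupOf B < ⊤ := lt_top_iff_ne_top.2 fun h => by
    have hBA := Subgroup.card_le_of_le (Subgroup.subgroupOf_eq_top.1 h)
    rw [hc] at hBA
    have h2 := hp.out.one_lt
    have h3 : 0 < Nat.card A := Nat.card_pos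
    nlinarith
  haveI := (hG.to_subgroup B).isNilpotent
  obtain ⟨⟨y, hyB⟩, hy, hyA⟩ := SetLike.exists_of_lt (Group.normalizerCondition_of_isNilpotent _ hlt)
  have hyN : y ∈ Subgroup.normalizer (A : Set G) := MaxEss.mem_norm fun a ha =>
    (Subgroup.mem_normalizer_iff.1 hy ⟨a, hle ha⟩).1 ha
  have h1 : Nat.card B ≤ Nat.card (A ⊔ Subgroup.zpowers y : Subgroup G) := hc ▸ le_card_sup hG hyA
  rw [← Subgroup.eq_of_le_of_card_ge (sup_le hle (Subgroup.zpowers_le.2 hyB)) h1]
  exact sup_le Subgroup.le_normalizer (Subgroup.zpowers_le.2 hyN)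

theorem step_of_pow (hG : IsPGroup p G) {A B : Subgroup G} (hle : A ≤ B) {k : ℕ} (ha : Nat.card A = p ^ k)
    (hb : Nat.card B = p ^ (k + 1)) : Step p A B :=
  step_of_card hG hle (by rw [ha, hb, pow_succ'])

/-- A normal subgroup of index `p` over `A` inside `B`. -/
theorem exists_normal_step (hG : IsPGroup p G) {A B : Subgroup G} (hA : A.Normal) (hB : B.Normal) (h : A < B) :
    ∃ L : Subgroup G, L.Normal ∧ L ≤ B ∧ Step p A L ∧ ∀ g : G, ∀ l ∈ L, ⁅g, l⁆ ∈ A := by
  haveI := (hG.to_quotient A).isNilpotent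
  set q := QuotientGroup.mk' A
  haveI : (B.map q).Normal := hB.map q (QuotientGroup.mk'_surjective A)
  have hne : B.map q ≠ ⊥ := fun e => h.not_ge fun x hx => (QuotientGroup.eq_one_iff x).1
    (Subgroup.mem_bot.1 (e ▸ Subgroup.mem_map_of_mem q hx))
  have hne' := SolvStruct.inf_center_ne_bot hne
  haveI : Nontrivial (B.map q ⊓ Subgroup.center (G ⧸ A) : Subgroup (G ⧸ A)) :=
    (Subgroup.nontrivial_iff_ne_bot _).2 hne'
  obtain ⟨k, hk0, hk⟩ := ((hG.to_quotient A).to_subgroup
    (B.map q ⊓ Subgroup.center (G ⧸ A))).nontrivial_iff_card.1 inferInstance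
  obtain ⟨⟨x, hx⟩, hxo⟩ := exists_prime_orderOf_dvd_card'
    (G := (B.map q ⊓ Subgroup.center (G ⧸ A) : Subgroup (G ⧸ A))) p (hk ▸ dvd_pow_self p (by omega))
  rw [← Subgroup.orderOf_coe] at hxo
  obtain ⟨hxB, hxZ⟩ := Subgroup.mem_inf.1 hx
  refine ⟨(Subgroup.zpowers x).comap q, ?_, ?_, ?_⟩
  · refine ⟨fun l hl g => ?_⟩
    obtain ⟨i, hi⟩ := Subgroup.mem_zpowers_iff.1 (Subgroup.mem_comap.1 hl)
    refine Subgroup.mem_comap.2 ⟨i, ?_⟩
    show x ^ i = q (g * l * g⁻¹)
    rw [map_mul, map_mul, ← hi, map_inv, Subgroup.mem_center_iff.1 (Subgroup.zpow_mem _ hxZ i) (q g),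
      mul_inv_cancel_right]
  · intro l hl
    obtain ⟨b, hb, hbe⟩ := (Subgroup.zpowers_le.2 hxB) (Subgroup.mem_comap.1 hl)
    have := B.mul_mem hb (h.le (QuotientGroup.eq.1 hbe))
    rwa [mul_inv_cancel_left] at this
  have hle : A ≤ (Subgroup.zpowers x).comap q := fun a ha => Subgroup.mem_comap.2 (by
    rw [show q a = 1 from (QuotientGroup.eq_one_iff a).2 ha]; exact one_mem _)
  refine ⟨step_of_card hG hle ?_, fun g l hl => ?_⟩
  · have h1 := Subgroup.card_mul_index ((Subgroup.zpowers x).comap q)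
    rw [Subgroup.index_comap_of_surjective _ (QuotientGroup.mk'_surjective A)] at h1
    have h2 := Subgroup.card_mul_index (Subgroup.zpowers x)
    rw [Nat.card_zpowers, show orderOf x = p from hxo, ← Subgroup.index_eq_card] at h2
    have h3 := A.card_mul_index
    rw [← h2, ← h1] at h3
    rw [← mul_assoc, mul_comm (Nat.card A)] at h3
    exact (Nat.eq_of_mul_eq_mul_right (Nat.pos_of_ne_zero Subgroup.index_ne_zero_of_finite) h3).symm
  · refine (QuotientGroup.eq_one_iff _).1 ?_
    show q ⁅g, l⁆ = 1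
    rw [map_commutatorElement, commutatorElement_eq_one_iff_mul_comm]
    exact Subgroup.mem_center_iff.1 ((Subgroup.zpowers_le.2 hxZ) (Subgroup.mem_comap.1 hl)) _

omit [Finite G] in
theorem normal_of_le_center {A : Subgroup G} (h : A ≤ Subgroup.center G) : A.Normal :=
  ⟨fun a ha g => by rwa [Subgroup.mem_center_iff.1 (h ha) g, mul_inv_cancel_right]⟩

theorem card_center_le (hG : IsPGroup p G) (hcard : Nat.card G = p ^ 5) (hnab : NoAb p G) :
    Nat.card (Subgroup.center G) ≤ p ^ 2 := by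
  obtain ⟨k, hk⟩ := card_exists hG (Subgroup.center G)
  rw [hk]
  refine Nat.pow_le_pow_right hp.out.pos ?_
  have hk5 : k ≤ 5 := (Nat.pow_le_pow_iff_right hp.out.one_lt).1 (hk ▸ hcard ▸ Subgroup.card_le_card_group _)
  by_contra h3
  -- an abelian subgroup of order `p⁴`
  obtain ⟨A, hAab, hA⟩ : ∃ A : Subgroup G, (∀ a ∈ A, ∀ b ∈ A, a * b = b * a) ∧ p ^ 4 ≤ Nat.card A := by
    by_cases h4 : 4 ≤ k
    · exact ⟨Subgroup.center G, fun a _ b hb => Subgroup.mem_center_iff.1 hb a,
        hk ▸ Nat.pow_le_pow_right hp.out.pos h4⟩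
    obtain ⟨y, hy⟩ : ∃ y, y ∉ Subgroup.center G := by
      by_contra! hall
      rw [(Subgroup.eq_top_iff' _).2 hall, Subgroup.card_top, hcard] at hk
      have := Nat.pow_right_injective hp.out.two_le hk
      omega
    refine ⟨Subgroup.center G ⊔ Subgroup.zpowers y, ?_,
      le_trans (by rw [hk, ← pow_succ']; exact Nat.pow_le_pow_right hp.out.pos (by omega)) (le_card_sup hG hy)⟩
    haveI := normal_of_le_center (le_refl (Subgroup.center G))
    intro a ha b hb
    obtain ⟨u, hu, _, ⟨i, rfl⟩, rfl⟩ := Subgroup.mem_sup_of_normal_left.1 ha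
    obtain ⟨v, hv, _, ⟨j, rfl⟩, rfl⟩ := Subgroup.mem_sup_of_normal_left.1 hb
    exact ((show Commute u (v * y ^ j) from (Subgroup.mem_center_iff.1 hu _).symm).mul_left
      ((show Commute (y ^ i) v from Subgroup.mem_center_iff.1 hv _).mul_right
        ((Commute.refl y).zpow_zpow i j))).eq
  obtain ⟨a, ha⟩ := card_exists hG A
  obtain ⟨B, hB⟩ := Sylow.exists_subgroup_card_pow_prime p (n := 4) (G := A) (by
    rw [ha]; exact pow_dvd_pow p ((Nat.pow_le_pow_iff_right hp.out.one_lt).1 (ha ▸ hA)))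
  refine hnab (B.map A.subtype) ?_ ((Subgroup.card_map_of_injective A.subtype_injective).trans hB)
  rintro _ ⟨u, -, rfl⟩ _ ⟨v, -, rfl⟩
  exact hAab u u.2 v v.2

omit [Finite G] hp in
theorem aut_comm [IsCyclic G] (a b : MulAut G) : a * b = b * a := by
  obtain ⟨g, hg⟩ := IsCyclic.exists_generator (α := G)
  refine MulEquiv.ext fun x => ?_
  obtain ⟨k, rfl⟩ := Subgroup.mem_zpowers_iff.1 (hg x)
  obtain ⟨i, hi⟩ := Subgroup.mem_zpowers_iff.1 (hg (a g))
  obtain ⟨j, hj⟩ := Subgroup.mem_zpowers_iff.1 (hg (b g))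
  rw [MulAut.mul_apply, MulAut.mul_apply, map_zpow, map_zpow, map_zpow, map_zpow, ← hi, ← hj, map_zpow, map_zpow,
    ← hi, ← hj, ← zpow_mul, ← zpow_mul, ← zpow_mul, ← zpow_mul, mul_left_comm]

end group

variable {Ω : Type*} [Group Ω] {S : Subgroup Ω} [Finite S] {F : FusionSystem S} {p : ℕ} [hp : Fact p.Prime]
  (hS : IsPGroup p S) (hF : F.IsSaturated p)
include hS hF

theorem center_le_essential {Q : Subgroup S} (hQ : F.IsEssential p (om Q)) : Subgroup.center S ≤ Q :=
  fun _ hx => centralizer_le hS hF hQ (Subgroup.mem_centralizer_iff.2 fun y _ => Subgroup.mem_center_iff.1 hx y)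

theorem essential_ne_top {Q : Subgroup S} (hQ : F.IsEssential p (om Q)) : Q ≠ ⊤ := fun h =>
  (essential_lt hS hF hQ).ne (by rw [h, om_top])

omit hS hF in
/-- A characteristic subgroup is preserved. -/
theorem char_pres {L A : Subgroup S} (hA : A ≤ L) (h : (A.subgroupOf L).Characteristic) (a : MulAut L) :
    a ∈ pres A := mem_pres fun x hx => by
  have := Subgroup.characteristic_iff_le_comap.1 h a (show (⟨x, hA hx⟩ : L) ∈ A.subgroupOf L from hx)
  rw [ev_of_mem (hA hx)]
  exact this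

/-- The centre is invariant in a nonabelian essential subgroup. -/
theorem nonabelian_pres (hcard : Nat.card S = p ^ 5) {Q : Subgroup S}
    (hQ : F.IsEssential p (om Q)) (hab : ¬ ∀ a ∈ Q, ∀ b ∈ Q, a * b = b * a) :
    autL F Q ≤ pres (Subgroup.center S) := by
  have hZQ := center_le_essential hS hF hQ
  obtain ⟨k, hk⟩ := card_exists hS Q
  have hk4 : k ≤ 4 := by
    by_contra hlt
    refine essential_ne_top hS hF hQ (Subgroup.eq_top_of_card_eq _ (le_antisymm (Subgroup.card_le_card_group _) ?_))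
    rw [hk, hcard]
    exact Nat.pow_le_pow_right hp.out.pos (by omega)
  set Zq := (Subgroup.center Q).map Q.subtype with hZqd
  have hZqQ : Zq ≤ Q := Subgroup.map_subtype_le _
  have hZqc : ∀ a : MulAut Q, a ∈ pres Zq := char_pres hZqQ (by
    rw [hZqd, Subgroup.subgroupOf, Subgroup.comap_map_eq_self_of_injective Q.subtype_injective]; infer_instance)
  have hle : Subgroup.center S ≤ Zq := fun x hx => ⟨⟨x, hZQ hx⟩, Subgroup.mem_center_iff.2 fun y =>
    Subtype.ext (Subgroup.mem_center_iff.1 hx y), rfl⟩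
  intro a ha
  by_cases heq : Zq ≤ Subgroup.center S
  · rw [← le_antisymm heq hle]; exact hZqc a
  have hnt : Subgroup.center S ≠ ⊥ := by
    haveI : Nontrivial S := Finite.one_lt_card_iff_nontrivial.1 (hcard ▸ Nat.one_lt_pow (by norm_num) hp.out.one_lt)
    haveI := hS.center_nontrivial
    exact (Subgroup.nontrivial_iff_ne_bot _).1 inferInstance
  have h2 : p ^ 2 ≤ Nat.card Zq := by
    have h1 := pow_le_of_lt hS (lt_of_le_of_ne hle fun e => heq e.ge)
    have h3 := pow_le_of_lt hS (bot_lt_iff_ne_bot.2 hnt)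
    rw [Subgroup.card_bot, mul_one] at h3
    rw [sq]
    exact (Nat.mul_le_mul_left p h3).trans h1
  have hcz : Nat.card Zq = Nat.card (Subgroup.center Q) := Subgroup.card_map_of_injective Q.subtype_injective
  -- two generators modulo the centre
  obtain ⟨x, hx, hxz⟩ : ∃ x ∈ Q, x ∉ Zq := by
    by_contra! hall
    refine hab fun u hu v hv => ?_
    obtain ⟨w, hw, rfl⟩ := hall v hv
    exact congrArg Subtype.val (Subgroup.mem_center_iff.1 hw ⟨u, hu⟩)
  obtain ⟨y, hy, hxy⟩ : ∃ y ∈ Q, y * x ≠ x * y := by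
    by_contra! hall
    exact hxz ⟨⟨x, hx⟩, Subgroup.mem_center_iff.2 fun w => Subtype.ext (hall w w.2), rfl⟩
  set M := Zq ⊔ Subgroup.zpowers x with hMd
  have hMQ : M ≤ Q := sup_le hZqQ (Subgroup.zpowers_le.2 hx)
  have hMy : y ∉ M := by
    intro h
    have hle : M ≤ Subgroup.centralizer {x} := sup_le (by
      rintro _ ⟨w, hw, rfl⟩
      exact Subgroup.mem_centralizer_singleton_iff.2
        (congrArg Subtype.val (Subgroup.mem_center_iff.1 hw ⟨x, hx⟩)).symm)
      (Subgroup.zpowers_le.2 (Subgroup.mem_centralizer_singleton_iff.2 rfl))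
    exact hxy (Subgroup.mem_centralizer_singleton_iff.1 (hle h))
  have h3 := le_card_sup hS hxz
  have h4 := le_card_sup hS hMy
  have hk4' : k = 4 ∧ Nat.card Zq = p ^ 2 ∧ Nat.card M = p ^ 3 ∧ Q = M ⊔ Subgroup.zpowers y := by
    have hQ' : M ⊔ Subgroup.zpowers y ≤ Q := sup_le hMQ (Subgroup.zpowers_le.2 hy)
    have h5 := Subgroup.card_le_of_le hQ'
    rw [hk] at h5
    have h6 : p ^ 4 ≤ p ^ k := by
      calc p ^ 4 = p * (p * p ^ 2) := by ring
        _ ≤ p * (p * Nat.card Zq) := Nat.mul_le_mul_left p (Nat.mul_le_mul_left p h2)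
        _ ≤ p * Nat.card M := Nat.mul_le_mul_left p h3
        _ ≤ _ := h4.trans h5
    obtain rfl : k = 4 := le_antisymm hk4 ((Nat.pow_le_pow_iff_right hp.out.one_lt).1 h6)
    have hM : Nat.card M ≤ p ^ 3 := Nat.le_of_mul_le_mul_left (by rw [← pow_succ']; exact h4.trans h5) hp.out.pos
    have hz : Nat.card Zq ≤ p ^ 2 := Nat.le_of_mul_le_mul_left (by rw [← pow_succ']; exact h3.trans hM) hp.out.pos
    refine ⟨rfl, le_antisymm hz h2, le_antisymm hM ?_, (Subgroup.eq_of_le_of_card_ge hQ' ?_).symm⟩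
    · calc p ^ 3 = p * p ^ 2 := by ring
        _ ≤ _ := (Nat.mul_le_mul_left p h2).trans h3
    · rw [hk]
      calc p ^ 4 = p * (p * p ^ 2) := by ring
        _ ≤ _ := (Nat.mul_le_mul_left p ((Nat.mul_le_mul_left p h2).trans h3)).trans h4
  obtain ⟨hk4', hz2, hM3, hgen⟩ := hk4'
  subst hk4'
  -- the derived group is generated by one element
  have hst1 : Step p Zq M := step_of_pow hS le_sup_left hz2 hM3
  have hst2 : Step p M Q := step_of_pow hS hMQ hM3 hk
  set w : Q := ⁅(⟨x, hx⟩ : Q), ⟨y, hy⟩⁆ with hw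
  have hwz : w ∈ Subgroup.center Q := by
    have hcomm : ∀ u v : Q, ⁅u, v⁆ ∈ Subgroup.center Q := by
      have hcq : Nat.card (Q ⧸ Subgroup.center Q) = p ^ 2 := by
        have := (Subgroup.center Q).card_mul_index
        rw [← hcz, hz2, hk, show p ^ 4 = p ^ 2 * p ^ 2 by ring] at this
        exact Nat.eq_of_mul_eq_mul_left (pow_pos hp.out.pos 2) this
      haveI := IsPGroup.isMulCommutative_of_card_eq_prime_sq hcq
      intro u v
      refine (QuotientGroup.eq_one_iff _).1 ?_
      show QuotientGroup.mk' _ ⁅u, v⁆ = 1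
      rw [map_commutatorElement, commutatorElement_eq_one_iff_mul_comm]
      exact mul_comm' _ _
    exact hcomm _ _
  have hwQ : commutator Q ≤ Subgroup.zpowers w := by
    haveI : (Subgroup.zpowers w).Normal := normal_of_le_center (Subgroup.zpowers_le.2 hwz)
    rw [commutator_def, Subgroup.commutator_le]
    intro u _ v _
    set q := QuotientGroup.mk' (Subgroup.zpowers w)
    have hxy' : q ⟨y, hy⟩ * q ⟨x, hx⟩ = q ⟨x, hx⟩ * q ⟨y, hy⟩ :=
      (MaxEss.mk_comm.2 (Subgroup.mem_zpowers w)).symm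
    have hcen : ∀ g : Q, g ∈ (Subgroup.center (Q ⧸ Subgroup.zpowers w)).comap q := by
      have hzc : ∀ g : Q, (g : S) ∈ Zq → g ∈ (Subgroup.center (Q ⧸ Subgroup.zpowers w)).comap q := by
        rintro g ⟨c, hc, hce⟩
        obtain rfl : c = g := Subtype.ext hce
        refine Subgroup.mem_center_iff.2 fun r => ?_
        induction r using QuotientGroup.induction_on with
        | _ r =>
          show q r * q c = q c * q r
          rw [← map_mul, ← map_mul, Subgroup.mem_center_iff.1 hc r]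
      have hall : ∀ g h : Q, q g * q h = q h * q g := by
        have hcl : ∀ T : Subgroup Q, (∀ g : Q, (g : S) ∈ Zq → g ∈ T) → (⟨x, hx⟩ : Q) ∈ T → (⟨y, hy⟩ : Q) ∈ T →
            ∀ g : Q, g ∈ T := by
          intro T h1 h2 h3 g
          have hle : Q ≤ T.map Q.subtype := hgen.le.trans (sup_le (sup_le (fun c hc => ⟨⟨c, hZqQ hc⟩, h1 _ hc, rfl⟩)
            (Subgroup.zpowers_le.2 ⟨_, h2, rfl⟩)) (Subgroup.zpowers_le.2 ⟨_, h3, rfl⟩))
          obtain ⟨g', hg', hge⟩ := hle g.2
          rwa [← show g' = g from Subtype.ext hge]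
        have hC : ∀ h g : Q, g ∈ (Subgroup.centralizer {q h}).comap q ↔ q g * q h = q h * q g := fun h g =>
          Subgroup.mem_centralizer_singleton_iff
        have hX : ∀ g, q g * q ⟨x, hx⟩ = q ⟨x, hx⟩ * q g := fun g => (hC _ g).1 (hcl _
          (fun c hc => (hC _ c).2 (Subgroup.mem_center_iff.1 (hzc c hc) _).symm) ((hC _ _).2 rfl) ((hC _ _).2 hxy') g)
        have hY : ∀ g, q g * q ⟨y, hy⟩ = q ⟨y, hy⟩ * q g := fun g => (hC _ g).1 (hcl _
          (fun c hc => (hC _ c).2 (Subgroup.mem_center_iff.1 (hzc c hc) _).symm) ((hC _ _).2 hxy'.symm)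
          ((hC _ _).2 rfl) g)
        exact fun g h => (hC _ g).1 (hcl _
          (fun c hc => (hC _ c).2 (Subgroup.mem_center_iff.1 (hzc c hc) _).symm) ((hC _ _).2 (hX h).symm)
          ((hC _ _).2 (hY h).symm) g)
      intro g
      refine Subgroup.mem_center_iff.2 fun r => ?_
      induction r using QuotientGroup.induction_on with
      | _ r => exact hall r g
    refine (QuotientGroup.eq_one_iff _).1 ?_
    show q ⁅u, v⁆ = 1
    rw [map_commutatorElement, commutatorElement_eq_one_iff_mul_comm]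
    exact Subgroup.mem_center_iff.1 (hcen v) _
  -- it is central in the whole group and has order `p`
  set D := (commutator Q).map Q.subtype with hD
  have hDQ : D ≤ Q := Subgroup.map_subtype_le _
  have hDc : ∀ b : MulAut Q, b ∈ pres D := char_pres hDQ (by
    rw [hD, Subgroup.subgroupOf, Subgroup.comap_map_eq_self_of_injective Q.subtype_injective]
    rw [commutator_def]; infer_instance)
  have hxp : x ^ p ∈ Zq := hst1.pow_mem hS (Subgroup.mem_sup_right (Subgroup.mem_zpowers x))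
  have hwp : w ^ p = 1 := by
    obtain ⟨c, hc, hce⟩ := hxp
    have hc' : c = (⟨x, hx⟩ : Q) ^ p := Subtype.ext hce
    have hcomm : ∀ n : ℕ, ⁅(⟨x, hx⟩ : Q) ^ n, ⟨y, hy⟩⁆ = w ^ n := by
      intro n
      induction n with
      | zero => simp
      | succ n ih =>
        rw [pow_succ', show ∀ a b d : Q, ⁅a * b, d⁆ = a * ⁅b, d⁆ * a⁻¹ * ⁅a, d⁆ from fun a b d => by
          simp only [commutatorElement_def]; group, ih, ← hw,
          Subgroup.mem_center_iff.1 (Subgroup.pow_mem _ hwz n) _, mul_inv_cancel_right, ← pow_succ]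
    rw [← hcomm, ← hc', commutatorElement_eq_one_iff_mul_comm]
    exact (Subgroup.mem_center_iff.1 hc _).symm
  have hDp : Nat.card D ≤ p := by
    rw [hD, Subgroup.card_map_of_injective Q.subtype_injective]
    refine (Subgroup.card_le_of_le hwQ).trans ?_
    rw [Nat.card_zpowers]
    exact Nat.le_of_dvd hp.out.pos (orderOf_dvd_of_pow_eq_one hwp)
  have hQn : Subgroup.normalizer (Q : Set S) = ⊤ :=
    Subgroup.eq_top_of_card_eq _ (le_antisymm (Subgroup.card_le_card_group _) (by
      rw [hcard, pow_succ']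
      exact hk ▸ pow_le_of_lt hS (normalizer_grows hS (essential_ne_top hS hF hQ))))
  have hDn : D.Normal := ⟨fun d hd g => by
    have hgn : g ∈ Subgroup.normalizer (Q : Set S) := hQn ▸ Subgroup.mem_top g
    have h := ((hDc (Q.normalizerMonoidHom ⟨g, hgn⟩)) d).2 hd
    rwa [ev_conj _ (hDQ hd)] at h⟩
  have hw1 : (w : S) ≠ 1 := fun h => hxy (by
    have h1 : w = 1 := Subtype.ext h
    rw [hw, commutatorElement_eq_one_iff_mul_comm] at h1
    exact (congrArg Subtype.val h1).symm)
  have hwD : (w : S) ∈ D := ⟨w, Subgroup.commutator_mem_commutator (Subgroup.mem_top _) (Subgroup.mem_top _), rfl⟩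
  have hDlt : (⊥ : Subgroup S) < D := bot_lt_iff_ne_bot.2 fun h => hw1 (Subgroup.mem_bot.1 (h ▸ hwD))
  obtain ⟨L, -, hLD, hL, hLc⟩ := exists_normal_step hS inferInstance hDn hDlt
  have hLD' : L = D := Subgroup.eq_of_le_of_card_ge hLD (by rw [hL.card, Subgroup.card_bot, mul_one]; exact hDp)
  have hDZ : D ≤ Subgroup.center S := fun d hd => Subgroup.mem_center_iff.2 fun g =>
    commutatorElement_eq_one_iff_mul_comm.1 (Subgroup.mem_bot.1 (hLc g d (hLD'.ge hd)))
  have hZeq : Subgroup.center S = D := by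
    refine (Subgroup.eq_of_le_of_card_ge hDZ ?_).symm
    obtain ⟨j, hj⟩ := card_exists hS (Subgroup.center S)
    have h5 := pow_le_of_lt hS (lt_of_le_of_ne hle fun e => heq e.ge)
    rw [hz2, sq] at h5
    exact (Nat.le_of_mul_le_mul_left h5 hp.out.pos).trans (by
      rw [← hLD', hL.card, Subgroup.card_bot, mul_one])
  rw [hZeq]
  exact hDc a

/-- An abelian essential subgroup has order `p²` or `p³` and exponent `p`. -/
theorem abelian_essential (hnab : NoAb p S) {E : Subgroup S} (hE : F.IsEssential p (om E))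
    (hab : ∀ a ∈ E, ∀ b ∈ E, a * b = b * a) :
    (∀ a ∈ E, a ^ p = 1) ∧ (Nat.card E = p ^ 2 ∨ Nat.card E = p ^ 3) := by
  obtain ⟨k, hk⟩ := card_exists hS E
  have hnc : ¬ IsCyclic E := fun h => by
    refine not_isPGroup_commutator_autGroup hS hF hE ?_
    haveI : IsCyclic (om E) := (eL E).isCyclic.1 h
    have h1 : commutator (F.autGroup (om E)) = ⊥ := by
      rw [commutator_def, Subgroup.commutator_eq_bot_iff_le_centralizer]
      exact fun a _ => Subgroup.mem_centralizer_iff.2 fun b _ => Subtype.ext (aut_comm (b : MulAut (om E)) a)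
    rw [h1]
    exact IsPGroup.of_bot
  have hk2 : 2 ≤ k := by
    by_contra h
    refine hnc ?_
    interval_cases k
    · haveI : Subsingleton E := by rw [← Finite.card_le_one_iff_subsingleton, hk, pow_zero]
      exact inferInstance
    · exact isCyclic_of_prime_card (p := p) (hk.trans (pow_one p))
  have hk3 : k ≤ 3 := by
    by_contra h
    obtain ⟨B, hB⟩ := Sylow.exists_subgroup_card_pow_prime p (n := 4) (G := E) (by
      rw [hk]; exact pow_dvd_pow p (by omega))
    refine hnab (B.map E.subtype) ?_ ((Subgroup.card_map_of_injective E.subtype_injective).trans hB)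
    rintro _ ⟨u, -, rfl⟩ _ ⟨v, -, rfl⟩
    exact hab u u.2 v v.2
  refine ⟨?_, by interval_cases k <;> simp [hk]⟩
  intro a ha
  interval_cases k
  · by_contra hne
    obtain ⟨i, hi, hoi⟩ := (Nat.dvd_prime_pow hp.out).1 (hk ▸ orderOf_dvd_natCard (⟨a, ha⟩ : E))
    have hi2 : i = 2 := by
      by_contra hi2
      have h1 : orderOf (⟨a, ha⟩ : E) ∣ p := by
        rw [hoi]; exact (Nat.pow_dvd_pow p (by omega : i ≤ 1)).trans (pow_one p).dvd
      exact hne (congrArg Subtype.val (orderOf_dvd_iff_pow_eq_one.1 h1))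
    subst hi2
    exact hnc (isCyclic_of_orderOf_eq_card _ (hoi.trans hk.symm))
  · rcases S5186.result p hS F hF (om E) hE ((card_om E).trans hk) with ⟨-, h⟩ | ⟨-, -, h⟩ | ⟨-, h⟩
    · exact Subtype.ext (h _ ⟨a, ha, rfl⟩)
    · exact Subtype.ext (h _ ⟨a, ha, rfl⟩)
    · exfalso
      obtain ⟨e⟩ := h
      have hne : ¬ ∀ u v : QuaternionGroup 2, u * v = v * u := by decide
      refine hne fun u v => ?_
      apply e.symm.injective
      rw [map_mul, map_mul]
      obtain ⟨x, hx⟩ := (eL E).surjective (e.symm u)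
      obtain ⟨y, hy⟩ := (eL E).surjective (e.symm v)
      rw [← hx, ← hy, ← map_mul, ← map_mul, show x * y = y * x from Subtype.ext (hab x x.2 y y.2)]

/-- There is an abelian essential subgroup of order `p²` or `p³` and exponent `p` moving the centre. -/
theorem exists_abelian (hcard : Nat.card S = p ^ 5) (hnab : NoAb p S) (hcore : F.core = ⊥) :
    ∃ E : Subgroup S, F.IsEssential p (om E) ∧ (∀ a ∈ E, ∀ b ∈ E, a * b = b * a) ∧
      (∀ a ∈ E, a ^ p = 1) ∧ (Nat.card E = p ^ 2 ∨ Nat.card E = p ^ 3) ∧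
      ∃ α ∈ autL F E, α ∉ pres (Subgroup.center S) := by
  have hnt : Subgroup.center S ≠ ⊥ := by
    haveI : Nontrivial S := Finite.one_lt_card_iff_nontrivial.1 (hcard ▸ Nat.one_lt_pow (by norm_num) hp.out.one_lt)
    haveI := hS.center_nontrivial
    exact (Subgroup.nontrivial_iff_ne_bot _).1 inferInstance
  have hnn : ¬ F.IsNormal (om (Subgroup.center S)) := fun h => by
    have hle : om (Subgroup.center S) ≤ (⊥ : Subgroup Ω) := hcore ▸ le_sSup h
    exact hnt (eq_bot_iff.2 fun x hx => Subgroup.mem_bot.2 (Subtype.ext (Subgroup.mem_bot.1 (hle ⟨x, hx, rfl⟩))))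
  obtain ⟨E, hE, α, hα, hαz⟩ : ∃ E, F.IsEssential p (om E) ∧ ∃ α ∈ autL F E, α ∉ pres (Subgroup.center S) := by
    by_contra! hall
    refine hnn (isNormal_of_autGroup_preserve hS hF fun P hP => ?_)
    obtain ⟨L, rfl⟩ := exists_om (hP.elim (fun e => e.le) fun e => e.1.1)
    have hL : Subgroup.center S ≤ L ∧ autL F L ≤ pres (Subgroup.center S) := by
      rcases hP with h | h
      · obtain rfl := om_inj (h.trans om_top.symm)
        refine ⟨le_top, fun a _ => mem_pres fun x hx => ?_⟩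
        have := Subgroup.characteristic_iff_le_comap.1 (inferInstance : (Subgroup.center S).Characteristic)
          ((Subgroup.topEquiv.symm.trans a).trans Subgroup.topEquiv) hx
        rw [ev_of_mem (Subgroup.mem_top x)]
        exact this
      · exact ⟨center_le_essential hS hF h, fun a ha => hall L h a ha⟩
    refine ⟨Subgroup.map_mono hL.1, fun b hb y hy => ?_⟩
    obtain ⟨a, rfl⟩ := (MulAut.congr (eL L)).surjective b
    obtain ⟨x, rfl⟩ := (eL L).surjective y
    rw [congr_eL_apply]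
    refine ⟨(a x : S), ?_, rfl⟩
    rw [← ev_coe]
    exact (hL.2 hb _).2 ((Subgroup.mem_map_iff_mem S.subtype_injective).1 hy)
  have hab : ∀ a ∈ E, ∀ b ∈ E, a * b = b * a := by
    by_contra h
    exact hαz (nonabelian_pres hS hF hcard hE h hα)
  exact ⟨E, hE, hab, (abelian_essential hS hF hnab hE hab).1, (abelian_essential hS hF hnab hE hab).2, α, hα, hαz⟩

omit hF in
/-- A proper normal subgroup respected by all maps excludes a hyperfocal subgroup equal to `S`. -/
theorem false_of_invariant (hF : F.IsSaturated p) (hhyp : F.hyperfocalSubgroup p = S) {K : Subgroup S}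
    (hK : K ≠ ⊤) (hc : ∀ x y : S, ⁅x, y⁆ ∈ K)
    (h : ∀ Q : Subgroup S, (Q = ⊤ ∨ F.IsEssential p (om Q)) → ∀ a ∈ autL F Q, ∀ x ∈ Q, x⁻¹ * ev a x ∈ K) :
    False := by
  set R : Ω → Ω → Prop := fun x y => x⁻¹ * y ∈ om K
  have hconj : ∀ x ∈ S, ∀ g ∈ S, R x (g * x * g⁻¹) := fun x hx g hg => by
    refine ⟨⁅(⟨x, hx⟩ : S)⁻¹, ⟨g, hg⟩⁆, hc _ _, ?_⟩
    show x⁻¹ * g * x⁻¹⁻¹ * g⁻¹ = _
    group
  have hsymm : ∀ x ∈ S, ∀ y ∈ S, R x y → R y x := fun x _ y _ hxy => by
    have := inv_mem (show x⁻¹ * y ∈ om K from hxy)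
    rwa [mul_inv_rev, inv_inv] at this
  have htrans : ∀ x ∈ S, ∀ y ∈ S, ∀ z ∈ S, R x y → R y z → R x z := fun x _ y _ z _ h1 h2 => by
    have := mul_mem (show x⁻¹ * y ∈ om K from h1) (show y⁻¹ * z ∈ om K from h2)
    rwa [mul_assoc, mul_inv_cancel_left] at this
  have hle : F ≤ relSystem F R hconj hsymm htrans := alperin hS hF fun P hP α hα => by
    obtain ⟨L, rfl⟩ := exists_om (hP.elim (fun e => e.le) fun e => e.1.1)
    obtain ⟨a, rfl⟩ := (MulAut.congr (eL L)).surjective α
    rw [mem_autGroup_iff _ (om_le L)]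
    refine ⟨(mem_autGroup_iff F (om_le L) _).1 hα, fun y => ?_⟩
    obtain ⟨x, rfl⟩ := (eL L).surjective y
    show (x : Ω)⁻¹ * ((MulAut.congr (eL L) a (eL L x) : om L) : Ω) ∈ om K
    rw [congr_eL_apply]
    refine ⟨(x : S)⁻¹ * ev a (x : S), h L ?_ a hα _ x.2, by rw [ev_coe]; rfl⟩
    exact hP.imp (fun e => om_inj (e.trans om_top.symm)) id
  have hle' : F.hyperfocalSubgroup p ≤ om K := by
    refine (Subgroup.closure_le _).2 ?_
    rintro _ ⟨P, α, x, hP, -, rfl⟩
    haveI := finite_of_le hP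
    exact (hle P ((mem_autGroup_iff F hP (α : MulAut P)).1 α.2)).2 x
  refine hK ((Subgroup.eq_top_iff' _).2 fun x => ?_)
  have := hle' (hhyp.symm ▸ x.2 : (x : Ω) ∈ F.hyperfocalSubgroup p)
  exact (Subgroup.mem_map_iff_mem S.subtype_injective).1 this

end Cfsg.Agent.OrderFive
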