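import Cfsg.Agent.Lib.MaxEss.Basic
import Cfsg.Agent.Lib.MaxEss.Signs
import Cfsg.Agent.Lib.Fusion.PlaneFrame

/-!
# Automorphisms of subgroups read as total maps, weights on steps of order `p`
-/

set_option autoImplicit false
set_option linter.unusedSectionVars false

namespace Cfsg.Agent.OrderFive

open scoped commutatorElement
open Cfsg.Agent

variable {G : Type*} [Group G]

/-- An automorphism of a subgroup as a map of the group, the identity outside. -/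
noncomputable def ev {L : Subgroup G} (a : MulAut L) (x : G) : G :=
  open Classical in if h : x ∈ L then (a ⟨x, h⟩ : G) else x

section ev

variable {L : Subgroup G} {a b : MulAut L} {x y : G}

theorem ev_of_mem (h : x ∈ L) : ev a x = (a ⟨x, h⟩ : G) := dif_pos h

theorem ev_coe (a : MulAut L) (x : L) : ev a (x : G) = (a x : G) := ev_of_mem x.2

theorem ev_of_not (h : x ∉ L) : ev a x = x := dif_neg h

theorem ev_mem (h : x ∈ L) : ev a x ∈ L := by rw [ev_of_mem h]; exact (a _).2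

theorem ev_mem_iff : ev a x ∈ L ↔ x ∈ L :=
  ⟨fun h => by by_contra hx; rw [ev_of_not hx] at h; exact hx h, ev_mem⟩

theorem ev_id (x : G) : ev (1 : MulAut L) x = x := by
  by_cases h : x ∈ L
  · rw [ev_of_mem h]; rfl
  · exact ev_of_not h

theorem ev_comp (a b : MulAut L) (x : G) : ev (a * b) x = ev a (ev b x) := by
  by_cases h : x ∈ L
  · rw [ev_of_mem h, ev_of_mem (x := ev b x) (ev_mem h)]
    simp only [ev_of_mem h, MulAut.mul_apply, Subtype.coe_eta]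
  · rw [ev_of_not h, ev_of_not h, ev_of_not h]

theorem ev_inv_cancel (a : MulAut L) (x : G) : ev a⁻¹ (ev a x) = x := by
  rw [← ev_comp, inv_mul_cancel, ev_id]

theorem ev_cancel_inv (a : MulAut L) (x : G) : ev a (ev a⁻¹ x) = x := by
  rw [← ev_comp, mul_inv_cancel, ev_id]

theorem ev_injective (a : MulAut L) : Function.Injective (ev a) :=
  Function.LeftInverse.injective (ev_inv_cancel a)

theorem ev_one (a : MulAut L) : ev a (1 : G) = 1 := by
  rw [ev_of_mem (one_mem L), show (⟨1, one_mem L⟩ : L) = 1 from rfl, map_one]; rfl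

theorem ev_mul (hx : x ∈ L) (hy : y ∈ L) : ev a (x * y) = ev a x * ev a y := by
  rw [ev_of_mem hx, ev_of_mem hy, ev_of_mem (L.mul_mem hx hy),
    show (⟨x * y, L.mul_mem hx hy⟩ : L) = ⟨x, hx⟩ * ⟨y, hy⟩ from rfl, map_mul]
  rfl

theorem ev_inv (hx : x ∈ L) : ev a x⁻¹ = (ev a x)⁻¹ := by
  rw [ev_of_mem hx, ev_of_mem (L.inv_mem hx), show (⟨x⁻¹, L.inv_mem hx⟩ : L) = (⟨x, hx⟩ : L)⁻¹ from rfl, map_inv]
  rfl

theorem ev_zpow (hx : x ∈ L) (n : ℤ) : ev a (x ^ n) = ev a x ^ n := by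
  rw [ev_of_mem hx, ev_of_mem (L.zpow_mem hx n), show (⟨x ^ n, L.zpow_mem hx n⟩ : L) = (⟨x, hx⟩ : L) ^ n from rfl,
    map_zpow]
  rfl

theorem ev_pow (hx : x ∈ L) (n : ℕ) : ev a (x ^ n) = ev a x ^ n := by
  rw [← zpow_natCast, ev_zpow hx, zpow_natCast]

theorem ev_comm (hx : x ∈ L) (hy : y ∈ L) : ev a ⁅x, y⁆ = ⁅ev a x, ev a y⁆ := by
  rw [commutatorElement_def, commutatorElement_def, ev_mul (L.mul_mem (L.mul_mem hx hy) (L.inv_mem hx)) (L.inv_mem hy),
    ev_mul (L.mul_mem hx hy) (L.inv_mem hx), ev_mul hx hy, ev_inv hx, ev_inv hy]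

theorem ev_conj (n : Subgroup.normalizer (L : Set G)) (hx : x ∈ L) :
    ev (L.normalizerMonoidHom n) x = n * x * (n : G)⁻¹ := by rw [ev_of_mem hx]; rfl

theorem ext_ev (h : ∀ x ∈ L, ev a x = ev b x) : a = b := MulEquiv.ext fun x => Subtype.ext (by
  rw [← ev_coe, ← ev_coe]; exact h x x.2)

end ev

/-- The automorphisms of `L` preserving `A`. -/
def pres {L : Subgroup G} (A : Subgroup G) : Subgroup (MulAut L) where
  carrier := {a | ∀ x, ev a x ∈ A ↔ x ∈ A}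
  one_mem' x := by rw [ev_id]
  mul_mem' {a b} ha hb x := by rw [ev_comp, ha, hb]
  inv_mem' {a} ha x := by rw [← ha, ev_cancel_inv]

theorem mem_pres_iff {L A : Subgroup G} {a : MulAut L} : a ∈ pres A ↔ ∀ x, ev a x ∈ A ↔ x ∈ A := Iff.rfl

theorem pres_bot {L : Subgroup G} (a : MulAut L) : a ∈ pres (⊥ : Subgroup G) := fun x => by
  rw [Subgroup.mem_bot, Subgroup.mem_bot]
  exact ⟨fun h => ev_injective a (h.trans (ev_one a).symm), fun h => h ▸ ev_one a⟩

theorem pres_self {L : Subgroup G} (a : MulAut L) : a ∈ pres L := fun _ => ev_mem_iff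

theorem mem_pres [Finite G] {L A : Subgroup G} {a : MulAut L} (h : ∀ x ∈ A, ev a x ∈ A) : a ∈ pres A := by
  intro x
  refine ⟨fun hx => ?_, h x⟩
  let f : A → A := fun y => ⟨ev a y, h y y.2⟩
  obtain ⟨⟨y, hy⟩, hye⟩ := (Finite.injective_iff_surjective (f := f)).1
    (fun u v huv => Subtype.ext (ev_injective a (congrArg Subtype.val huv))) ⟨ev a x, hx⟩
  rwa [← ev_injective a (congrArg Subtype.val hye)]

/-- Conjugation by a normalizing element preserves what it normalizes. -/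
theorem conj_mem_pres [Finite G] {L A : Subgroup G} (hA : A ≤ L) {n : Subgroup.normalizer (L : Set G)}
    (hn : (n : G) ∈ Subgroup.normalizer (A : Set G)) : L.normalizerMonoidHom n ∈ pres A :=
  mem_pres fun x hx => by rw [ev_conj n (hA hx)]; exact (Subgroup.mem_normalizer_iff.1 hn x).1 hx

/-! ### Steps of order `p` -/

/-- `A` is a normal subgroup of index `p` in `B`. -/
structure Step (p : ℕ) (A B : Subgroup G) : Prop where
  le : A ≤ B
  norm : B ≤ Subgroup.normalizer (A : Set G)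
  card : Nat.card B = p * Nat.card A

variable [Finite G] {p : ℕ} [hp : Fact p.Prime]

theorem mem_of_zpow_mem {A : Subgroup G} {y : G} (hy : y ^ p ∈ A) {k : ℤ} (hk : (k : ZMod p) ≠ 0)
    (h : y ^ k ∈ A) : y ∈ A := by
  rw [ne_eq, ZMod.intCast_zmod_eq_zero_iff_dvd] at hk
  obtain ⟨a, b, hab⟩ := (Prime.coprime_iff_not_dvd (Nat.prime_iff_prime_int.1 hp.out)).2 hk
  rw [← zpow_one y, ← hab, zpow_add, mul_comm a, zpow_mul, zpow_natCast, mul_comm b, zpow_mul]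
  exact mul_mem (zpow_mem hy a) (zpow_mem h b)

theorem zpow_mem_of_cast {A : Subgroup G} {y : G} (hy : y ^ p ∈ A) {k : ℤ} (hk : (k : ZMod p) = 0) :
    y ^ k ∈ A := by
  rw [ZMod.intCast_zmod_eq_zero_iff_dvd] at hk
  obtain ⟨c, rfl⟩ := hk
  rw [zpow_mul, zpow_natCast]
  exact zpow_mem hy c

namespace Step

variable {A B : Subgroup G} (hG : IsPGroup p G) (h : Step p A B)
include h

theorem exists_gen : ∃ y ∈ B, y ∉ A := by
  refine SetLike.not_le_iff_exists.1 fun hle => ?_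
  have h1 := Subgroup.card_le_of_le hle
  rw [h.card] at h1
  have h2 := hp.out.one_lt
  have h3 : 0 < Nat.card A := Nat.card_pos
  nlinarith

theorem lt : A < B := lt_of_le_of_ne h.le fun e => by
  obtain ⟨y, hy, hyA⟩ := h.exists_gen (p := p)
  exact hyA (e ▸ hy)

theorem eq_of_between {C : Subgroup G} (h1 : A ≤ C) (h2 : C ≤ B) : C = A ∨ C = B := by
  obtain ⟨c, hc⟩ := Subgroup.card_dvd_of_le h1
  have hd := Subgroup.card_dvd_of_le h2
  rw [h.card, hc, mul_comm p] at hd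
  rcases (Nat.dvd_prime hp.out).1 (Nat.dvd_of_mul_dvd_mul_left Nat.card_pos hd) with rfl | rfl
  · exact Or.inl (Subgroup.eq_of_le_of_card_ge h1 (by rw [hc, mul_one])).symm
  · exact Or.inr (Subgroup.eq_of_le_of_card_ge h2 (by rw [hc, h.card, mul_comm]))

include hG

theorem pow_mem {y : G} (hy : y ∈ B) : y ^ p ∈ A := by
  by_cases hyA : y ∈ A
  · exact A.pow_mem hyA p
  · exact (MaxEss.step_zpow hG h.norm h.le h.card hy hyA).1

theorem gen {y : G} (hy : y ∈ B) (hyA : y ∉ A) {w : G} (hw : w ∈ B) : ∃ k : ℤ, (y ^ k)⁻¹ * w ∈ A :=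
  (MaxEss.step_zpow hG h.norm h.le h.card hy hyA).2 w hw

theorem zpow_congr {u v : G} (hu : u ∈ B) (hv : v ∈ B) (huv : u⁻¹ * v ∈ A) (k : ℤ) :
    (u ^ k)⁻¹ * v ^ k ∈ A := by
  haveI : (A.subgroupOf B).Normal := Subgroup.normal_subgroupOf_of_le_normalizer h.norm
  have h1 : QuotientGroup.mk' (A.subgroupOf B) ⟨u, hu⟩ = QuotientGroup.mk' (A.subgroupOf B) ⟨v, hv⟩ :=
    QuotientGroup.eq.2 (Subgroup.mem_subgroupOf.2 huv)
  have h2 := congrArg (· ^ k) h1
  simp only [← map_zpow] at h2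
  exact Subgroup.mem_subgroupOf.1 (QuotientGroup.eq.1 h2)

theorem comm_mem {u v : G} (hu : u ∈ B) (hv : v ∈ B) : ⁅u, v⁆ ∈ A :=
  MaxEss.step_central hG (A := A) (B := B) le_rfl h.norm Subgroup.le_normalizer h.le h.card u hu v hv

end Step

/-! ### Weights -/

/-- `f` acts by `t` on `B` modulo `A`. -/
def Wt (f : G → G) (A B : Subgroup G) (t : ℤ) : Prop := ∀ y ∈ B, (y ^ t)⁻¹ * f y ∈ A

namespace Wt

variable {L A B : Subgroup G} {a b : MulAut L} {s t : ℤ}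

section
variable (hG : IsPGroup p G) (hst : Step p A B)
include hG hst

theorem of_elt (hBL : B ≤ L) (ha : a ∈ pres A) {y : G} (hy : y ∈ B) (hyA : y ∉ A)
    (h : (y ^ t)⁻¹ * ev a y ∈ A) : Wt (ev a) A B t := by
  intro w hw
  obtain ⟨k, hk⟩ := hst.gen hG hy hyA hw
  obtain ⟨r, hr⟩ : ∃ r, (y ^ k)⁻¹ * w = r := ⟨_, rfl⟩
  rw [hr] at hk
  have hw' : w = y ^ k * r := by rw [← hr, mul_inv_cancel_left]
  have hayB : ev a y ∈ B := by
    have := mul_mem (zpow_mem hy t) (hst.le h)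
    rwa [mul_inv_cancel_left] at this
  have e1 := hst.zpow_congr hG (zpow_mem hy t) hayB h k
  have e2 := hst.zpow_congr hG (zpow_mem hy k) hw (by rw [hr]; exact hk) t
  rw [← zpow_mul, mul_comm, zpow_mul] at e1
  have e3 : ev a w = ev a y ^ k * ev a r := by
    rw [hw', ev_mul (hBL (zpow_mem hy k)) (hBL (hst.le hk)), ev_zpow (hBL hy)]
  have h5 := mul_mem (mul_mem (A.inv_mem e2) e1) ((ha r).2 hk)
  rw [show (((y ^ k) ^ t)⁻¹ * w ^ t)⁻¹ * (((y ^ k) ^ t)⁻¹ * ev a y ^ k) * ev a r =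
    (w ^ t)⁻¹ * (ev a y ^ k * ev a r) by group, ← e3] at h5
  exact h5

theorem exists_wt (hBL : B ≤ L) (ha : a ∈ pres A) (hb : a ∈ pres B) : ∃ t : ℤ, Wt (ev a) A B t := by
  obtain ⟨y, hy, hyA⟩ := hst.exists_gen (p := p)
  obtain ⟨k, hk⟩ := hst.gen hG hy hyA ((hb y).2 hy)
  exact ⟨k, of_elt hG hst hBL ha hy hyA hk⟩

theorem congr {f : G → G} (h : Wt f A B s) (e : (s : ZMod p) = t) : Wt f A B t := by
  intro y hy
  have h1 : y ^ (s - t) ∈ A := zpow_mem_of_cast (hst.pow_mem hG hy) (by push_cast; rw [e, sub_self])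
  have h2 := mul_mem h1 (h y hy)
  rwa [← mul_assoc, ← zpow_neg, ← zpow_add, show s - t + -s = -t by ring, zpow_neg] at h2

omit hG hst in
theorem unique_elt {y v : G} (hyp : y ^ p ∈ A) (hyA : y ∉ A)
    (h1 : (y ^ s)⁻¹ * v ∈ A) (h2 : (y ^ t)⁻¹ * v ∈ A) : (s : ZMod p) = t := by
  by_contra hne
  refine hyA (mem_of_zpow_mem hyp (k := t - s) (by push_cast; exact sub_ne_zero.2 (Ne.symm hne)) ?_)
  have := mul_mem h1 (A.inv_mem h2)
  rwa [mul_inv_rev, inv_inv, mul_assoc, mul_inv_cancel_left, ← zpow_neg, ← zpow_add, neg_add_eq_sub] at this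

theorem unique {f : G → G} (h1 : Wt f A B s) (h2 : Wt f A B t) : (s : ZMod p) = t := by
  obtain ⟨y, hy, hyA⟩ := hst.exists_gen (p := p)
  exact unique_elt (hst.pow_mem hG hy) hyA (h1 y hy) (h2 y hy)

theorem ne_zero (hBL : B ≤ L) (ha : a ∈ pres A) (h : Wt (ev a) A B t) : (t : ZMod p) ≠ 0 := by
  intro ht
  obtain ⟨y, hy, hyA⟩ := hst.exists_gen (p := p)
  refine hyA ((ha y).1 ?_)
  have h0 : Wt (ev a) A B 0 := congr hG hst h (by rw [ht]; norm_num)
  simpa using h0 y hy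

theorem mul (hBL : B ≤ L) (ha : a ∈ pres A) (h1 : Wt (ev a) A B s) (h2 : Wt (ev b) A B t) :
    Wt (ev (a * b)) A B (s * t) := by
  intro y hy
  have hby := h2 y hy
  have haB : ∀ w ∈ B, ev a w ∈ B := fun w hw => by
    have := mul_mem (zpow_mem hw s) (hst.le (h1 w hw))
    rwa [mul_inv_cancel_left] at this
  have e1 : ev (a * b) y = ev a y ^ t * ev a ((y ^ t)⁻¹ * ev b y) := by
    rw [ev_comp, ← ev_zpow (hBL hy), ← ev_mul (hBL (zpow_mem hy t)) (hBL (hst.le hby)), mul_inv_cancel_left]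
  have h3 := mul_mem (hst.zpow_congr hG (zpow_mem hy s) (haB y hy) (h1 y hy) t) ((ha _).2 hby)
  rwa [mul_assoc, ← e1, ← zpow_mul] at h3

theorem pow (hBL : B ≤ L) (ha : a ∈ pres A) (h : Wt (ev a) A B t) :
    ∀ n : ℕ, Wt (ev (a ^ n)) A B (t ^ n) := by
  intro n
  induction n with
  | zero => intro y _; rw [pow_zero, pow_zero, ev_id, zpow_one, inv_mul_cancel]; exact one_mem _
  | succ n ih =>
    rw [pow_succ, pow_succ]
    exact mul hG hst hBL (pow_mem ha n) ih h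

theorem eq_one_of_pow (hBL : B ≤ L) (ha : a ∈ pres A) (h : Wt (ev a) A B t) {k : ℕ} (hk : a ^ p ^ k = 1) :
    (t : ZMod p) = 1 := by
  have h1 := pow hG hst hBL ha h (p ^ k)
  rw [hk] at h1
  have h2 : Wt (ev (1 : MulAut L)) A B 1 := fun y _ => by
    rw [ev_id, zpow_one, inv_mul_cancel]; exact one_mem _
  have h3 := unique hG hst h1 h2
  push_cast at h3
  rwa [ZMod.pow_card_pow] at h3

/-- An automorphism of `p`-power order acts trivially on an invariant step. -/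
theorem one_of_pow (hBL : B ≤ L) (ha : a ∈ pres A) (hb : a ∈ pres B) {k : ℕ} (hk : a ^ p ^ k = 1) :
    Wt (ev a) A B 1 := by
  obtain ⟨t, ht⟩ := exists_wt hG hst hBL ha hb
  exact congr hG hst ht (by rw [eq_one_of_pow hG hst hBL ha ht hk]; norm_num)

end

omit hp in
theorem one_iff {f : G → G} : Wt f A B 1 ↔ ∀ y ∈ B, y⁻¹ * f y ∈ A := by simp [Wt]

end Wt

omit hp in
/-- Commutators of powers modulo `D`. -/
theorem comm_transfer {D : Subgroup G} [D.Normal] {x y r q : G} (s t : ℤ) (hxx : ⁅x, ⁅x, y⁆⁆ ∈ D)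
    (hyy : ⁅y, ⁅x, y⁆⁆ ∈ D) (hry : ⁅r, y⁆ ∈ D) (hrq : ⁅r, q⁆ ∈ D) (hxq : ⁅x, q⁆ ∈ D) :
    (⁅x, y⁆ ^ (s * t))⁻¹ * ⁅x ^ s * r, y ^ t * q⁆ ∈ D := by
  set f := QuotientGroup.mk' D
  have key : ∀ {a b : G}, ⁅a, b⁆ ∈ D → Commute (f a) (f b) := fun h => MaxEss.mk_comm.2 h
  have hx := key hxx
  have hy := key hyy
  rw [map_commutatorElement] at hx hy
  have e : f ⁅x, y⁆ ^ (s * t) = f ⁅x ^ s * r, y ^ t * q⁆ := by
    rw [map_commutatorElement, map_commutatorElement, map_mul, map_mul, map_zpow, map_zpow]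
    have h1 : Commute (f r) (f y ^ t * f q) := ((key hry).zpow_right t).mul_right (key hrq)
    have h2 : Commute (f x ^ s) (f q) := (key hxq).zpow_left s
    have h3 : ⁅f x ^ s * f r, f y ^ t * f q⁆ = ⁅f x ^ s, f y ^ t⁆ := by
      calc ⁅f x ^ s * f r, f y ^ t * f q⁆
          = f x ^ s * (f r * (f y ^ t * f q) * (f r)⁻¹) * (f x ^ s)⁻¹ * (f y ^ t * f q)⁻¹ := by
            simp only [commutatorElement_def, mul_inv_rev, mul_assoc]
        _ = f x ^ s * (f y ^ t * f q) * (f x ^ s)⁻¹ * (f y ^ t * f q)⁻¹ := by rw [h1.eq, mul_inv_cancel_right]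
        _ = f x ^ s * f y ^ t * (f q * (f x ^ s)⁻¹) * (f y ^ t * f q)⁻¹ := by simp only [mul_assoc]
        _ = f x ^ s * f y ^ t * ((f x ^ s)⁻¹ * f q) * (f y ^ t * f q)⁻¹ := by rw [h2.inv_left.eq]
        _ = ⁅f x ^ s, f y ^ t⁆ := by simp only [commutatorElement_def]; group
    rw [h3]
    set X := f x
    set Y := f y
    set c := ⁅X, Y⁆ with hc
    have e1 : X * Y * X⁻¹ = c * Y := by rw [hc, commutatorElement_def, inv_mul_cancel_right]
    have e2 : X * Y ^ t * X⁻¹ = c ^ t * Y ^ t := by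
      rw [← conj_zpow, e1, (show Commute c Y from hy.symm).mul_zpow]
    have e3 : Y ^ t * X * (Y ^ t)⁻¹ = (c ^ t)⁻¹ * X := by
      have hcX : Commute (c ^ t) X := hx.symm.zpow_left t
      have e4 : X * Y ^ t = c ^ t * Y ^ t * X := by rw [← e2, inv_mul_cancel_right]
      rw [mul_inv_eq_iff_eq_mul, mul_assoc, e4, ← mul_assoc, ← mul_assoc, inv_mul_cancel, one_mul]
    have e5 : Y ^ t * X ^ s * (Y ^ t)⁻¹ = (c ^ t)⁻¹ ^ s * X ^ s := by
      rw [← conj_zpow, e3, ((hx.symm.zpow_left t).inv_left).mul_zpow]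
    calc c ^ (s * t) = (((c ^ t)⁻¹) ^ s)⁻¹ := by rw [inv_zpow, inv_inv, ← zpow_mul, mul_comm]
      _ = X ^ s * ((c ^ t)⁻¹ ^ s * X ^ s)⁻¹ := by rw [mul_inv_rev, mul_inv_cancel_left]
      _ = X ^ s * (Y ^ t * X ^ s * (Y ^ t)⁻¹)⁻¹ := by rw [e5]
      _ = ⁅X ^ s, Y ^ t⁆ := by simp only [commutatorElement_def]; group
  rw [← map_zpow] at e
  exact QuotientGroup.eq.1 e

/-- The weight of a commutator is the product of the weights. -/
theorem wt_transfer {L D : Subgroup G} [D.Normal] {a : MulAut L} {x y : G} (hx : x ∈ L) (hy : y ∈ L) {s t c : ℤ}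
    (hc : (⁅x, y⁆ ^ c)⁻¹ * ev a ⁅x, y⁆ ∈ D) (hne : ⁅x, y⁆ ∉ D) (hpow : ⁅x, y⁆ ^ p ∈ D)
    (hxx : ⁅x, ⁅x, y⁆⁆ ∈ D) (hyy : ⁅y, ⁅x, y⁆⁆ ∈ D) (hry : ⁅(x ^ s)⁻¹ * ev a x, y⁆ ∈ D)
    (hrq : ⁅(x ^ s)⁻¹ * ev a x, (y ^ t)⁻¹ * ev a y⁆ ∈ D) (hxq : ⁅x, (y ^ t)⁻¹ * ev a y⁆ ∈ D) :
    (c : ZMod p) = s * t := by
  have h := comm_transfer (D := D) s t hxx hyy hry hrq hxq
  rw [mul_inv_cancel_left, mul_inv_cancel_left, ← ev_comm hx hy] at h
  by_contra hne'
  refine hne (mem_of_zpow_mem hpow (k := s * t - c) (by push_cast; exact sub_ne_zero.2 (Ne.symm hne')) ?_)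
  have := mul_mem hc (D.inv_mem h)
  rwa [mul_inv_rev, inv_inv, mul_assoc, mul_inv_cancel_left, ← zpow_neg, ← zpow_add, neg_add_eq_sub] at this

omit [Finite G] hp in
theorem unit_three : ∀ u : (ZMod 3)ˣ, u ≠ 1 → (u : ZMod 3) = -1 := by decide

/-- A good scalar. -/
theorem exists_scalar (h2 : p ≠ 2) (h7 : p ≠ 7) :
    ∃ a b : ℤ, (a : ZMod p) * b = 1 ∧ (a : ZMod p) ^ 5 ≠ 1 ∧ (p ≠ 3 → (a : ZMod p) ^ 2 ≠ 1) ∧
      (p ≠ 3 → (a : ZMod p) ^ 6 ≠ 1) ∧ (p = 3 → (a : ZMod p) = -1 ∧ (b : ZMod p) = -1) := by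
  obtain ⟨g, hg⟩ := IsCyclic.exists_generator (α := (ZMod p)ˣ)
  have ho : orderOf g = p - 1 := by
    rw [orderOf_eq_card_of_forall_mem_zpowers hg, Nat.card_eq_fintype_card, ZMod.card_units]
  obtain ⟨a, ha⟩ := ZMod.intCast_surjective (g : ZMod p)
  obtain ⟨b, hb⟩ := ZMod.intCast_surjective ((g⁻¹ : (ZMod p)ˣ) : ZMod p)
  have h3 : 3 ≤ p := by have := hp.out.two_le; omega
  obtain ⟨m, hm⟩ := hp.out.odd_of_ne_two h2
  have key : ∀ n, 0 < n → (a : ZMod p) ^ n = 1 → p - 1 ∣ n := fun n _ h => by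
    rw [← ho]; refine orderOf_dvd_of_pow_eq_one (Units.ext ?_)
    rwa [Units.val_pow_eq_pow_val, ← ha, Units.val_one]
  refine ⟨a, b, by rw [ha, hb]; exact Units.mul_inv g, fun h => ?_, fun h' h => ?_, fun h' h => ?_, fun h => ?_⟩
  · have := key 5 (by omega) h
    rcases (Nat.dvd_prime (by norm_num : Nat.Prime 5)).1 this with e | e <;> omega
  · have := Nat.le_of_dvd (by omega) (key 2 (by omega) h)
    omega
  · have h6 := key 6 (by omega) h
    have h7' : p ≤ 7 := by have := Nat.le_of_dvd (by omega) h6; omega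
    interval_cases p <;> omega
  · subst h
    have e : (g : ZMod 3) = -1 := by
      have h1 : g ≠ 1 := fun e => by rw [e, orderOf_one] at ho; omega
      exact unit_three g h1
    refine ⟨by rw [ha, e], ?_⟩
    rw [hb, show g = -1 from Units.ext e]
    simp

end Cfsg.Agent.OrderFive
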