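import Cfsg.Agent.Lib.OrderFive.Tools

/-!
# An essential subgroup of order `p²`: the series above it and extensions of automorphisms
-/

set_option autoImplicit false
set_option linter.unusedSectionVars false
set_option linter.style.haveILetI false

namespace Cfsg.Agent.OrderFive

open Cfsg Cfsg.FusionSystem Cfsg.Agent Cfsg.Agent.FusionSys Cfsg.Agent.MaxEss
open scoped commutatorElement

variable {Ω : Type*} [Group Ω] {S : Subgroup Ω} [Finite S] {F : FusionSystem S} {p : ℕ} [hp : Fact p.Prime]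

/-- The normalizer series above an essential subgroup `E` of order `p²`. -/
structure Pearl (F : FusionSystem S) (p : ℕ) (E M L1 L2 : Subgroup S) (u e z : S) : Prop where
  d : Ess F p E (Subgroup.zpowers z) u e z
  hM : M = Subgroup.normalizer ((Subgroup.normalizer (E : Set S) : Subgroup S) : Set S)
  cardM : Nat.card M = p ^ 4
  nM : M.Normal
  stepT : Step p M ⊤
  stepN : Step p (Subgroup.normalizer (E : Set S)) M
  hZ : Subgroup.center S = Subgroup.zpowers z
  zc : ∀ g, Commute z g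
  stepZ : Step p ⊥ (Subgroup.zpowers z)
  n1 : L1.Normal
  n2 : L2.Normal
  step1 : Step p (Subgroup.zpowers z) L1
  step2 : Step p L1 L2
  step1N : Step p L1 (Subgroup.normalizer (E : Set S))
  step2M : Step p L2 M
  commG1 : ∀ g : S, ∀ l ∈ L1, ⁅g, l⁆ ∈ Subgroup.zpowers z
  commG2 : ∀ g : S, ∀ l ∈ L2, ⁅g, l⁆ ∈ L1
  commGM : ∀ g : S, ∀ m ∈ M, ⁅g, m⁆ ∈ L2
  commMN : ∀ m ∈ M, ∀ n ∈ Subgroup.normalizer (E : Set S), ⁅m, n⁆ ∈ L1
  card2 : Nat.card L2 = p ^ 3
  hL1E : L1 ≠ E
  hL2N : L2 ≠ Subgroup.normalizer (E : Set S)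

variable (hS : IsPGroup p S) (hF : F.IsSaturated p)
include hS hF

omit hF in
/-- A plane with normalizer of order `p³` has a normalizer which is not normal. -/
theorem plane_not_normal (hcard : Nat.card S = p ^ 5) {Z Q N : Subgroup S} (hZ : Z.Normal) (hn : N.Normal)
    (hZQ : Step p Z Q) (hQN : Step p Q N) (hcN : Nat.card N = p ^ 3)
    (hNQ : Subgroup.normalizer (Q : Set S) ≤ N) : False := by
  obtain ⟨L, nL, hLN, hstL, hgL⟩ := exists_normal_step hS hZ hn (lt_of_lt_of_le hZQ.lt hQN.le)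
  have hstLN : Step p L N := step_of_card hS hLN (by rw [hstL.card, hQN.card, hZQ.card])
  haveI := nL
  haveI := hn
  haveI := hZ
  have hgN : ∀ g : S, ∀ x ∈ N, ⁅g, x⁆ ∈ L := fun g x hx => MaxEss.step_central hS le_top
    (Subgroup.normalizer_eq_top L).ge (Subgroup.normalizer_eq_top N).ge hLN hstLN.card g (Subgroup.mem_top g) x hx
  obtain ⟨e, he, heZ⟩ := hZQ.exists_gen (p := p)
  let q := QuotientGroup.mk' Z
  let f : S →* S ⧸ Z :=
    { toFun := fun g => q ⁅g, e⁆
      map_one' := by rw [commutatorElement_one_left, map_one]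
      map_mul' := fun g h => by
        have hc : ∀ a : S, Commute (q a) (q ⁅h, e⁆) := fun a =>
          MaxEss.mk_comm.2 (hgL a _ (hgN h e (hQN.le he)))
        rw [show ⁅g * h, e⁆ = g * ⁅h, e⁆ * g⁻¹ * ⁅g, e⁆ by simp only [commutatorElement_def]; group, map_mul,
          map_mul, map_mul, map_inv, (hc g).eq, mul_inv_cancel_right]
        exact ((hc ⁅g, e⁆).eq).symm }
  have hker : f.ker ≤ N := fun g hg => hNQ (MaxEss.mem_norm fun x hx => by
    have h1 : ⁅g, e⁆ ∈ Z := (QuotientGroup.eq_one_iff _).1 hg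
    obtain ⟨k, hk⟩ := hZQ.gen hS he heZ hx
    rw [← mul_inv_cancel_left (e ^ k) x,
      show g * (e ^ k * ((e ^ k)⁻¹ * x)) * g⁻¹ = (g * e * g⁻¹) ^ k * (g * ((e ^ k)⁻¹ * x) * g⁻¹) by
        rw [conj_zpow]; simp only [mul_assoc, inv_mul_cancel_left]]
    refine mul_mem (zpow_mem ?_ k) (hZQ.le (hZ.conj_mem _ hk g))
    have := mul_mem (hZQ.le h1) he
    rwa [commutatorElement_def, inv_mul_cancel_right] at this)
  have hr : Nat.card f.range ≤ p := by
    have hle : f.range ≤ L.map q := by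
      rintro _ ⟨g, rfl⟩
      exact ⟨_, hgN g e (hQN.le he), rfl⟩
    refine (Subgroup.card_le_of_le hle).trans (le_of_eq ?_)
    have h2 := Subgroup.relIndex_ker (f := q) (K := L)
    rw [QuotientGroup.ker_mk'] at h2
    rw [← h2]
    have h3 := Subgroup.relIndex_mul_relIndex ⊥ Z L bot_le hstL.le
    rw [Subgroup.relIndex_bot_left, Subgroup.relIndex_bot_left, hstL.card, mul_comm p] at h3
    exact Nat.eq_of_mul_eq_mul_left Nat.card_pos h3
  have h1 := f.ker.card_mul_index
  rw [Subgroup.index_ker, hcard] at h1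
  have h4 : p ^ 5 ≤ p ^ 3 * p := by
    rw [← h1]
    exact Nat.mul_le_mul (hcN ▸ Subgroup.card_le_of_le hker) hr
  rw [← pow_succ] at h4
  exact absurd ((Nat.pow_le_pow_iff_right hp.out.one_lt).1 h4) (by omega)

theorem exists_pearl (hcard : Nat.card S = p ^ 5) {E H : Subgroup S} {u e z : S} (d : Ess F p E H u e z)
    (hk : Nat.card E = p ^ 2) : ∃ M L1 L2, Pearl F p E M L1 L2 u e z := by
  set N := Subgroup.normalizer (E : Set S) with hN
  set Z := Subgroup.zpowers z with hZdef
  have hcN : Nat.card N = p ^ 3 := by rw [d.stepN.card, hk, ← pow_succ']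
  have hcZ : Nat.card Z = p := d.card_line
  have hHZ : H = Z := by
    refine (Subgroup.eq_of_le_of_card_ge (Subgroup.zpowers_le.2 d.hzH) ?_).symm
    have h := d.stepH.card
    rw [hk, sq] at h
    rw [← Nat.eq_of_mul_eq_mul_left hp.out.pos h, ← hZdef, hcZ]
  subst hHZ
  have hnt : (⊥ : Subgroup S) < Subgroup.center S := by
    haveI : Nontrivial S := Finite.one_lt_card_iff_nontrivial.1 (hcard ▸ Nat.one_lt_pow (by norm_num) hp.out.one_lt)
    haveI := hS.center_nontrivial
    exact bot_lt_iff_ne_bot.2 ((Subgroup.nontrivial_iff_ne_bot _).1 inferInstance)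
  have hZ : Subgroup.center S = Z := by
    refine Subgroup.eq_of_le_of_card_ge (fun x hx => (d.memH x).2
      ⟨center_le_essential hS hF d.ess hx, fun v _ => Subgroup.mem_center_iff.1 hx v⟩) ?_
    have := pow_le_of_lt hS hnt
    rw [Subgroup.card_bot, mul_one] at this
    exact hcZ.le.trans this
  have zc : ∀ g, Commute z g := fun g =>
    (Subgroup.mem_center_iff.1 (hZ.ge (Subgroup.mem_zpowers z)) g).symm
  haveI hZn : Z.Normal := hZ ▸ inferInstance
  have stepZ : Step p ⊥ Z := step_of_card hS bot_le (by rw [hcZ, Subgroup.card_bot, mul_one])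
  have hlt : Z < (⊤ : Subgroup S) := lt_top_iff_ne_top.2 fun h => by
    rw [h, Subgroup.card_top, hcard] at hcZ
    exact absurd (hcZ.trans (pow_one p).symm) fun h => absurd (Nat.pow_right_injective hp.out.two_le h) (by omega)
  obtain ⟨L1, n1, -, step1, hg1⟩ := exists_normal_step hS hZn inferInstance hlt
  have hZE : Z ≤ E := d.stepH.le
  have hL1N : L1 ≤ N := fun l hl => MaxEss.mem_norm fun x hx => by
    have h : ⁅l, x⁆ ∈ Z := by rw [← commutatorElement_inv]; exact inv_mem (hg1 x l hl)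
    have := mul_mem (hZE h) hx
    rwa [commutatorElement_def, inv_mul_cancel_right] at this
  have hcL1 : Nat.card L1 = p ^ 2 := by rw [step1.card, hcZ, sq]
  have step1N : Step p L1 N := step_of_card hS hL1N (by rw [hcN, hcL1, ← pow_succ'])
  have hL1E : L1 ≠ E := by
    rintro rfl
    have h1 : N = ⊤ := Subgroup.normalizer_eq_top L1
    rw [h1, Subgroup.card_top, hcard] at hcN
    exact absurd (Nat.pow_right_injective hp.out.two_le hcN) (by omega)
  obtain ⟨ee, hee, heeZ⟩ := d.stepH.exists_gen (p := p)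
  have hgen : ∀ x ∈ N, ∃ i : ℤ, (ee ^ i)⁻¹ * x ∈ L1 := fun x hx =>
    step1N.gen hS (d.stepN.le hee) (line_not_mem hS step1 d.stepH (Ne.symm hL1E) hee heeZ) hx
  -- `N` is not normal
  have hNn : ¬ N.Normal := fun hn => plane_not_normal hS hcard hZn hn d.stepH d.stepN hcN le_rfl
  set M := Subgroup.normalizer (N : Set S) with hMdef
  have hMtop : M ≠ ⊤ := fun h => hNn (Subgroup.normalizer_eq_top_iff.1 h)
  have hNtop : N ≠ ⊤ := fun h => hNn (h ▸ inferInstance)
  have hcM : Nat.card M = p ^ 4 := by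
    refine le_antisymm ?_ ?_
    · have := pow_le_of_lt hS (lt_top_iff_ne_top.2 hMtop)
      rw [Subgroup.card_top, hcard, pow_succ'] at this
      exact Nat.le_of_mul_le_mul_left this hp.out.pos
    · have := pow_le_of_lt hS (normalizer_grows hS hNtop)
      rwa [hcN, ← pow_succ'] at this
  have stepT : Step p M ⊤ := step_of_card hS le_top (by rw [Subgroup.card_top, hcard, hcM, ← pow_succ'])
  haveI nM : M.Normal := normal_of_step_top stepT
  have stepN : Step p N M := step_of_card hS Subgroup.le_normalizer (by rw [hcM, hcN, ← pow_succ'])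
  have hlt1 : L1 < (⊤ : Subgroup S) := lt_top_iff_ne_top.2 fun h => by
    rw [h, Subgroup.card_top, hcard] at hcL1
    exact absurd (Nat.pow_right_injective hp.out.two_le hcL1) (by omega)
  obtain ⟨L2, n2, -, step2, hg2⟩ := exists_normal_step hS n1 inferInstance hlt1
  have hL2M : L2 ≤ M := fun l hl => MaxEss.mem_norm fun x hx => by
    have h : ⁅l, x⁆ ∈ L1 := by rw [← commutatorElement_inv]; exact inv_mem (hg2 x l hl)
    have := mul_mem (hL1N h) hx
    rwa [commutatorElement_def, inv_mul_cancel_right] at this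
  have hcL2 : Nat.card L2 = p ^ 3 := by rw [step2.card, hcL1, ← pow_succ']
  have step2M : Step p L2 M := step_of_card hS hL2M (by rw [hcM, hcL2, ← pow_succ'])
  refine ⟨M, L1, L2, d, rfl, hcM, nM, stepT, stepN, hZ, zc, stepZ, n1, n2, step1, step2, step1N, step2M, hg1, hg2,
    fun g m hm => MaxEss.step_central hS le_top (Subgroup.normalizer_eq_top L2).ge
      (Subgroup.normalizer_eq_top M).ge hL2M step2M.card g (Subgroup.mem_top g) m hm,
    fun m hm n hn => MaxEss.step_central hS stepN.le (by rw [Subgroup.normalizer_eq_top]; exact le_top) le_rfl hL1N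
      step1N.card m hm n hn, hcL2, hL1E, fun h => hNn (by rw [hN, ← h]; exact n2)⟩

namespace Pearl

variable {E M L1 L2 : Subgroup S} {u e z : S} (c : Pearl F p E M L1 L2 u e z)
include c

omit hS hF in
theorem hcard : Nat.card S = p ^ 5 := by
  rw [← Subgroup.card_top (G := S), c.stepT.card, c.cardM, ← pow_succ']

omit hS hF in
theorem cardN : Nat.card (Subgroup.normalizer (E : Set S)) = p ^ 3 :=
  Nat.eq_of_mul_eq_mul_left hp.out.pos (by rw [← c.stepN.card, c.cardM, ← pow_succ'])

omit hS hF in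
theorem zpowers_comm {x : S} (hx : x ∈ Subgroup.zpowers z) (g : S) : Commute x g := by
  obtain ⟨i, rfl⟩ := Subgroup.mem_zpowers_iff.1 hx
  exact (c.zc g).zpow_left i

/-- An element outside `L1` of `E` moves every element of `L1` outside the line. -/
theorem not_comm {y l : S} (hy : y ∈ E) (hyz : y ∉ Subgroup.zpowers z) (hl : l ∈ L1)
    (hlz : l ∉ Subgroup.zpowers z) : ⁅l, y⁆ ≠ 1 := fun h => by
  refine line_not_mem hS c.d.stepH c.step1 c.hL1E hl hlz ?_
  refine centralizer_le hS hF c.d.ess (Subgroup.mem_centralizer_iff.2 fun x hx => ?_)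
  obtain ⟨k, hk⟩ := c.d.stepH.gen hS hy hyz hx
  rw [← mul_inv_cancel_left (y ^ k) x]
  exact (((show Commute l y from commutatorElement_eq_one_iff_mul_comm.1 h).zpow_right k).mul_right
    (c.zpowers_comm hk l).symm).eq.symm

/-- Commutators into the line only inside the normalizer. -/
theorem mem_N_of_comm {y v : S} (hy : y ∈ E) (hyz : y ∉ Subgroup.zpowers z) (h : ⁅v, y⁆ ∈ Subgroup.zpowers z) :
    v ∈ Subgroup.normalizer (E : Set S) := by
  have hZE := c.d.stepH.le
  refine MaxEss.mem_norm fun x hx => ?_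
  obtain ⟨k, hk⟩ := c.d.stepH.gen hS hy hyz hx
  rw [← mul_inv_cancel_left (y ^ k) x,
    show v * (y ^ k * ((y ^ k)⁻¹ * x)) * v⁻¹ = (v * y * v⁻¹) ^ k * (v * ((y ^ k)⁻¹ * x) * v⁻¹) by
      rw [conj_zpow]; simp only [mul_assoc, inv_mul_cancel_left]]
  refine mul_mem (zpow_mem ?_ k) (hZE ?_)
  · have := mul_mem (hZE h) hy
    rwa [commutatorElement_def, inv_mul_cancel_right] at this
  · rw [(c.zpowers_comm hk v).symm.eq, mul_inv_cancel_right]; exact hk

/-- An element mapping `y` into `L1` by commutation normalizes the normalizer. -/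
theorem mem_M_of_comm {y v : S} (hy : y ∈ E) (hyz : y ∉ Subgroup.zpowers z) (h : ⁅v, y⁆ ∈ L1) : v ∈ M := by
  rw [c.hM]
  haveI := c.n1
  have hyN := c.d.stepN.le hy
  refine MaxEss.mem_norm fun x hx => ?_
  obtain ⟨k, hk⟩ := c.step1N.gen hS hyN (line_not_mem hS c.step1 c.d.stepH (Ne.symm c.hL1E) hy hyz) hx
  rw [← mul_inv_cancel_left (y ^ k) x,
    show v * (y ^ k * ((y ^ k)⁻¹ * x)) * v⁻¹ = (v * y * v⁻¹) ^ k * (v * ((y ^ k)⁻¹ * x) * v⁻¹) by
      rw [conj_zpow]; simp only [mul_assoc, inv_mul_cancel_left]]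
  refine mul_mem (zpow_mem ?_ k) (c.step1N.le (c.n1.conj_mem _ hk v))
  have := mul_mem (c.step1N.le h) hyN
  rwa [commutatorElement_def, inv_mul_cancel_right] at this

/-- An automorphism of `E` preserving the line of `z` extends to the whole group up to `L1`. -/
theorem lift {τ : MulAut E} (hτ : τ ∈ autL F E) (hz : ev τ z ∈ Subgroup.zpowers z) :
    ∃ B ∈ autL F (⊤ : Subgroup S), B ∈ pres (Subgroup.normalizer (E : Set S)) ∧ B ∈ pres M ∧ B ∈ pres L1 ∧
      B ∈ pres L2 ∧ B ∈ pres (Subgroup.zpowers z) ∧ ev B z = ev τ z ∧ ∀ x ∈ E, (ev τ x)⁻¹ * ev B x ∈ L1 := by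
  have d := c.d
  set N := Subgroup.normalizer (E : Set S) with hN
  set Z := Subgroup.zpowers z with hZ
  have hZE : Z ≤ E := d.stepH.le
  have hline : ∀ {T : Subgroup S}, Z ≤ T → ∀ a : MulAut T, ev a z ∈ Z → a ∈ pres Z := fun {T} hT a ha =>
    mem_pres fun w hw => by
      obtain ⟨i, rfl⟩ := Subgroup.mem_zpowers_iff.1 hw
      rw [ev_zpow (hT (Subgroup.mem_zpowers z))]; exact zpow_mem ha i
  have hτZ := hline hZE τ hz
  have top_norm : ∀ A : Subgroup S, A.Normal → ∀ T : Subgroup S, T ≤ Subgroup.normalizer (A : Set S) := fun A _ T => by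
    rw [Subgroup.normalizer_eq_top]; exact le_top
  have nZ : Z.Normal := by rw [hZ, ← c.hZ]; infer_instance
  have indE : ind E ≤ stab [Z, E] := by
    refine ind_le_stab hS ?_ ?_ ?_
    · simp only [List.mem_cons, List.not_mem_nil, or_false, forall_eq_or_imp, forall_eq]
      exact ⟨hZE, le_rfl⟩
    · simp only [List.mem_cons, List.not_mem_nil, or_false, forall_eq_or_imp, forall_eq]
      exact ⟨top_norm _ nZ _, le_rfl⟩
    · simp only [List.zip_cons_cons, List.zip_nil_right, List.mem_cons, List.not_mem_nil, or_false,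
        forall_eq_or_imp, forall_eq]
      exact ⟨c.stepZ, d.stepH⟩
  obtain ⟨b1, hb1, hb1e⟩ := extend hS hF (essential_fn hS hF d.ess) (l := [Z, E])
    (by simp only [List.mem_cons, List.not_mem_nil, or_false, forall_eq_or_imp, forall_eq]; exact ⟨hZE, le_rfl⟩)
    rfl indE hτ
    (by simp only [List.mem_cons, List.not_mem_nil, or_false, forall_eq_or_imp, forall_eq]; exact ⟨hτZ, pres_self τ⟩)
  have hb1E : b1 ∈ pres E := mem_pres fun x hx => by rw [hb1e x hx]; exact ev_mem hx
  -- first step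
  have hZN : ∀ γ : MulAut N, γ ∈ pres Z := fun γ => hline (hZE.trans d.stepN.le) γ (by
    rw [← d.hz, ev_comm d.hu (d.stepN.le d.he)]
    exact d.commN _ (ev_mem d.hu) _ (ev_mem (d.stepN.le d.he)))
  have hfnN : F.IsFullyNormalized (om N) := by
    refine ⟨om_le N, fun Q hQ => ?_⟩
    obtain ⟨f, hf, rfl⟩ := exists_homG_of_isConj hQ
    rw [normalizerIn_om, normalizerIn_om, card_om, card_om, ← c.hM, c.cardM]
    have hne : Subgroup.normalizer (f.range : Set S) ≠ ⊤ := by
      intro htop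
      -- then the image of `E` would be normalized by a group of order `p⁴`
      obtain ⟨Q', hQ'⟩ : ∃ Q' : Subgroup S, Q' = (E.subgroupOf N).map f := ⟨_, rfl⟩
      have hcls : F.IsConj (om E) (om Q') := by
        have h := (hf.restrict d.stepN.le).isConj
        rwa [MonoidHom.range_comp, Subgroup.inclusion_range, ← hQ'] at h
      have hfn := d.ess.2.1.2 _ hcls
      rw [normalizerIn_om, normalizerIn_om, card_om, card_om] at hfn
      haveI : f.range.Normal := Subgroup.normalizer_eq_top_iff.1 htop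
      have hcE : Nat.card Q' = Nat.card E := by
        rw [hQ', Subgroup.card_map_of_injective (homG_injective hf),
          Nat.card_congr (Subgroup.subgroupOfEquivOfLe d.stepN.le).toEquiv]
      have hcf : Nat.card f.range = Nat.card N :=
        (Nat.card_congr (MonoidHom.ofInjective (homG_injective hf)).toEquiv).symm
      have hQf : Q' ≤ f.range := hQ' ▸ Subgroup.map_le_range f _
      have stepQ : Step p Q' f.range := step_of_card hS hQf (by rw [hcf, hcE, d.stepN.card])
      -- the normalizer of the image is the image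
      have hNQ : Subgroup.normalizer (Q' : Set S) = f.range :=
        (Subgroup.eq_of_le_of_card_ge stepQ.norm (by rw [hcf]; exact hfn)).symm
      have hcent : Subgroup.centralizer (Q' : Set S) ≤ Q' := by
        have h := d.ess.1.2 _ hcls
        rw [centralizerIn_om] at h
        exact (Subgroup.map_le_map_iff_of_injective S.subtype_injective).1 h
      have hzQ : Z ≤ Q' := fun w hw => hcent (Subgroup.mem_centralizer_iff.2 fun v _ => (c.zpowers_comm hw v).symm)
      have hcQ : Nat.card Q' = p * Nat.card Z := by rw [hcE, d.stepH.card]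
      exact plane_not_normal hS c.hcard nZ ‹f.range.Normal› (step_of_card hS hzQ hcQ) stepQ (hcf.trans c.cardN)
        hNQ.le
    have := pow_le_of_lt hS (lt_top_iff_ne_top.2 hne)
    rw [c.stepT.card, c.cardM] at this
    exact Nat.le_of_mul_le_mul_left this hp.out.pos
  obtain ⟨u2, hu2, hu2N⟩ := c.stepN.exists_gen (p := p)
  have hnormM : ∀ A : Subgroup S, A.Normal → Subgroup.normalizer (N : Set S) ≤ Subgroup.normalizer (A : Set S) :=
    fun A h => top_norm A h _
  obtain ⟨b2, hb2, γ1, hγ1, k1, hk1, hγ1E, hb2e, hγ1L⟩ := lift_step hS hF (M := N) (Φ := Z) (P := E) (L := L1)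
    hfnN (l0 := [Z]) (by simp)
    (by simp only [List.mem_cons, List.not_mem_nil, or_false, forall_eq]; exact fun a _ => hZN a)
    (by simp only [List.cons_append, List.nil_append, List.mem_cons, List.not_mem_nil, or_false, forall_eq_or_imp,
          forall_eq]
        exact ⟨hZE.trans d.stepN.le, c.step1N.le, le_rfl⟩)
    (by simp only [List.cons_append, List.nil_append, List.mem_cons, List.not_mem_nil, or_false, forall_eq_or_imp,
          forall_eq]
        exact ⟨hnormM _ nZ, hnormM _ c.n1, le_rfl⟩)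
    (by simp only [List.cons_append, List.nil_append, List.zip_cons_cons, List.zip_nil_right, List.mem_cons,
          List.not_mem_nil, or_false, forall_eq_or_imp, forall_eq]
        exact ⟨c.stepZ, c.step1, c.step1N⟩)
    d.stepH d.stepN c.step1 c.step1N ⟨u2, by rw [← c.hM]; exact hu2, hu2N⟩ hb1 hb1E
  have hb2' : ∃ b ∈ autL F M, ∀ x, ev b x = ev b2 x := by
    have aux : ∀ (T : Subgroup S), T = M → ∀ B : MulAut T, B ∈ autL F T → ∃ B' ∈ autL F M, ∀ x, ev B' x = ev B x := by
      rintro _ rfl B hB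
      exact ⟨B, hB, fun _ => rfl⟩
    exact aux _ c.hM.symm b2 hb2
  obtain ⟨b, hb, hbe⟩ := hb2'
  have hbN : b ∈ pres N := mem_pres fun x hx => by rw [hbe, hb2e x hx]; exact ev_mem (ev_mem hx)
  -- second step
  have hNM : N ≤ M := c.stepN.le
  have hcom : ∀ (γ : MulAut M) (v w : S), v ∈ M → w ∈ M → ev γ ⁅ev γ⁻¹ v, w⁆ = ⁅v, ev γ w⁆ := fun γ v w hv hw => by
    rw [ev_comm (ev_mem hv) hw, ev_cancel_inv]
  have hZM : ∀ γ : MulAut M, γ ∈ pres Z := fun γ => mem_pres fun w hw => by
    have hwM : w ∈ M := hNM (d.stepN.le (hZE hw))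
    have hcw : ∀ v ∈ M, v * ev γ w = ev γ w * v := fun v hv => by
      have h := hcom γ v w hv hwM
      rw [commutatorElement_eq_one_iff_mul_comm.2 (c.zpowers_comm hw _).symm.eq, ev_one] at h
      exact commutatorElement_eq_one_iff_mul_comm.1 h.symm
    exact (d.memH _).2 ⟨centralizer_le hS hF d.ess
      (Subgroup.mem_centralizer_iff.2 fun y hy => hcw y (hNM (d.stepN.le hy))), fun v hv => hcw v (hNM hv)⟩
  obtain ⟨ee, hee, heeZ⟩ := d.stepH.exists_gen (p := p)
  have memL1 : ∀ w ∈ M, w ∈ L1 ↔ ∀ v ∈ M, ⁅v, w⁆ ∈ Z := fun w hw => by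
    refine ⟨fun h v _ => c.commG1 v w h, fun h => ?_⟩
    have hwN : w ∈ N := c.mem_N_of_comm hS hF hee heeZ (by
      rw [← commutatorElement_inv]; exact inv_mem (h ee (hNM (d.stepN.le hee))))
    by_contra hwL
    obtain ⟨j, hj⟩ := c.step1N.gen hS hwN hwL (d.stepN.le hee)
    refine hu2N (c.mem_N_of_comm hS hF hee heeZ ?_)
    haveI := nZ
    set q := QuotientGroup.mk' Z
    refine MaxEss.mk_comm.1 ?_
    rw [← mul_inv_cancel_left (w ^ j) ee, map_mul, map_zpow]
    exact (((show Commute (q u2) (q w) from MaxEss.mk_comm.2 (h u2 hu2)).zpow_right j).mul_right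
      (MaxEss.mk_comm.2 (c.commG1 u2 _ hj))).eq
  have hL1M : ∀ γ : MulAut M, γ ∈ pres L1 := fun γ => mem_pres fun w hw => by
    have hwM : w ∈ M := hNM (c.step1N.le hw)
    refine (memL1 _ (ev_mem hwM)).2 fun v hv => ?_
    rw [← hcom γ v w hv hwM]
    exact (hZM γ _).2 ((memL1 w hwM).1 hw _ (ev_mem hv))
  obtain ⟨g, -, hgM⟩ := c.stepT.exists_gen (p := p)
  have hMn : Subgroup.normalizer (M : Set S) = ⊤ := Subgroup.normalizer_eq_top (H := M) (h := c.nM)
  obtain ⟨B2, hB2, γ2, hγ2, k2, hk2, hγ2N, hB2e, hγ2L⟩ := lift_step hS hF (M := M) (Φ := L1) (P := N) (L := L2)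
    (fn_of_normal c.nM) (l0 := [Z, L1]) (by simp)
    (by simp only [List.mem_cons, List.not_mem_nil, or_false, forall_eq_or_imp, forall_eq]
        exact ⟨fun a _ => hZM a, fun a _ => hL1M a⟩)
    (by simp only [List.cons_append, List.nil_append, List.mem_cons, List.not_mem_nil, or_false, forall_eq_or_imp,
          forall_eq]
        exact ⟨hZE.trans (d.stepN.le.trans hNM), c.step1N.le.trans hNM, c.step2M.le, le_rfl⟩)
    (by simp only [List.cons_append, List.nil_append, List.mem_cons, List.not_mem_nil, or_false, forall_eq_or_imp,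
          forall_eq]
        exact ⟨top_norm _ nZ _, top_norm _ c.n1 _, top_norm _ c.n2 _, le_rfl⟩)
    (by simp only [List.cons_append, List.nil_append, List.zip_cons_cons, List.zip_nil_right, List.mem_cons,
          List.not_mem_nil, or_false, forall_eq_or_imp, forall_eq]
        exact ⟨c.stepZ, c.step1, c.step2, c.step2M⟩)
    c.step1N c.stepN c.step2 c.step2M
    ⟨g, by rw [hMn]; exact Subgroup.mem_top g, by rw [← c.hM]; exact hgM⟩ hb hbN
  obtain ⟨B, hB, hBB⟩ : ∃ B ∈ autL F (⊤ : Subgroup S), ∀ x, ev B x = ev B2 x := by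
    have aux : ∀ (T : Subgroup S), T = ⊤ → ∀ B : MulAut T, B ∈ autL F T →
        ∃ B' ∈ autL F (⊤ : Subgroup S), ∀ x, ev B' x = ev B x := by
      rintro _ rfl B hB
      exact ⟨B, hB, fun _ => rfl⟩
    exact aux _ hMn B2 hB2
  have hBx : ∀ x ∈ M, ev B x = ev γ2 (ev b x) := fun x hx => (hBB x).trans (hB2e x hx)
  have hBN : ∀ x ∈ N, ev B x = ev γ2 (ev γ1 (ev b1 x)) := fun x hx => by
    rw [hBx x (hNM hx), hbe, hb2e x hx]
  -- `p`-elements fix the line
  have hfix : ∀ (T : Subgroup S) (γ : MulAut T) (k : ℕ), γ ^ p ^ k = 1 → Z ≤ T → γ ∈ pres Z → ∀ w ∈ Z,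
      ev γ w = w := fun T γ k hk hT hγ w hw => by
    have h := Wt.one_iff.1 (Wt.one_of_pow hS c.stepZ hT (pres_bot γ) hγ hk) w hw
    rw [Subgroup.mem_bot, inv_mul_eq_one] at h
    exact h.symm
  refine ⟨B, hB, mem_pres fun x hx => ?_, mem_pres fun x hx => ?_, mem_pres fun x hx => ?_, mem_pres fun x hx => ?_,
    hline le_top B ?_, ?_, fun x hx => ?_⟩
  · rw [hBN x hx]; exact (hγ2N _).2 (ev_mem (ev_mem hx))
  · rw [hBx x hx]; exact ev_mem (ev_mem hx)
  · rw [hBx x (hNM (c.step1N.le hx))]; exact (hL1M γ2 _).2 ((hL1M b _).2 hx)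
  · rw [hBx x (c.step2M.le hx), ← ev_comp]; exact (hγ2L x).2 hx
  · rw [hBN z (d.stepN.le (hZE (Subgroup.mem_zpowers z))), hb1e z (hZE (Subgroup.mem_zpowers z))]
    exact (hZM γ2 _).2 ((hZN γ1 _).2 hz)
  · rw [hBN z (d.stepN.le (hZE (Subgroup.mem_zpowers z))), hb1e z (hZE (Subgroup.mem_zpowers z)),
      hfix N γ1 k1 hk1 (hZE.trans d.stepN.le) (hZN γ1) _ hz,
      hfix M γ2 k2 hk2 (hZE.trans (d.stepN.le.trans hNM)) (hZM γ2) _ hz]
  · rw [hBN x (d.stepN.le hx), hb1e x hx]
    have h1 : (ev τ x)⁻¹ * ev γ1 (ev τ x) ∈ Z :=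
      Wt.one_iff.1 (Wt.one_of_pow hS d.stepH d.stepN.le (hZN γ1) hγ1E hk1) _ (ev_mem hx)
    have h2 : (ev γ1 (ev τ x))⁻¹ * ev γ2 (ev γ1 (ev τ x)) ∈ L1 :=
      Wt.one_iff.1 (Wt.one_of_pow hS c.step1N hNM (hL1M γ2) hγ2N hk2) _ (ev_mem (d.stepN.le (ev_mem hx)))
    have := mul_mem (c.step1.le h1) h2
    rwa [mul_assoc, mul_inv_cancel_left] at this

end Pearl

end Cfsg.Agent.OrderFive
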