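import Cfsg.Agent.Lib.OrderFive.PearlThree
import Cfsg.Agent.Lib.OrderFive.CubeEssential

/-!
# An abelian essential subgroup of order `p²` excludes a hyperfocal subgroup equal to `S`
-/

set_option autoImplicit false
set_option linter.unusedSectionVars false
set_option linter.style.haveILetI false

namespace Cfsg.Agent.OrderFive

open Cfsg Cfsg.FusionSystem Cfsg.Agent Cfsg.Agent.FusionSys Cfsg.Agent.MaxEss
open scoped commutatorElement

section group

variable {G : Type*} [Group G] [Finite G] {p : ℕ} [hp : Fact p.Prime]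

theorem two_cast_ne_zero (h2 : p ≠ 2) : ((2 : ℤ) : ZMod p) ≠ 0 := fun h0 => by
  rw [ZMod.intCast_zmod_eq_zero_iff_dvd] at h0
  exact h2 ((Nat.prime_dvd_prime_iff_eq hp.out Nat.prime_two).1 (Int.natCast_dvd_natCast.1 h0))

/-- Commutators in a step over a subgroup central modulo `D`. -/
theorem Step.comm_mem_of {A B D : Subgroup G} [D.Normal] (hG : IsPGroup p G) (h : Step p A B) {y : G} (hy : y ∈ B)
    (hyA : y ∉ A) (hAB : ∀ a ∈ A, ∀ b ∈ B, ⁅a, b⁆ ∈ D) : ∀ a ∈ B, ∀ b ∈ B, ⁅a, b⁆ ∈ D := by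
  intro a ha b hb
  obtain ⟨i, hi⟩ := h.gen hG hy hyA ha
  obtain ⟨j, hj⟩ := h.gen hG hy hyA hb
  have h1 := comm_transfer (D := D) (x := y) (y := y) i j (r := (y ^ i)⁻¹ * a) (q := (y ^ j)⁻¹ * b)
    (by simp) (by simp) (hAB _ hi y hy) (hAB _ hi _ (h.le hj))
    (by rw [← commutatorElement_inv]; exact inv_mem (hAB _ hj y hy))
  rwa [commutatorElement_self, one_zpow, inv_one, one_mul, mul_inv_cancel_left, mul_inv_cancel_left] at h1

end group

variable {Ω : Type*} [Group Ω] {S : Subgroup Ω} [Finite S] {F : FusionSystem S} {p : ℕ} [hp : Fact p.Prime]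
  (hS : IsPGroup p S) (hF : F.IsSaturated p)
include hS hF

/-- The third term of the series lies in the derived group. -/
theorem Pearl.L1_le_commutator {E M L1 L2 : Subgroup S} {u e z : S} (c : Pearl F p E M L1 L2 u e z) :
    L1 ≤ commutator S := by
  intro x hx
  obtain ⟨dd, hdd, hdd1⟩ := c.step2.exists_gen (p := p)
  obtain ⟨k, hk⟩ := c.step1.gen hS (c.commG2' e hdd) (c.not_line hS hF c.d.he c.d.heH hdd hdd1) hx
  have hco : ∀ a b : S, ⁅a, b⁆ ∈ commutator S := fun a b =>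
    Subgroup.commutator_mem_commutator (Subgroup.mem_top a) (Subgroup.mem_top b)
  have := mul_mem (zpow_mem (hco dd e) k) ((Subgroup.zpowers_le.2 (c.d.hz ▸ hco u e)) hk)
  rwa [mul_inv_cancel_left] at this

namespace PearlTop

variable {K L1 L2 C : Subgroup S} (t : PearlTop F p K L1 L2 C)
include t

/-- Abelian essential subgroups of order `p²` respect `K`. -/
theorem abelian_kp (hcard : Nat.card S = p ^ 5) (h2 : p ≠ 2) {Q : Subgroup S} (hQ : F.IsEssential p (om Q))
    (hab : ∀ a ∈ Q, ∀ b ∈ Q, a * b = b * a) (hexp : ∀ a ∈ Q, a ^ p = 1) (hk : Nat.card Q = p ^ 2) :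
    autL F Q ≤ kp K := by
  obtain ⟨H', u, e, z, d⟩ := exists_ess hS hF h2 hcard hQ hab hexp (Or.inl hk)
  obtain ⟨M', L1', L2', c⟩ := exists_pearl hS hF hcard d hk
  have d := c.d
  obtain ⟨α, hα, hn⟩ := d.exists_moving hS hF (Or.inl hk)
  have hLK : L1' ≤ K := (c.L1_le_commutator hS hF).trans t.hcomm
  refine d.le_kp hS hF hα hn (hLK (c.step1.le (Subgroup.mem_zpowers z))) ?_ fun β hβ hβz => ?_
  · obtain ⟨B, hB, -, -, -, -, -, -, hy, -, -, -⟩ :=
      c.exists_weights hS hF hα hn (a := -1) (b := -1) (by norm_num)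
    rw [zpow_neg_one, inv_inv] at hy
    exact mem_of_inverted hS (t.glob B hB) (Subgroup.mem_top _) h2
      (by rw [d.exp _ (ev_mem d.hzE)]; exact one_mem K) (hLK hy)
  · obtain ⟨B, hB, -, -, -, -, -, -, hBe⟩ := c.lift hS hF hβ hβz
    intro x hx
    have := mul_mem (t.glob B hB x (Subgroup.mem_top x)) (inv_mem (hLK (hBe x hx)))
    rwa [mul_inv_rev, inv_inv, mul_assoc, mul_inv_cancel_left] at this

omit hF in
theorem mem_center_of_comm {v w : S} (hv : v ∉ C) (hw : w ∈ L1) (h : v * w = w * v) :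
    w ∈ Subgroup.center S := by
  by_contra hwz
  refine hv ((t.memC v).2 fun a ha => ?_)
  obtain ⟨k, hk⟩ := t.step1.gen hS hw hwz ha
  rw [← mul_inv_cancel_left (w ^ k) a]
  exact (((show Commute v w from h).zpow_right k).mul_right (Subgroup.mem_center_iff.1 hk v)).eq.symm

omit hF in
theorem L1_le_C : L1 ≤ C := t.step2.le.trans t.step3.le

theorem L1_comm : ∀ a ∈ L1, ∀ b ∈ L1, a * b = b * a := fun a ha b hb => t.abel2 a (t.step2.le ha) b (t.step2.le hb)

theorem L1_le {Q : Subgroup S} (hQ : F.IsEssential p (om Q)) (hinvZ : autL F Q ≤ pres (Subgroup.center S)) :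
    L1 ≤ Q := fun l hl => by
  have hZQ := center_le_essential hS hF hQ
  have h1 : ∀ x : S, ⁅l, x⁆ ∈ Subgroup.center S := fun x => by
    rw [← commutatorElement_inv]; exact inv_mem (t.comm1 x l hl)
  have hn : ∀ x : S, x ∈ Subgroup.normalizer (Subgroup.center S : Set S) := fun x => by
    rw [Subgroup.normalizer_eq_top]; exact Subgroup.mem_top x
  refine mem_of_stab hS hF hQ (l := [Subgroup.center S, Q]) ?_ rfl ?_ (MaxEss.mem_norm fun x hx => ?_) ?_
  · simp only [List.mem_cons, List.not_mem_nil, or_false, forall_eq_or_imp, forall_eq]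
    exact ⟨hZQ, le_rfl⟩
  · simp only [List.mem_cons, List.not_mem_nil, or_false, forall_eq_or_imp, forall_eq]
    exact ⟨hinvZ, fun a _ => pres_self a⟩
  · have := mul_mem (hZQ (h1 x)) hx
    rwa [commutatorElement_def, inv_mul_cancel_right] at this
  · simp only [List.zip_cons_cons, List.zip_nil_right, List.mem_cons, List.not_mem_nil, or_false, forall_eq_or_imp,
      forall_eq]
    exact ⟨fun y hy => by
        rw [Subgroup.mem_center_iff.1 hy l, mul_inv_cancel_right, inv_mul_cancel]; exact one_mem _,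
      fun y _ => shift_mem (hn y) (h1 y)⟩

/-- There is no nonabelian essential subgroup of order `p³`. -/
theorem not_small (hcard : Nat.card S = p ^ 5) (h2 : p ≠ 2) {Q : Subgroup S} (hQ : F.IsEssential p (om Q))
    (hab : ¬ ∀ a ∈ Q, ∀ b ∈ Q, a * b = b * a) (hk : Nat.card Q = p ^ 3) : False := by
  set Z := Subgroup.center S with hZd
  have hinvZ := nonabelian_pres hS hF hcard hQ hab
  have h1Q := t.L1_le hS hF hQ hinvZ
  have hZQ : Z ≤ Q := t.step1.le.trans h1Q
  haveI := t.n1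
  haveI := t.n2
  have hnA : ∀ (A : Subgroup S), A.Normal → ∀ x : S, x ∈ Subgroup.normalizer (A : Set S) := fun A _ x => by
    rw [Subgroup.normalizer_eq_top]; exact Subgroup.mem_top x
  have hcZ : Nat.card Z = p := by rw [t.stepZ.card, Subgroup.card_bot, mul_one]
  have hc1 : Nat.card L1 = p ^ 2 := by rw [t.step1.card, hcZ, sq]
  have hc2 : Nat.card L2 = p ^ 3 := by rw [t.step2.card, hc1, ← pow_succ']
  have st1Q : Step p L1 Q := step_of_card hS h1Q (by rw [hk, hc1, ← pow_succ'])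
  obtain ⟨l, hl, hlz⟩ := t.step1.exists_gen (p := p)
  obtain ⟨d, hd, hd1⟩ := t.step2.exists_gen (p := p)
  -- `Q` meets `C` in `L1`
  have hQC : ∀ w ∈ Q, w ∈ C → w ∈ L1 := by
    intro w hw hwC
    by_contra hw1
    have hA := comm_sup_zpowers (A := L1) (x := w) (t.L1_comm hS hF) fun a ha => ((t.memC w).1 hwC a ha).symm
    have htop : Q ≤ L1 ⊔ Subgroup.zpowers w := ((st1Q.eq_of_between (C := L1 ⊔ Subgroup.zpowers w) le_sup_left
      (sup_le h1Q (Subgroup.zpowers_le.2 hw))).resolve_left fun h =>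
        hw1 (h.le (Subgroup.mem_sup_right (Subgroup.mem_zpowers w)))).ge
    exact hab fun a ha b hb => hA a (htop ha) b (htop hb)
  have hdQ : d ∉ Q := fun h => hd1 (hQC d h (t.step3.le hd))
  have h2N : L2 ≤ Subgroup.normalizer (Q : Set S) := fun w hw => MaxEss.mem_norm fun x hx => by
    have h : ⁅w, x⁆ ∈ L1 := by rw [← commutatorElement_inv]; exact inv_mem (t.comm2 x w hw)
    have := mul_mem (h1Q h) hx
    rwa [commutatorElement_def, inv_mul_cancel_right] at this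
  set τ : MulAut Q := Q.normalizerMonoidHom ⟨d, h2N hd⟩ with hτd
  have hτA : τ ∈ autL F Q := ind_le Q ⟨_, rfl⟩
  have hev : ∀ w ∈ Q, ev τ w = d * w * d⁻¹ := fun w hw => ev_conj _ hw
  have hfix : ∀ w ∈ L1, ev τ w = w := fun w hw => by
    rw [hev w (h1Q hw), t.abel2 d hd w (t.step2.le hw), mul_inv_cancel_right]
  have htrans : ∀ w ∈ Q, w ∉ L1 → ∃ m : ℤ, (m : ZMod p) ≠ 0 ∧ (w * l ^ m)⁻¹ * ev τ w ∈ Z := by
    intro w hw hw1
    have h1 : w⁻¹ * ev τ w ∈ L1 := by
      rw [hev w hw, show w⁻¹ * (d * w * d⁻¹) = ⁅w⁻¹, d⁆ by simp only [commutatorElement_def, inv_inv, mul_assoc]]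
      exact t.comm2 _ d hd
    obtain ⟨m, hm⟩ := t.step1.gen hS hl hlz h1
    refine ⟨m, fun h0 => ?_, by rw [mul_inv_rev, mul_assoc]; exact hm⟩
    refine t.out1 w⁻¹ (fun h => hw1 (hQC w hw (inv_mem_iff.1 h))) d hd hd1 ?_
    have := mul_mem (zpow_mem_of_cast (t.step1.pow_mem hS hl) h0) hm
    rwa [mul_inv_cancel_left, hev w hw,
      show w⁻¹ * (d * w * d⁻¹) = ⁅w⁻¹, d⁆ by simp only [commutatorElement_def, inv_inv, mul_assoc]] at this
  -- some automorphism moves `L1`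
  obtain ⟨α, hα, hα1⟩ : ∃ α ∈ autL F Q, α ∉ pres L1 := by
    by_contra! hall
    refine no_cyclic_series hS hF hQ (l := [Z, L1, Q]) rfl ?_ ?_ ?_ ?_
    · simp only [List.mem_cons, List.not_mem_nil, or_false, forall_eq_or_imp, forall_eq]
      exact ⟨fun x _ => hnA Z inferInstance x, fun x _ => hnA L1 t.n1 x, Subgroup.le_normalizer⟩
    · simp only [List.mem_cons, List.not_mem_nil, or_false, forall_eq_or_imp, forall_eq]
      exact ⟨hZQ, h1Q, le_rfl⟩
    · simp only [List.mem_cons, List.not_mem_nil, or_false, forall_eq_or_imp, forall_eq]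
      exact ⟨hinvZ, hall, fun a _ => pres_self a⟩
    · simp only [List.zip_cons_cons, List.zip_nil_right, List.mem_cons, List.not_mem_nil, or_false, forall_eq_or_imp,
        forall_eq]
      exact ⟨t.stepZ, t.step1, st1Q⟩
  have hlQ := h1Q hl
  have hmap : ∀ γ ∈ autL F Q, ev γ l ∈ L1 → γ ∈ pres L1 := fun γ hγ h => mem_pres fun w hw => by
    obtain ⟨i, hi⟩ := t.step1.gen hS hl hlz hw
    rw [← mul_inv_cancel_left (l ^ i) w, ev_mul (zpow_mem hlQ i) (hZQ hi), ev_zpow hlQ]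
    exact mul_mem (zpow_mem h i) (t.step1.le ((hinvZ hγ _).2 hi))
  have hα' : ev α⁻¹ l ∉ L1 := fun h => hα1 (inv_mem_iff.1 (hmap _ (Subgroup.inv_mem _ hα) h))
  obtain ⟨y, hy⟩ : ∃ y, ev α l = y := ⟨_, rfl⟩
  have hyQ : y ∈ Q := hy ▸ ev_mem hlQ
  have hy1 : y ∉ L1 := fun h => hα1 (hmap α hα (hy ▸ h))
  have hyC : y ∉ C := fun h => hy1 (hQC y hyQ h)
  have hQQ : ∀ a ∈ Q, ∀ b ∈ Q, ⁅a, b⁆ ∈ Z := st1Q.comm_mem_of hS hyQ hy1 fun a ha b _ => by
    rw [← commutatorElement_inv]; exact inv_mem (t.comm1 b a ha)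
  set b : MulAut Q := α * τ * α⁻¹ with hbd
  have hbA : b ∈ autL F Q := mul_mem (mul_mem hα hτA) (Subgroup.inv_mem _ hα)
  have hevb : ∀ w, ev b w = ev α (ev τ (ev α⁻¹ w)) := fun w => by rw [hbd, ev_comp, ev_comp]
  obtain ⟨e, he, hay⟩ := htrans y hyQ hy1
  obtain ⟨e', he', hbz0⟩ := htrans (ev α⁻¹ l) (ev_mem hlQ) hα'
  have hby : y⁻¹ * ev b y ∈ Z := by
    rw [← hy, hevb, ev_inv_cancel, hfix l hl, inv_mul_cancel]; exact one_mem _
  have hbz : (l * y ^ e')⁻¹ * ev b l ∈ Z := by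
    have h := (hinvZ hα _).2 hbz0
    rwa [ev_mul (inv_mem (mul_mem (ev_mem hlQ) (zpow_mem hlQ _))) (ev_mem (ev_mem hlQ)),
      ev_inv (mul_mem (ev_mem hlQ) (zpow_mem hlQ _)), ev_mul (ev_mem hlQ) (zpow_mem hlQ _), ev_zpow hlQ,
      ev_cancel_inv, hy, ← hevb] at h
  have hlp : l ^ p ∈ Z := t.step1.pow_mem hS hl
  have hyp : y ^ p ∈ Z := hy ▸ ev_pow hlQ (a := α) p ▸ (hinvZ hα _).2 hlp
  obtain ⟨h, hh, hhl, -⟩ := torus (M := Q) (D := Z) hZQ (fun x _ => hnA Z inferInstance x) hQQ hlQ hyQ hlp hyp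
    (hinvZ hτA) (hinvZ hbA) he he' (by rw [hfix l hl, inv_mul_cancel]; exact one_mem _) hay hby hbz
    (c := -1) (d := -1) (by norm_num)
  rw [zpow_neg_one, inv_inv] at hhl
  have hhA : h ∈ autL F Q := (Subgroup.closure_le _).2 (Set.pair_subset hτA hbA) hh
  have hh1 : h ∈ pres L1 := hmap h hhA (by
    have := mul_mem (inv_mem hl) (t.step1.le hhl)
    rwa [inv_mul_cancel_left] at this)
  -- the normalizer
  set M' := Subgroup.normalizer (Q : Set S) with hM'
  have hQn : ¬ Q.Normal := fun hn => by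
    obtain ⟨g, hg, hg2⟩ := t.step3.exists_gen (p := p)
    refine t.out3 y hyC g hg hg2 ?_
    rw [← commutatorElement_inv]
    exact inv_mem (MaxEss.step_central hS le_top (Subgroup.normalizer_eq_top L1).ge
      (Subgroup.normalizer_eq_top_iff.2 hn).ge h1Q st1Q.card g (Subgroup.mem_top g) y hyQ)
  have hcM : Nat.card M' = p ^ 4 := by
    refine le_antisymm ?_ ?_
    · have := pow_le_of_lt hS (lt_top_iff_ne_top.2 fun h : M' = ⊤ => hQn (Subgroup.normalizer_eq_top_iff.1 h))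
      rw [Subgroup.card_top, hcard, pow_succ'] at this
      exact Nat.le_of_mul_le_mul_left this hp.out.pos
    · have := pow_le_of_lt hS (normalizer_grows hS (essential_ne_top hS hF hQ))
      rwa [hk, ← pow_succ'] at this
  have stM : Step p M' ⊤ := step_of_card hS le_top (by rw [Subgroup.card_top, hcard, hcM, ← pow_succ'])
  have stQM : Step p Q M' := step_of_card hS Subgroup.le_normalizer (by rw [hcM, hk, ← pow_succ'])
  have st2M : Step p L2 M' := step_of_card hS h2N (by rw [hcM, hc2, ← pow_succ'])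
  haveI nM : M'.Normal := normal_of_step_top stM
  have hdM : d ∈ M' := h2N hd
  have hQM : Q ≤ M' := stQM.le
  have hinvMZ : ∀ a : MulAut M', a ∈ pres Z := fun a => mem_pres fun w hw => by
    have hwM : w ∈ M' := hQM (hZQ hw)
    have hcom : ∀ v ∈ M', v * ev a w = ev a w * v := fun v hv => by
      have h := congrArg (ev a) (Subgroup.mem_center_iff.1 hw (ev a⁻¹ v))
      rwa [ev_mul (ev_mem hv) hwM, ev_mul hwM (ev_mem hv), ev_cancel_inv] at h
    have hwQ : ev a w ∈ Q :=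
      centralizer_le hS hF hQ (Subgroup.mem_centralizer_iff.2 fun v hv => hcom v (hQM hv))
    have hw1 : ev a w ∈ L1 := by
      by_contra h1
      refine t.out1 _ (fun h => h1 (hQC _ hwQ h)) d hd hd1 ?_
      rw [commutatorElement_eq_one_iff_mul_comm.2 (hcom d hdM).symm]; exact one_mem _
    exact t.mem_center_of_comm hS hyC hw1 (hcom y (hQM hyQ))
  have hinvM1 : ∀ a : MulAut M', a ∈ pres L1 := fun a => mem_pres fun w hw => by
    have hwM : w ∈ M' := hQM (h1Q hw)
    have hcom : ∀ v ∈ M', ⁅v, ev a w⁆ ∈ Z := fun v hv => by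
      have h := (hinvMZ a _).2 (t.comm1 (ev a⁻¹ v) w hw)
      rwa [ev_comm (ev_mem hv) hwM, ev_cancel_inv] at h
    have hwQ : ev a w ∈ Q := by
      refine mem_of_stab hS hF hQ (l := [Z, Q]) ?_ rfl ?_ (ev_mem hwM) ?_
      · simp only [List.mem_cons, List.not_mem_nil, or_false, forall_eq_or_imp, forall_eq]
        exact ⟨hZQ, le_rfl⟩
      · simp only [List.mem_cons, List.not_mem_nil, or_false, forall_eq_or_imp, forall_eq]
        exact ⟨hinvZ, fun a _ => pres_self a⟩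
      · simp only [List.zip_cons_cons, List.zip_nil_right, List.mem_cons, List.not_mem_nil, or_false,
          forall_eq_or_imp, forall_eq]
        exact ⟨fun v hv => by
            rw [Subgroup.mem_center_iff.1 hv (ev a w), mul_inv_cancel_right, inv_mul_cancel]; exact one_mem _,
          fun v hv => shift_mem (hnA Z inferInstance v) (by
            rw [← commutatorElement_inv]; exact inv_mem (hcom v (hQM hv)))⟩
    by_contra h1
    refine t.out1 _ (fun h => h1 (hQC _ hwQ h)) d hd hd1 ?_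
    rw [← commutatorElement_inv]; exact inv_mem (hcom d hdM)
  -- extend to the whole group
  have hle3 : ∀ A ∈ [Z, L1, Q], A ≤ Q := by
    simp only [List.mem_cons, List.not_mem_nil, or_false, forall_eq_or_imp, forall_eq]
    exact ⟨hZQ, h1Q, le_rfl⟩
  have hind : ind Q ≤ stab [Z, L1, Q] := by
    refine ind_le_stab hS hle3 ?_ ?_
    · simp only [List.mem_cons, List.not_mem_nil, or_false, forall_eq_or_imp, forall_eq]
      exact ⟨fun x _ => hnA Z inferInstance x, fun x _ => hnA L1 t.n1 x, le_rfl⟩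
    · simp only [List.zip_cons_cons, List.zip_nil_right, List.mem_cons, List.not_mem_nil, or_false,
        forall_eq_or_imp, forall_eq]
      exact ⟨t.stepZ, t.step1, st1Q⟩
  obtain ⟨b1, hb1, hb1e⟩ := extend hS hF (essential_fn hS hF hQ) hle3 rfl hind hhA (by
    simp only [List.mem_cons, List.not_mem_nil, or_false, forall_eq_or_imp, forall_eq]
    exact ⟨hinvZ hhA, hh1, pres_self h⟩)
  have hb1Q : b1 ∈ pres Q := mem_pres fun x hx => by rw [hb1e x hx]; exact ev_mem hx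
  have hMn : Subgroup.normalizer (M' : Set S) = ⊤ := Subgroup.normalizer_eq_top M'
  obtain ⟨g, -, hgM⟩ := stM.exists_gen (p := p)
  obtain ⟨B2, hB2, γ, -, k, hk', hγQ, hB2e, -⟩ := lift_step hS hF (M := M') (Φ := L1) (P := Q) (L := L2)
    (fn_of_normal nM) (l0 := [Z, L1]) (by simp)
    (by simp only [List.mem_cons, List.not_mem_nil, or_false, forall_eq_or_imp, forall_eq]
        exact ⟨fun a _ => hinvMZ a, fun a _ => hinvM1 a⟩)
    (by simp only [List.cons_append, List.nil_append, List.mem_cons, List.not_mem_nil, or_false, forall_eq_or_imp,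
          forall_eq]
        exact ⟨hZQ.trans hQM, h1Q.trans hQM, st2M.le, le_rfl⟩)
    (by simp only [List.cons_append, List.nil_append, List.mem_cons, List.not_mem_nil, or_false, forall_eq_or_imp,
          forall_eq]
        exact ⟨fun x _ => hnA Z inferInstance x, fun x _ => hnA L1 t.n1 x, fun x _ => hnA L2 t.n2 x, le_rfl⟩)
    (by simp only [List.cons_append, List.nil_append, List.zip_cons_cons, List.zip_nil_right, List.mem_cons,
          List.not_mem_nil, or_false, forall_eq_or_imp, forall_eq]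
        exact ⟨t.stepZ, t.step1, t.step2, st2M⟩)
    st1Q stQM t.step2 st2M ⟨g, by rw [hMn]; exact Subgroup.mem_top g, hgM⟩ hb1 hb1Q
  obtain ⟨B, hB, hBB⟩ : ∃ B ∈ autL F (⊤ : Subgroup S), ∀ x, ev B x = ev B2 x := by
    have aux : ∀ (T : Subgroup S), T = ⊤ → ∀ B : MulAut T, B ∈ autL F T →
        ∃ B' ∈ autL F (⊤ : Subgroup S), ∀ x, ev B' x = ev B x := by
      rintro _ rfl B hB
      exact ⟨B, hB, fun _ => rfl⟩
    exact aux _ hMn B2 hB2
  have hhl1 : ev h l ∈ L1 := (hh1 l).2 hl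
  have h1 : (ev h l)⁻¹ * ev B l ∈ Z := by
    rw [hBB, hB2e l (hQM hlQ), hb1e l hlQ]
    exact Wt.one_iff.1 (Wt.one_of_pow hS t.step1 (h1Q.trans hQM) (hinvMZ γ) (hinvM1 γ) hk') _ hhl1
  have h3 := mul_mem (mul_mem hhl h1) (inv_mem (t.fix1 B hB l hl))
  rw [mul_inv_rev, inv_inv, mul_assoc l, mul_inv_cancel_left, mul_assoc, mul_inv_cancel_left, ← zpow_two] at h3
  exact hlz (mem_of_zpow_mem hlp (two_cast_ne_zero h2) h3)

/-- There is no nonabelian essential subgroup of order `p⁴`. -/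
theorem not_big (hcard : Nat.card S = p ^ 5) (h2 : p ≠ 2) {Q : Subgroup S} (hQ : F.IsEssential p (om Q))
    (hab : ¬ ∀ a ∈ Q, ∀ b ∈ Q, a * b = b * a) (hk : Nat.card Q = p ^ 4) : False := by
  set Z := Subgroup.center S with hZd
  have hinvZ := nonabelian_pres hS hF hcard hQ hab
  have h1Q := t.L1_le hS hF hQ hinvZ
  have hZQ : Z ≤ Q := t.step1.le.trans h1Q
  haveI := t.n1
  haveI := t.n2
  have stQ : Step p Q ⊤ := step_of_card hS le_top (by rw [Subgroup.card_top, hcard, hk, ← pow_succ'])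
  haveI hQn : Q.Normal := normal_of_step_top stQ
  have h2Q : L2 ≤ Q := by
    rw [← t.derived, commutator_def, Subgroup.commutator_le]
    exact fun a _ b _ => stQ.comm_mem hS (Subgroup.mem_top a) (Subgroup.mem_top b)
  have hnA : ∀ (A : Subgroup S), A.Normal → ∀ x : S, x ∈ Subgroup.normalizer (A : Set S) := fun A _ x => by
    rw [Subgroup.normalizer_eq_top]; exact Subgroup.mem_top x
  have hcZ : Nat.card Z = p := by rw [t.stepZ.card, Subgroup.card_bot, mul_one]
  have hc2 : Nat.card L2 = p ^ 3 := by rw [t.step2.card, t.step1.card, hcZ, ← sq, ← pow_succ']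
  have st2Q : Step p L2 Q := step_of_card hS h2Q (by rw [hk, hc2, ← pow_succ'])
  obtain ⟨d, hd, hd1⟩ := t.step2.exists_gen (p := p)
  have hdQ := h2Q hd
  have series : (autL F Q ≤ pres L1) → (autL F Q ≤ pres L2) → False := fun i1 i2 => by
    refine no_cyclic_series hS hF hQ (l := [Z, L1, L2, Q]) rfl ?_ ?_ ?_ ?_
    · simp only [List.mem_cons, List.not_mem_nil, or_false, forall_eq_or_imp, forall_eq]
      exact ⟨fun x _ => hnA Z inferInstance x, fun x _ => hnA L1 t.n1 x, fun x _ => hnA L2 t.n2 x,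
        Subgroup.le_normalizer⟩
    · simp only [List.mem_cons, List.not_mem_nil, or_false, forall_eq_or_imp, forall_eq]
      exact ⟨hZQ, h1Q, h2Q, le_rfl⟩
    · simp only [List.mem_cons, List.not_mem_nil, or_false, forall_eq_or_imp, forall_eq]
      exact ⟨hinvZ, i1, i2, fun a _ => pres_self a⟩
    · simp only [List.zip_cons_cons, List.zip_nil_right, List.mem_cons, List.not_mem_nil, or_false, forall_eq_or_imp,
        forall_eq]
      exact ⟨t.stepZ, t.step1, t.step2, st2Q⟩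
  by_cases hQC : Q ≤ C
  swap
  · -- all terms are invariant
    obtain ⟨y, hyQ, hyC⟩ := SetLike.not_le_iff_exists.1 hQC
    have hin : ∀ w ∈ Q, w ∈ C → w ∈ L2 := fun w hw hwC => by
      rcases st2Q.eq_of_between (C := Q ⊓ C) (le_inf h2Q t.step3.le) inf_le_left with h | h
      · exact h.le ⟨hw, hwC⟩
      · exact absurd ((inf_le_right : Q ⊓ C ≤ C) (h.ge hyQ)) hyC
    have i1 : autL F Q ≤ pres L1 := fun a ha => mem_pres fun w hw => by
      have hcom : ∀ v ∈ Q, ⁅v, ev a w⁆ ∈ Z := fun v hv => by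
        have h := (hinvZ ha _).2 (t.comm1 (ev a⁻¹ v) w hw)
        rwa [ev_comm (ev_mem hv) (h1Q hw), ev_cancel_inv] at h
      by_contra h1
      by_cases hC' : ev a w ∈ C
      · exact t.out1 y hyC _ (hin _ (ev_mem (h1Q hw)) hC') h1 (hcom y hyQ)
      · refine t.out1 _ hC' d hd hd1 ?_
        rw [← commutatorElement_inv]; exact inv_mem (hcom d hdQ)
    refine series i1 fun a ha => mem_pres fun w hw => hin _ (ev_mem (h2Q hw)) ((t.memC _).2 fun v hv => ?_)
    have hv' : ev a⁻¹ v ∈ L1 := (inv_mem (i1 ha) v).2 hv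
    have h := congrArg (ev a) (t.abel2 _ (t.step2.le hv') w hw)
    rwa [ev_mul (h1Q hv') (h2Q hw), ev_mul (h2Q hw) (h1Q hv'), ev_cancel_inv] at h
  -- the centre of `Q` is `L1`
  have hQeq : Q = C := Subgroup.eq_of_le_of_card_ge hQC (by rw [hk, t.step3.card, hc2, ← pow_succ'])
  obtain ⟨g, hg, hg2⟩ := t.step3.exists_gen (p := p)
  have i1 : ∀ a : MulAut Q, a ∈ pres L1 := fun a => mem_pres fun w hw => by
    have hwQ := ev_mem (a := a) (h1Q hw)
    have hcom : ∀ v ∈ Q, v * ev a w = ev a w * v := fun v hv => by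
      have h := congrArg (ev a) ((t.memC _).1 (hQC (ev_mem (a := a⁻¹) hv)) w hw).symm
      rwa [ev_mul (ev_mem hv) (h1Q hw), ev_mul (h1Q hw) (ev_mem hv), ev_cancel_inv] at h
    by_contra h1
    by_cases h2' : ev a w ∈ L2
    · exact t.move g hg hg2 _ h2' h1 (commutatorElement_eq_one_iff_mul_comm.2 (hcom g (hQeq ▸ hg)))
    · exact t.move _ (hQC hwQ) h2' d hd hd1 (commutatorElement_eq_one_iff_mul_comm.2 (hcom d hdQ).symm)
  obtain ⟨α, hα, hα2⟩ : ∃ α ∈ autL F Q, α ∉ pres L2 := by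
    by_contra! hall
    exact series (fun a _ => i1 a) hall
  have hmap : ∀ γ : MulAut Q, ev γ d ∈ L2 → γ ∈ pres L2 := fun γ h => mem_pres fun w hw => by
    obtain ⟨i, hi⟩ := t.step2.gen hS hd hd1 hw
    rw [← mul_inv_cancel_left (d ^ i) w, ev_mul (zpow_mem hdQ i) (h1Q hi), ev_zpow hdQ]
    exact mul_mem (zpow_mem h i) (t.step2.le ((i1 γ _).2 hi))
  have hα' : ev α⁻¹ d ∉ L2 := fun h => hα2 (inv_mem_iff.1 (hmap _ h))
  obtain ⟨y, hy⟩ : ∃ y, ev α d = y := ⟨_, rfl⟩
  have hyQ : y ∈ Q := hy ▸ ev_mem hdQ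
  have hy2 : y ∉ L2 := fun h => hα2 (hmap α (hy ▸ h))
  have hQQ : ∀ a ∈ Q, ∀ b ∈ Q, ⁅a, b⁆ ∈ Z := st2Q.comm_mem_of hS hyQ hy2 fun a ha b hb => by
    rw [← commutatorElement_inv]; exact inv_mem (t.commC b (hQC hb) a ha)
  obtain ⟨x, -, hxC⟩ := t.stepT.exists_gen (p := p)
  set τ : MulAut Q := Q.normalizerMonoidHom ⟨x, hnA Q hQn x⟩ with hτd
  have hτA : τ ∈ autL F Q := ind_le Q ⟨_, rfl⟩
  have hev : ∀ w ∈ Q, ev τ w = x * w * x⁻¹ := fun w hw => ev_conj _ hw
  have htrans : ∀ w ∈ Q, w ∉ L2 → ∃ m : ℤ, (m : ZMod p) ≠ 0 ∧ (w * d ^ m)⁻¹ * ev τ w ∈ L1 := by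
    intro w hw hw2
    have h0 : w⁻¹ * ev τ w = w⁻¹ * ⁅x, w⁆ * w := by rw [hev w hw, commutatorElement_def]; group
    have hco : ⁅x, w⁆ ∈ L2 := t.derived.le
      (Subgroup.commutator_mem_commutator (Subgroup.mem_top x) (Subgroup.mem_top w))
    have h1 : w⁻¹ * ev τ w ∈ L2 := by rw [h0]; simpa using t.n2.conj_mem _ hco w⁻¹
    obtain ⟨m, hm⟩ := t.step2.gen hS hd hd1 h1
    refine ⟨m, fun hm0 => ?_, by rw [mul_inv_rev, mul_assoc]; exact hm⟩
    refine t.out3 x hxC w (hQC hw) hw2 ?_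
    have := mul_mem (zpow_mem_of_cast (t.step2.pow_mem hS hd) hm0) hm
    rw [mul_inv_cancel_left, h0] at this
    have := t.n1.conj_mem _ this w
    simpa only [mul_assoc, mul_inv_cancel, mul_one, mul_inv_cancel_left] using this
  set b : MulAut Q := α * τ * α⁻¹ with hbd
  have hbA : b ∈ autL F Q := mul_mem (mul_mem hα hτA) (Subgroup.inv_mem _ hα)
  have hevb : ∀ w, ev b w = ev α (ev τ (ev α⁻¹ w)) := fun w => by rw [hbd, ev_comp, ev_comp]
  obtain ⟨e, he, hay⟩ := htrans y hyQ hy2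
  obtain ⟨e', he', hbz0⟩ := htrans (ev α⁻¹ d) (ev_mem hdQ) hα'
  have haz : d⁻¹ * ev τ d ∈ L1 := by rw [hev d hdQ]; exact shift_mem (hnA L1 t.n1 d) (t.comm2 x d hd)
  have hby : y⁻¹ * ev b y ∈ L1 := by
    rw [← hy, hevb, ev_inv_cancel, ← ev_inv hdQ, ← ev_mul (inv_mem hdQ) (ev_mem hdQ)]
    exact (i1 α _).2 haz
  have hbz : (d * y ^ e')⁻¹ * ev b d ∈ L1 := by
    have h := (i1 α _).2 hbz0
    rwa [ev_mul (inv_mem (mul_mem (ev_mem hdQ) (zpow_mem hdQ _))) (ev_mem (ev_mem hdQ)),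
      ev_inv (mul_mem (ev_mem hdQ) (zpow_mem hdQ _)), ev_mul (ev_mem hdQ) (zpow_mem hdQ _), ev_zpow hdQ,
      ev_cancel_inv, hy, ← hevb] at h
  have hdp : d ^ p ∈ L1 := t.step2.pow_mem hS hd
  have hyp : y ^ p ∈ L1 := hy ▸ ev_pow hdQ (a := α) p ▸ (i1 α _).2 hdp
  obtain ⟨h, hh, hhd, hhy⟩ := torus (M := Q) (D := L1) h1Q (fun w _ => hnA L1 t.n1 w)
    (fun a ha b hb => t.step1.le (hQQ a ha b hb)) hdQ hyQ hdp hyp (i1 τ) (i1 b) he he' haz hay hby hbz
    (c := -1) (d := -1) (by norm_num)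
  rw [zpow_neg_one, inv_inv] at hhd hhy
  have hhA : h ∈ autL F Q := (Subgroup.closure_le _).2 (Set.pair_subset hτA hbA) hh
  -- trivial action on `L1` modulo `Z` and on `Z`
  have hτs : τ ∈ stab [Z, L1] := by
    refine ⟨?_, ?_⟩
    · simp only [List.mem_cons, List.not_mem_nil, or_false, forall_eq_or_imp, forall_eq]
      exact ⟨hinvZ hτA, i1 τ⟩
    · simp only [List.zip_cons_cons, List.zip_nil_right, List.mem_cons, List.not_mem_nil, or_false, forall_eq_or_imp,
        forall_eq]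
      exact ⟨fun w hw => by
          rw [hev w (hZQ hw), Subgroup.mem_center_iff.1 hw x, mul_inv_cancel_right, inv_mul_cancel]; exact one_mem _,
        fun w hw => by rw [hev w (h1Q hw)]; exact shift_mem (hnA Z inferInstance w) (t.comm1 x w hw)⟩
  have hle2 : ∀ A ∈ [Z, L1], A ≤ Q := by
    simp only [List.mem_cons, List.not_mem_nil, or_false, forall_eq_or_imp, forall_eq]
    exact ⟨hZQ, h1Q⟩
  have hbs : b ∈ stab [Z, L1] := conj_stab hle2 hτs fun A hA => by
    simp only [List.mem_cons, List.not_mem_nil, or_false] at hA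
    rcases hA with rfl | rfl
    · exact hinvZ hα
    · exact i1 α
  have hhs : h ∈ stab [Z, L1] := (Subgroup.closure_le _).2 (Set.pair_subset hτs hbs) hh
  -- the torus inverts `Q` modulo `L1`
  have hinv : ∀ w ∈ Q, w * ev h w ∈ L1 := by
    intro w hw
    obtain ⟨i, hi⟩ := st2Q.gen hS hyQ hy2 hw
    obtain ⟨j, hj⟩ := t.step2.gen hS hd hd1 hi
    set q := QuotientGroup.mk' L1
    have e1 : q (ev h d) = (q d)⁻¹ := by
      rw [eq_inv_iff_mul_eq_one, mul_eq_one_comm, ← map_mul]; exact (QuotientGroup.eq_one_iff _).2 hhd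
    have e2 : q (ev h y) = (q y)⁻¹ := by
      rw [eq_inv_iff_mul_eq_one, mul_eq_one_comm, ← map_mul]; exact (QuotientGroup.eq_one_iff _).2 hhy
    have hyc : Commute (q y) (q d) := MaxEss.mk_comm.2 (t.step1.le (hQQ y hyQ d hdQ))
    obtain ⟨d', hd'⟩ : ∃ d', (d ^ j)⁻¹ * ((y ^ i)⁻¹ * w) = d' := ⟨_, rfl⟩
    rw [hd'] at hj
    have hw' : w = y ^ i * d ^ j * d' := by
      rw [← hd', mul_assoc, mul_inv_cancel_left, mul_inv_cancel_left]
    refine (QuotientGroup.eq_one_iff _).1 ?_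
    show q (w * ev h w) = 1
    rw [map_mul, hw', ev_mul (mul_mem (zpow_mem hyQ i) (zpow_mem hdQ j)) (h1Q hj),
      ev_mul (zpow_mem hyQ i) (zpow_mem hdQ j), ev_zpow hyQ, ev_zpow hdQ, map_mul, map_mul, map_mul, map_mul,
      show q d' = 1 from (QuotientGroup.eq_one_iff _).2 hj,
      show q (ev h d') = 1 from (QuotientGroup.eq_one_iff _).2 ((i1 h _).2 hj), mul_one, mul_one, map_zpow,
      map_zpow, map_zpow, map_zpow, e1, e2, (hyc.zpow_zpow i j).eq, inv_zpow, inv_zpow, mul_assoc,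
      mul_inv_cancel_left, mul_inv_cancel]
  -- `τ` and the torus commute up to an inner automorphism
  obtain ⟨w, hw, hwe⟩ := stab_inner hS hF hQ (l := [Z, L1, Q]) (a := ⁅τ, h⁆)
    (by simp only [List.mem_cons, List.not_mem_nil, or_false, forall_eq_or_imp, forall_eq]
        exact ⟨hZQ, h1Q, le_rfl⟩) rfl
    (by simp only [List.mem_cons, List.not_mem_nil, or_false, forall_eq_or_imp, forall_eq]
        exact ⟨hinvZ, fun a _ => i1 a, fun a _ => pres_self a⟩)
    (mul_mem (mul_mem (mul_mem hτA hhA) (Subgroup.inv_mem _ hτA)) (Subgroup.inv_mem _ hhA)) (by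
      have h1 := comm_stab (p := p) hS (L := Q) (l := [Z, L1]) hle2
        (by simp only [List.zip_cons_cons, List.zip_nil_right, List.mem_cons, List.not_mem_nil, or_false,
              forall_eq_or_imp, forall_eq]
            exact ⟨t.stepZ, t.step1⟩)
        (a := τ) (b := h) hτs.1 hhs.1
      refine ⟨?_, ?_⟩
      · simp only [List.mem_cons, List.not_mem_nil, or_false, forall_eq_or_imp, forall_eq]
        exact ⟨h1.1 Z (by simp), h1.1 L1 (by simp), pres_self _⟩
      · simp only [List.zip_cons_cons, List.zip_nil_right, List.mem_cons, List.not_mem_nil, or_false,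
          forall_eq_or_imp, forall_eq]
        refine ⟨h1.2 (⊥, Z) (by simp), h1.2 (Z, L1) (by simp), fun v hv => ?_⟩
        set q := QuotientGroup.mk' L1
        have hqi : ∀ w ∈ Q, q (ev h w) = (q w)⁻¹ := fun w hw => by
          rw [eq_inv_iff_mul_eq_one, mul_eq_one_comm, ← map_mul]
          exact (QuotientGroup.eq_one_iff _).2 (hinv w hw)
        have hqh : ∀ w ∈ Q, q (ev h⁻¹ w) = (q w)⁻¹ := fun w hw => by
          have := hqi (ev h⁻¹ w) (ev_mem hw)
          rw [ev_cancel_inv] at this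
          rw [this, inv_inv]
        have hqα : ∀ w ∈ Q, ∀ w' ∈ Q, q w = (q w')⁻¹ → q (ev τ w) = (q (ev τ w'))⁻¹ := fun w hw w' hw' h' => by
          rw [eq_inv_iff_mul_eq_one, ← map_mul] at h' ⊢
          have := (i1 τ _).2 ((QuotientGroup.eq_one_iff _).1 h')
          rw [ev_mul hw hw'] at this
          exact (QuotientGroup.eq_one_iff _).2 this
        refine QuotientGroup.eq.1 ?_
        show q v = q (ev ⁅τ, h⁆ v)
        have hv1 : ev h⁻¹ v ∈ Q := ev_mem hv
        rw [commutatorElement_def, ev_comp, ev_comp, ev_comp,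
          hqα (ev h (ev τ⁻¹ (ev h⁻¹ v))) (ev_mem (ev_mem hv1)) (ev τ⁻¹ (ev h⁻¹ v)) (ev_mem hv1)
            (hqi _ (ev_mem hv1)), ev_cancel_inv, hqh v hv, inv_inv])
  -- so `⁅x, d⁆` is an involution modulo `Z`
  set q := QuotientGroup.mk' Z
  obtain ⟨c, hc⟩ : ∃ c, ⁅x, d⁆ = c := ⟨_, rfl⟩
  have hc1 : c ∈ L1 := hc ▸ t.comm2 x d hd
  have hτd : ev τ d = c * d := by rw [hev d hdQ, ← hc, commutatorElement_def, inv_mul_cancel_right]
  obtain ⟨l1, hl1⟩ : ∃ l1, d * ev h d = l1 := ⟨_, rfl⟩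
  rw [hl1] at hhd
  have hhd' : ev h d = d⁻¹ * l1 := by rw [← hl1, inv_mul_cancel_left]
  have hqs : ∀ γ : MulAut Q, γ ∈ stab [Z, L1] → ∀ w ∈ L1, q (ev γ w) = q w := fun γ hγ w hw =>
    (QuotientGroup.eq.2 (hγ.2 (Z, L1) (by simp) w hw)).symm
  have hkey : q (ev τ (ev h d)) = q (ev h (ev τ d)) := by
    have h1 : ev τ (ev h d) = ev ⁅τ, h⁆ (ev h (ev τ d)) := by
      rw [← ev_comp, ← ev_comp, ← ev_comp, commutatorElement_def, inv_mul_cancel_right, inv_mul_cancel_right]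
    rw [h1, hwe _ (ev_mem (ev_mem hdQ)), map_mul, map_mul, map_inv,
      (show Commute (q w) (q (ev h (ev τ d))) from MaxEss.mk_comm.2 (hQQ w hw _ (ev_mem (ev_mem hdQ)))).eq,
      mul_inv_cancel_right]
  rw [hhd', ev_mul (inv_mem hdQ) (h1Q hhd), ev_inv hdQ, hτd, ev_mul (h1Q hc1) hdQ, hhd', map_mul, map_mul, map_mul,
    map_inv, map_inv, map_mul, hqs τ hτs l1 hhd, hqs h hhs c hc1, mul_inv_rev, ← mul_assoc,
    mul_left_inj] at hkey
  have hcd : Commute (q c) (q d) := (MaxEss.mk_comm.2 (t.comm1 d c hc1)).symm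
  rw [← hcd.inv_inv.eq, mul_left_inj] at hkey
  refine t.out1 x hxC d hd hd1 ?_
  rw [hc]
  refine mem_of_zpow_mem (t.step1.pow_mem hS hc1) (two_cast_ne_zero h2) ((QuotientGroup.eq_one_iff _).1 ?_)
  show q (c ^ (2 : ℤ)) = 1
  rw [zpow_two, map_mul]
  nth_rw 2 [← hkey]
  exact mul_inv_cancel _

end PearlTop

/-- No abelian essential subgroup of order `p²`. -/
theorem no_pearl (hcard : Nat.card S = p ^ 5) (h2 : p ≠ 2) (h7 : p ≠ 7) (hnab : NoAb p S)
    (hhyp : F.hyperfocalSubgroup p = S) {E : Subgroup S}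
    (hE : F.IsEssential p (om E)) (hab : ∀ a ∈ E, ∀ b ∈ E, a * b = b * a) (hk : Nat.card E = p ^ 2) : False := by
  obtain ⟨H, u, e, z, d⟩ := exists_ess hS hF h2 hcard hE hab (abelian_essential hS hF hnab hE hab).1 (Or.inl hk)
  obtain ⟨M, L1, L2, c⟩ := exists_pearl hS hF hcard d hk
  obtain ⟨α, hα, hn⟩ := c.d.exists_moving hS hF (Or.inl hk)
  obtain ⟨-, K, C, t⟩ := c.exists_top hS hF h2 h7 hnab hα hn
  refine false_of_invariant hS hF hhyp t.hK
    (fun x y => t.hcomm (Subgroup.commutator_mem_commutator (Subgroup.mem_top x) (Subgroup.mem_top y))) ?_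
  rintro Q (rfl | hQ) a ha x hx
  · exact t.glob a ha x hx
  by_cases hQa : ∀ a ∈ Q, ∀ b ∈ Q, a * b = b * a
  · obtain ⟨hexp, hk' | hk'⟩ := abelian_essential hS hF hnab hQ hQa
    · exact t.abelian_kp hS hF hcard h2 hQ hQa hexp hk' ha x hx
    · exact (no_cube hS hF hcard h2 h7 hnab hhyp hQ hQa hk').elim
  exfalso
  obtain ⟨k, hk'⟩ := card_exists hS Q
  have h1Q := t.L1_le hS hF hQ (nonabelian_pres hS hF hcard hQ hQa)
  have h3 : p ^ 3 ≤ p ^ k := by
    have := pow_le_of_lt hS (lt_of_le_of_ne h1Q fun e => hQa (e ▸ t.L1_comm hS hF))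
    rwa [t.step1.card, t.stepZ.card, Subgroup.card_bot, mul_one, ← sq, ← pow_succ', hk'] at this
  have h4 : p * p ^ k ≤ p ^ 5 := by
    have := pow_le_of_lt hS (lt_top_iff_ne_top.2 (essential_ne_top hS hF hQ))
    rwa [Subgroup.card_top, hcard, hk'] at this
  rw [← pow_succ', Nat.pow_le_pow_iff_right hp.out.one_lt] at h4
  rw [Nat.pow_le_pow_iff_right hp.out.one_lt] at h3
  obtain rfl | rfl : k = 3 ∨ k = 4 := by omega
  · exact t.not_small hS hF hcard h2 hQ hQa hk'
  · exact t.not_big hS hF hcard h2 hQ hQa hk'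

end Cfsg.Agent.OrderFive
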