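import Cfsg.Agent.Lib.OrderFive.PearlWeights

/-!
# An essential subgroup of order `3²`: a proper subgroup respected by the automorphisms of the group
-/

set_option autoImplicit false
set_option linter.unusedSectionVars false
set_option linter.style.haveILetI false

namespace Cfsg.Agent.OrderFive

open Cfsg Cfsg.FusionSystem Cfsg.Agent Cfsg.Agent.FusionSys Cfsg.Agent.MaxEss
open scoped commutatorElement

variable {Ω : Type*} [Group Ω] {S : Subgroup Ω} [Finite S] {F : FusionSystem S}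

/-- A proper subgroup respected by the automorphisms of `S`, with the series of `S`. -/
structure PearlTop (F : FusionSystem S) (p : ℕ) (K L1 L2 C : Subgroup S) : Prop where
  hK : K ≠ ⊤
  hcomm : commutator S ≤ K
  glob : ∀ B ∈ autL F (⊤ : Subgroup S), B ∈ kp K
  fix1 : ∀ B ∈ autL F (⊤ : Subgroup S), ∀ w ∈ L1, w⁻¹ * ev B w ∈ Subgroup.center S
  invB : ∃ B ∈ autL F (⊤ : Subgroup S), ∀ x : S, x * ev B x ∈ C
  stepZ : Step p ⊥ (Subgroup.center S)
  step1 : Step p (Subgroup.center S) L1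
  step2 : Step p L1 L2
  step3 : Step p L2 C
  stepT : Step p C ⊤
  n1 : L1.Normal
  n2 : L2.Normal
  nC : C.Normal
  derived : commutator S = L2
  comm1 : ∀ g : S, ∀ l ∈ L1, ⁅g, l⁆ ∈ Subgroup.center S
  comm2 : ∀ g : S, ∀ l ∈ L2, ⁅g, l⁆ ∈ L1
  commC : ∀ g ∈ C, ∀ w ∈ L2, ⁅g, w⁆ ∈ Subgroup.center S
  abel2 : ∀ a ∈ L2, ∀ b ∈ L2, a * b = b * a
  memC : ∀ x, x ∈ C ↔ ∀ v ∈ L1, v * x = x * v
  move : ∀ g ∈ C, g ∉ L2 → ∀ w ∈ L2, w ∉ L1 → ⁅g, w⁆ ≠ 1
  out1 : ∀ v ∉ C, ∀ w ∈ L2, w ∉ L1 → ⁅v, w⁆ ∉ Subgroup.center S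
  out3 : ∀ v ∉ C, ∀ g ∈ C, g ∉ L2 → ⁅v, g⁆ ∉ L1

theorem weights_pearl : ∀ U V A B s : ZMod 3, U ≠ 0 → V ≠ 0 → A = U * V → B = U * A → s = U * B → s = V * A →
    V = 1 ∧ B = 1 := by decide

variable {p : ℕ} [hp : Fact p.Prime] (hS : IsPGroup p S) (hF : F.IsSaturated p)
include hS hF

theorem Pearl.exists_top (h2 : p ≠ 2) (h7 : p ≠ 7) (hnab : NoAb p S) {E M L1 L2 : Subgroup S} {u e z : S}
    (c : Pearl F p E M L1 L2 u e z) {α : MulAut E} (hα : α ∈ autL F E) (hn : ev α z ∉ Subgroup.zpowers z) :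
    p = 3 ∧ ∃ K C, PearlTop F p K L1 L2 C := by
  have d := c.d
  obtain ⟨hp3, hline, hne⟩ := c.prime_eq_three hS hF h2 h7 hnab hα hn
  refine ⟨hp3, ?_⟩
  subst hp3
  obtain ⟨h2C, hCT, hnC, hCM, hyC⟩ := c.steps_cent hS hF
  obtain ⟨B, hB, hBN, hBM, hB1, hB2, hBZ, hBz, hBy, hw1, hw2, hw4⟩ :=
    c.exists_weights hS hF hα hn (a := -1) (b := -1) (by norm_num)
  have hy : ev α z ∈ E := ev_mem d.hzE
  generalize ev α z = y at *
  set C := Subgroup.centralizer (L1 : Set S) with hC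
  set Z := Subgroup.zpowers z with hZ
  have memC : ∀ {x : S}, x ∈ C ↔ ∀ v ∈ L1, v * x = x * v := fun {x} => by
    rw [hC, Subgroup.mem_centralizer_iff]; rfl
  haveI := c.n1
  haveI := c.n2
  have hZ' : Subgroup.center S = Z := c.hZ
  haveI : Z.Normal := hZ' ▸ (inferInstance : (Subgroup.center S).Normal)
  have hyN := d.stepN.le hy
  have hyM := c.stepN.le hyN
  have hyC' := hyC y hy hn
  obtain ⟨g', hg', hg'2⟩ := h2C.exists_gen (p := 3)
  have hg'M : g' ∉ M := fun h => hg'2 (hCM g' hg' h)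
  obtain ⟨dd, hdd, hdd1⟩ := c.step2.exists_gen (p := 3)
  obtain ⟨l, hl, hlz⟩ := c.step1.exists_gen (p := 3)
  have h1C : L1 ≤ C := c.step2.le.trans h2C.le
  have hcomm' : ∀ a b : S, ⁅a, b⁆ ∈ L2 := by
    intro a b
    obtain ⟨i, hi⟩ := c.stepT.gen hS (Subgroup.mem_top g') hg'M (Subgroup.mem_top a)
    obtain ⟨j, hj⟩ := c.stepT.gen hS (Subgroup.mem_top g') hg'M (Subgroup.mem_top b)
    have h := comm_transfer (D := L2) (x := g') (y := g') i j (r := (g' ^ i)⁻¹ * a) (q := (g' ^ j)⁻¹ * b)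
      (by simp) (by simp) (by rw [← commutatorElement_inv]; exact inv_mem (c.commGM g' _ hi)) (c.commGM _ _ hj)
      (c.commGM g' _ hj)
    rwa [commutatorElement_self, one_zpow, inv_one, one_mul, mul_inv_cancel_left, mul_inv_cancel_left] at h
  have hgy : ⁅y, g'⁆ ∉ L1 := fun h => hg'M (c.mem_M_of_comm hS hF hy hn (by
    rw [← commutatorElement_inv]; exact inv_mem h))
  have hyd : ∀ {w : S}, w ∈ L2 → w ∉ L1 → ⁅y, w⁆ ∉ Z := fun hw hw' h => c.not_line hS hF hy hn hw hw' (by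
    rw [← commutatorElement_inv]; exact inv_mem h)
  have hgC : ∀ r ∈ C, ⁅r, g'⁆ ∈ L1 := fun r hr => by
    obtain ⟨j, hj⟩ := h2C.gen hS hg' hg'2 hr
    rw [← mul_inv_cancel_left (g' ^ j) r, show ⁅g' ^ j * ((g' ^ j)⁻¹ * r), g'⁆ =
      g' ^ j * ⁅(g' ^ j)⁻¹ * r, g'⁆ * (g' ^ j)⁻¹ by simp only [commutatorElement_def]; group]
    exact c.n1.conj_mem _ (c.commG2' g' hj) _
  have hdecomp : ∀ v : S, ∃ i : ℤ, ∃ r ∈ C, v = y ^ i * r := fun v => by
    obtain ⟨i, hi⟩ := hCT.gen hS (Subgroup.mem_top y) hyC' (Subgroup.mem_top v)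
    exact ⟨i, _, hi, (mul_inv_cancel_left _ _).symm⟩
  have hnot : ∀ {v : S} {i : ℤ} {r : S}, v ∉ C → r ∈ C → v = y ^ i * r → (i : ZMod 3) ≠ 0 := fun hv hr he h0 =>
    hv (he ▸ mul_mem (zpow_mem_of_cast (hCT.pow_mem hS (Subgroup.mem_top y)) h0) hr)
  -- the derived group
  have hder : commutator S = L2 := by
    refine le_antisymm (by rw [commutator_def, Subgroup.commutator_le]; exact fun a _ b _ => hcomm' a b) ?_
    have hco : ∀ a b : S, ⁅a, b⁆ ∈ commutator S := fun a b =>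
      Subgroup.commutator_mem_commutator (Subgroup.mem_top a) (Subgroup.mem_top b)
    intro x hx
    obtain ⟨k, hk⟩ := c.step2.gen hS (hcomm' y g') hgy hx
    obtain ⟨j, hj⟩ := c.step1.gen hS (c.commG2 y _ (hcomm' y g')) (hyd (hcomm' y g') hgy) hk
    have hz : z ∈ commutator S := d.hz ▸ hco u e
    have := mul_mem (zpow_mem (hco y g') k) (mul_mem (zpow_mem (hco y ⁅y, g'⁆) j) ((Subgroup.zpowers_le.2 hz) hj))
    rwa [mul_inv_cancel_left, mul_inv_cancel_left] at this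
  -- invariance
  have hev : ∀ (β : MulAut (⊤ : Subgroup S)) (v w : S), ev β ⁅v, w⁆ = ⁅ev β v, ev β w⁆ := fun β v w =>
    ev_comm (Subgroup.mem_top v) (Subgroup.mem_top w)
  have hpZ : ∀ β : MulAut (⊤ : Subgroup S), β ∈ pres Z := fun β => mem_pres fun x hx => by
    rw [← hZ'] at hx ⊢
    refine Subgroup.mem_center_iff.2 fun v => ?_
    have h1 := congrArg (ev β) (Subgroup.mem_center_iff.1 hx (ev β⁻¹ v))
    rwa [ev_mul (Subgroup.mem_top _) (Subgroup.mem_top _), ev_mul (Subgroup.mem_top _) (Subgroup.mem_top _),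
      ev_cancel_inv] at h1
  have hp2 : ∀ β : MulAut (⊤ : Subgroup S), β ∈ pres L2 := fun β => mem_pres fun x hx => by
    have hle : L2 ≤ L2.comap ((⊤ : Subgroup S).subtype.comp
        (β.toMonoidHom.comp Subgroup.topEquiv.symm.toMonoidHom)) := by
      rw [← hder, commutator_def, Subgroup.commutator_le]
      intro v _ w _
      rw [Subgroup.mem_comap, map_commutatorElement]
      exact Subgroup.commutator_mem_commutator (Subgroup.mem_top _) (Subgroup.mem_top _)
    rw [ev_of_mem (Subgroup.mem_top x)]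
    exact hle hx
  have hp1 : ∀ β : MulAut (⊤ : Subgroup S), β ∈ pres L1 := fun β => mem_pres fun x hx => by
    by_contra h
    refine hyd ((hp2 β x).2 (c.step2.le hx)) h ?_
    have h1 := (hpZ β _).2 (c.commG1 (ev β⁻¹ y) x hx)
    rwa [hev, ev_cancel_inv] at h1
  have hpC : ∀ β : MulAut (⊤ : Subgroup S), β ∈ pres C := fun β => mem_pres fun x hx => memC.2 fun v hv => by
    have h := congrArg (ev β) (memC.1 hx _ ((inv_mem (hp1 β) v).2 hv))
    rwa [ev_mul (Subgroup.mem_top _) (Subgroup.mem_top _), ev_mul (Subgroup.mem_top _) (Subgroup.mem_top _),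
      ev_cancel_inv] at h
  -- the weights of every automorphism
  have hbot : ∀ {a b : S}, a ∈ C → b ∈ L1 → ⁅a, b⁆ ∈ (⊥ : Subgroup S) := fun {a b} ha hb => by
    rw [Subgroup.mem_bot, commutatorElement_eq_one_iff_mul_comm]; exact (memC.1 ha b hb).symm
  have habel : ∀ {a b : S}, a ∈ L2 → b ∈ L2 → ⁅a, b⁆ ∈ (⊥ : Subgroup S) := fun {a b} ha hb => by
    rw [Subgroup.mem_bot, commutatorElement_eq_one_iff_mul_comm]; exact c.L2_comm hS hF a ha b hb
  have hweights : ∀ β ∈ autL F (⊤ : Subgroup S), Wt (ev β) L2 C 1 ∧ Wt (ev β) Z L1 1 := by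
    intro β _
    obtain ⟨wu, hu⟩ := Wt.exists_wt hS hCT le_rfl (hpC β) (pres_self β)
    obtain ⟨wv, hv⟩ := Wt.exists_wt hS h2C le_top (hp2 β) (hpC β)
    obtain ⟨wA, hA⟩ := Wt.exists_wt hS c.step2 le_top (hp1 β) (hp2 β)
    obtain ⟨wB, hBw⟩ := Wt.exists_wt hS c.step1 le_top (hpZ β) (hp1 β)
    obtain ⟨ws, hs⟩ := Wt.exists_wt hS c.stepZ le_top (pres_bot β) (hpZ β)
    have e1 : (wA : ZMod 3) = wu * wv :=
      wt_transfer (a := β) (x := y) (y := g') (D := L1) (Subgroup.mem_top y) (Subgroup.mem_top g')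
        (hA _ (hcomm' y g')) hgy (c.step2.pow_mem hS (hcomm' y g')) (c.commG2 y _ (hcomm' y g'))
        (c.commG2 g' _ (hcomm' y g')) (hgC _ (hu y (Subgroup.mem_top y))) (c.commG2 _ _ (hv g' hg'))
        (c.commG2 y _ (hv g' hg'))
    have hyd1 := c.commG2 y dd hdd
    have e2 : (wB : ZMod 3) = wu * wA :=
      wt_transfer (a := β) (x := y) (y := dd) (D := Z) (Subgroup.mem_top y) (Subgroup.mem_top dd)
        (hBw _ hyd1) (hyd hdd hdd1) (c.step1.pow_mem hS hyd1) (c.commG1 y _ hyd1) (c.commG1 dd _ hyd1)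
        (hline _ (hu y (Subgroup.mem_top y)) dd hdd) (c.commG1 _ _ (hA dd hdd)) (c.commG1 y _ (hA dd hdd))
    have hyl := c.commG1 y l hl
    have e3 : (ws : ZMod 3) = wu * wB :=
      wt_transfer (a := β) (x := y) (y := l) (D := (⊥ : Subgroup S)) (Subgroup.mem_top y) (Subgroup.mem_top l)
        (hs _ hyl) (by
          rw [Subgroup.mem_bot]
          exact fun h => c.not_comm hS hF hy hn hl hlz (by rw [← commutatorElement_inv, h, inv_one]))
        (c.stepZ.pow_mem hS hyl) (c.comm_line hyl y) (c.comm_line hyl l) (hbot (hu y (Subgroup.mem_top y)) hl)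
        (c.comm_line (hBw l hl) _) (c.comm_line (hBw l hl) y)
    have hgd := hline g' hg' dd hdd
    have e4 : (ws : ZMod 3) = wv * wA :=
      wt_transfer (a := β) (x := g') (y := dd) (D := (⊥ : Subgroup S)) (Subgroup.mem_top g') (Subgroup.mem_top dd)
        (hs _ hgd) (by rw [Subgroup.mem_bot]; exact hne g' hg' hg'2 dd hdd hdd1)
        (c.stepZ.pow_mem hS hgd) (c.comm_line hgd g') (c.comm_line hgd dd) (habel (hv g' hg') hdd)
        (hbot (h2C.le (hv g' hg')) (hA dd hdd)) (hbot hg' (hA dd hdd))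
    obtain ⟨hV, hW⟩ := weights_pearl _ _ _ _ _ (Wt.ne_zero hS hCT le_rfl (hpC β) hu)
      (Wt.ne_zero hS h2C le_top (hp2 β) hv) e1 e2 e3 e4
    exact ⟨Wt.congr hS h2C hv (by rw [hV]; norm_num), Wt.congr hS c.step1 hBw (by rw [hW]; norm_num)⟩
  -- the involution inverts `S` modulo `C`
  have hBinv : ∀ x, x * ev B x ∈ C := fun x => by
    have hw : Wt (ev B) C ⊤ (-1) := Wt.of_elt hS hCT le_rfl (hpC B) (Subgroup.mem_top y) hyC' (h1C hBy)
    have h := hw x (Subgroup.mem_top x)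
    rwa [zpow_neg_one, inv_inv] at h
  letI : CommGroup (S ⧸ L2) := { (inferInstance : Group (S ⧸ L2)) with
    mul_comm := fun a b => by
      induction a using QuotientGroup.induction_on with
      | _ a =>
        induction b using QuotientGroup.induction_on with
        | _ b => exact MaxEss.mk_comm.2 (hcomm' a b) }
  set q := QuotientGroup.mk' L2 with hq
  let χ : S →* S ⧸ L2 :=
    { toFun := fun x => q x * q (ev B x)
      map_one' := by rw [ev_one, map_one, mul_one]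
      map_mul' := fun a b => by
        rw [ev_mul (Subgroup.mem_top a) (Subgroup.mem_top b), map_mul, map_mul, mul_mul_mul_comm] }
  have hχ : ∀ x, x ∈ χ.ker ↔ x * ev B x ∈ L2 := fun x => by
    show q x * q (ev B x) = 1 ↔ _
    rw [← map_mul]
    exact QuotientGroup.eq_one_iff _
  have hL2K : L2 ≤ χ.ker := fun x hx => (hχ x).2 (mul_mem hx ((hp2 B x).2 hx))
  refine ⟨χ.ker, C, ?_, hder ▸ hL2K, ?_, fun β hβ w hw => ?_, ⟨B, hB, hBinv⟩, hZ' ▸ c.stepZ, hZ' ▸ c.step1,
    c.step2, h2C, hCT, c.n1, c.n2, hnC, hder, fun g w hw => hZ' ▸ c.commG1 g w hw, c.commG2,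
    fun g hg w hw => hZ' ▸ hline g hg w hw, c.L2_comm hS hF, fun x => memC, hne, fun v hv w hw hw' h => ?_,
    fun v hv g hg hg2 h => ?_⟩
  · intro h
    have h1 : g' * ev B g' ∈ L2 := (hχ g').1 (h ▸ Subgroup.mem_top g')
    have h3 : g'⁻¹ * ev B g' ∈ M := by
      simpa using (Wt.congr hS c.stepT hw4 (t := 1) (by push_cast; ring)) g' (Subgroup.mem_top g')
    refine hg'M (mem_of_zpow_mem (k := 2) (c.stepT.pow_mem hS (Subgroup.mem_top g')) two_ne_zero_three ?_)
    have := mul_mem (c.step2M.le h1) (inv_mem h3)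
    rwa [mul_inv_rev, inv_inv, mul_assoc, mul_inv_cancel_left, ← zpow_two] at this
  -- every automorphism respects `K`
  · intro β hβ
    have hl : ∀ A ∈ [Z, L1, L2, C, (⊤ : Subgroup S)], ∀ a : MulAut (⊤ : Subgroup S), a ∈ pres A := by
      simp only [List.mem_cons, List.not_mem_nil, or_false, forall_eq_or_imp, forall_eq]
      exact ⟨hpZ, hp1, hp2, hpC, fun a => pres_self a⟩
    have hγ := comm_stab (p := 3) hS (L := (⊤ : Subgroup S)) (l := [Z, L1, L2, C, ⊤]) (fun _ _ => le_top)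
      (by simp only [List.zip_cons_cons, List.zip_nil_right, List.mem_cons, List.not_mem_nil, or_false,
            forall_eq_or_imp, forall_eq]
          exact ⟨c.stepZ, c.step1, c.step2, h2C, hCT⟩)
      (a := β) (b := B) (fun A hA => hl A hA β) (fun A hA => hl A hA B)
    obtain ⟨m, -, hm⟩ := mem_ind_iff.1 (stab_le_ind hS hF (top_fn hS hF) (l := [Z, L1, L2, C, ⊤])
      (fun _ _ => le_top) rfl (fun A hA a _ => hl A hA a)
      (show ⁅β, B⁆ ∈ autL F (⊤ : Subgroup S) from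
        mul_mem (mul_mem (mul_mem hβ hB) (Subgroup.inv_mem _ hβ)) (Subgroup.inv_mem _ hB)) hγ)
    have hqγ : ∀ x, q (ev β (ev B x)) = q (ev B (ev β x)) := fun x => by
      have h1 : ev β (ev B x) = ev ⁅β, B⁆ (ev B (ev β x)) := by
        rw [← ev_comp, ← ev_comp, ← ev_comp, commutatorElement_def, inv_mul_cancel_right, inv_mul_cancel_right]
      rw [h1, hm _ (Subgroup.mem_top _), map_mul, map_mul, map_inv, mul_right_comm, mul_inv_cancel, one_mul]
    intro x _
    refine (hχ _).2 ((QuotientGroup.eq_one_iff _).1 ?_)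
    show q (x⁻¹ * ev β x * ev B (x⁻¹ * ev β x)) = 1
    have h3 : q (ev β (x * ev B x)) = q (x * ev B x) := by
      have := (hweights β hβ).1 _ (hBinv x)
      rw [zpow_one] at this
      exact (QuotientGroup.eq.2 this).symm
    rw [ev_mul (Subgroup.mem_top _) (Subgroup.mem_top _), map_mul, hqγ, map_mul] at h3
    rw [ev_mul (Subgroup.mem_top _) (Subgroup.mem_top _), ev_inv (Subgroup.mem_top _), map_mul, map_mul, map_mul,
      map_inv, map_inv, mul_mul_mul_comm, h3, mul_mul_mul_comm, inv_mul_cancel, inv_mul_cancel, one_mul]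
  · rw [hZ']; exact Wt.one_iff.1 (hweights β hβ).2 w hw
  · rw [hZ'] at h
    obtain ⟨i, r, hr, he⟩ := hdecomp v
    have h1 := comm_transfer (D := Z) (x := y) (y := w) (r := r) (q := 1) i 1 (c.commG1 y _ (c.commG2 y w hw))
      (c.commG1 w _ (c.commG2 y w hw)) (hline r hr w hw) (by simp) (by simp)
    rw [mul_one, zpow_one, mul_one, ← he] at h1
    refine hyd hw hw' (mem_of_zpow_mem (c.step1.pow_mem hS (c.commG2 y w hw)) (hnot hv hr he) ?_)
    have := mul_mem h1 (inv_mem h)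
    rwa [mul_inv_cancel_right, inv_mem_iff] at this
  · obtain ⟨i, r, hr, he⟩ := hdecomp v
    obtain ⟨j, hj⟩ := h2C.gen hS hg' hg'2 hg
    have hj0 : (j : ZMod 3) ≠ 0 := fun h0 => hg2 (by
      have := mul_mem (zpow_mem_of_cast (h2C.pow_mem hS hg') h0) hj
      rwa [mul_inv_cancel_left] at this)
    have h1 := comm_transfer (D := L1) (x := y) (y := g') (r := r) (q := (g' ^ j)⁻¹ * g) i j
      (c.commG2 y _ (hcomm' y g')) (c.commG2 g' _ (hcomm' y g')) (hgC r hr) (c.commG2 r _ hj) (c.commG2 y _ hj)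
    rw [mul_inv_cancel_left, ← he] at h1
    refine hgy (mem_of_zpow_mem (c.step2.pow_mem hS (hcomm' y g')) (k := i * j)
      (by push_cast; exact mul_ne_zero (hnot hv hr he) hj0) ?_)
    have := mul_mem h1 (inv_mem h)
    rwa [mul_inv_cancel_right, inv_mem_iff] at this

end Cfsg.Agent.OrderFive
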