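import Cfsg.Agent.Lib.OrderFive.Pearl
import Cfsg.Agent.Lib.OrderFive.CubeThree

/-!
# An essential subgroup of order `p²`: weights, and the reduction to `p = 3`
-/

set_option autoImplicit false
set_option linter.unusedSectionVars false
set_option linter.style.haveILetI false

namespace Cfsg.Agent.OrderFive

open Cfsg Cfsg.FusionSystem Cfsg.Agent Cfsg.Agent.FusionSys Cfsg.Agent.MaxEss
open scoped commutatorElement

variable {Ω : Type*} [Group Ω] {S : Subgroup Ω} [Finite S] {F : FusionSystem S} {p : ℕ} [hp : Fact p.Prime]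
  (hS : IsPGroup p S) (hF : F.IsSaturated p)
include hS hF

namespace Pearl

variable {E M L1 L2 : Subgroup S} {u e z : S} (c : Pearl F p E M L1 L2 u e z)
include c

omit hS hF in
theorem comm_line {w : S} (hw : w ∈ Subgroup.zpowers z) (g : S) : ⁅g, w⁆ ∈ (⊥ : Subgroup S) := by
  rw [Subgroup.mem_bot, commutatorElement_eq_one_iff_mul_comm]; exact (c.zpowers_comm hw g).eq.symm

omit hS hF in
theorem commG1' (g : S) {l : S} (hl : l ∈ L1) : ⁅l, g⁆ ∈ Subgroup.zpowers z := by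
  rw [← commutatorElement_inv]; exact inv_mem (c.commG1 g l hl)

omit hS hF in
theorem commG2' (g : S) {l : S} (hl : l ∈ L2) : ⁅l, g⁆ ∈ L1 := by
  rw [← commutatorElement_inv]; exact inv_mem (c.commG2 g l hl)

omit hS hF in
theorem line_le : Subgroup.zpowers z ≤ E := c.d.stepH.le

theorem L1_comm : ∀ a ∈ L1, ∀ b ∈ L1, a * b = b * a := by
  obtain ⟨l, hl, hlz⟩ := c.step1.exists_gen (p := p)
  have hA := comm_sup_zpowers (A := Subgroup.zpowers z) (x := l)
    (fun a ha b _ => (c.zpowers_comm ha b).eq) fun a ha => (c.zpowers_comm ha l).eq.symm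
  have hle : L1 ≤ Subgroup.zpowers z ⊔ Subgroup.zpowers l := fun x hx => by
    obtain ⟨k, hk⟩ := c.step1.gen hS hl hlz hx
    rw [← mul_inv_cancel_left (l ^ k) x]
    exact mul_mem (Subgroup.mem_sup_right (Subgroup.zpow_mem_zpowers l k)) (Subgroup.mem_sup_left hk)
  exact fun a ha b hb => hA a (hle ha) b (hle hb)

theorem not_L1 {y : S} (hy : y ∈ E) (hyz : y ∉ Subgroup.zpowers z) : y ∉ L1 :=
  line_not_mem hS c.step1 c.d.stepH (Ne.symm c.hL1E) hy hyz

theorem inter_N {w : S} (hw : w ∈ L2) (hwN : w ∈ Subgroup.normalizer (E : Set S)) : w ∈ L1 :=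
  by_contra fun h => line_not_mem hS c.step1N c.step2 c.hL2N hw h hwN

/-- Commutators with an element of `E` outside the line detect the series. -/
theorem not_line {y w : S} (hy : y ∈ E) (hyz : y ∉ Subgroup.zpowers z) (hw : w ∈ L2) (hw1 : w ∉ L1) :
    ⁅w, y⁆ ∉ Subgroup.zpowers z := fun h => hw1 (c.inter_N hS hF hw (c.mem_N_of_comm hS hF hy hyz h))

theorem exists_weights {α : MulAut E} (hα : α ∈ autL F E) (hn : ev α z ∉ Subgroup.zpowers z) {a b : ℤ}
    (hab : (a : ZMod p) * b = 1) :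
    ∃ B ∈ autL F (⊤ : Subgroup S), B ∈ pres (Subgroup.normalizer (E : Set S)) ∧ B ∈ pres M ∧ B ∈ pres L1 ∧
      B ∈ pres L2 ∧ B ∈ pres (Subgroup.zpowers z) ∧ (∀ i : ℤ, ev B (z ^ i) = (z ^ i) ^ a) ∧
      ((ev α z) ^ b)⁻¹ * ev B (ev α z) ∈ L1 ∧ Wt (ev B) (Subgroup.zpowers z) L1 (a ^ 2) ∧
      Wt (ev B) L1 L2 (a ^ 3) ∧ Wt (ev B) M ⊤ (a ^ 4) := by
  have d := c.d
  obtain ⟨τ, hτ, hτz, hτy, -, -⟩ := d.exists_torus hS hF hα hn hab
  obtain ⟨B, hB, hBN, hBM, hB1, hB2, hBZ, hBz', hBe⟩ :=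
    c.lift hS hF hτ (by rw [hτz]; exact Subgroup.zpow_mem_zpowers z a)
  have hy : ev α z ∈ E := ev_mem d.hzE
  have hBy : ((ev α z) ^ b)⁻¹ * ev B (ev α z) ∈ L1 := by rw [← hτy]; exact hBe _ hy
  generalize ev α z = y at *
  have hyN := d.stepN.le hy
  have hBz : ∀ i : ℤ, ev B (z ^ i) = (z ^ i) ^ a := fun i => by
    rw [ev_zpow (Subgroup.mem_top z), hBz', hτz, ← zpow_mul, ← zpow_mul, mul_comm]
  have hzz : ∀ {w t : ℤ}, (w : ZMod p) * b = t → (w : ZMod p) = a * t := fun {w t} h => by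
    rw [← h, mul_left_comm, hab, mul_one]
  haveI := c.n1
  haveI : (Subgroup.zpowers z).Normal := c.hZ ▸ (inferInstance : (Subgroup.center S).Normal)
  -- the step `L1` over the line
  obtain ⟨l, hl, hlz⟩ := c.step1.exists_gen (p := p)
  obtain ⟨w1, hw1⟩ := Wt.exists_wt hS c.step1 le_top hBZ hB1
  have e1 : (a : ZMod p) = w1 * b := by
    obtain ⟨i, hi⟩ := Subgroup.mem_zpowers_iff.1 (c.commG1' y hl)
    refine wt_transfer (a := B) (x := l) (y := y) (D := (⊥ : Subgroup S)) (Subgroup.mem_top l)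
      (Subgroup.mem_top y) (c := a) (by rw [← hi, hBz, inv_mul_cancel]; exact one_mem _)
      (by rw [Subgroup.mem_bot]; exact c.not_comm hS hF hy hn hl hlz) (c.stepZ.pow_mem hS ⟨i, hi⟩)
      (c.comm_line ⟨i, hi⟩ l) (c.comm_line ⟨i, hi⟩ y) ?_ ?_ ?_
    · rw [← commutatorElement_inv]; exact inv_mem (c.comm_line (hw1 l hl) y)
    · rw [← commutatorElement_inv]; exact inv_mem (c.comm_line (hw1 l hl) _)
    · rw [Subgroup.mem_bot, commutatorElement_eq_one_iff_mul_comm]; exact c.L1_comm hS hF l hl _ hBy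
  have hw1' : Wt (ev B) (Subgroup.zpowers z) L1 (a ^ 2) := Wt.congr hS c.step1 hw1 (by
    rw [hzz e1.symm]; push_cast; ring)
  -- the step `L2` over `L1`
  obtain ⟨dd, hdd, hdd1⟩ := c.step2.exists_gen (p := p)
  obtain ⟨w2, hw2⟩ := Wt.exists_wt hS c.step2 le_top hB1 hB2
  have hdy := c.commG2' y hdd
  have e2 : ((a ^ 2 : ℤ) : ZMod p) = w2 * b :=
    wt_transfer (a := B) (x := dd) (y := y) (D := Subgroup.zpowers z) (Subgroup.mem_top dd) (Subgroup.mem_top y)
      (hw1' _ hdy) (c.not_line hS hF hy hn hdd hdd1) (c.step1.pow_mem hS hdy) (c.commG1 dd _ hdy)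
      (c.commG1 y _ hdy) (c.commG1' y (hw2 dd hdd)) (c.commG1' _ (hw2 dd hdd)) (c.commG1 dd _ hBy)
  have hw2' : Wt (ev B) L1 L2 (a ^ 3) := Wt.congr hS c.step2 hw2 (by
    rw [hzz e2.symm]; push_cast; ring)
  -- the step over `M`
  obtain ⟨g, -, hg⟩ := c.stepT.exists_gen (p := p)
  obtain ⟨w4, hw4⟩ := Wt.exists_wt hS c.stepT le_rfl hBM (pres_self B)
  have hgy := c.commGM g y (c.stepN.le hyN)
  have e4 : ((a ^ 3 : ℤ) : ZMod p) = w4 * b :=
    wt_transfer (a := B) (x := g) (y := y) (D := L1) (Subgroup.mem_top g) (Subgroup.mem_top y)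
      (hw2' _ hgy) (fun h => hg (c.mem_M_of_comm hS hF hy hn h)) (c.step2.pow_mem hS hgy) (c.commG2 g _ hgy)
      (c.commG2 y _ hgy) (c.commMN _ (hw4 g (Subgroup.mem_top g)) y hyN) (c.step1.le (c.commG1 _ _ hBy))
      (c.step1.le (c.commG1 g _ hBy))
  refine ⟨B, hB, hBN, hBM, hB1, hB2, hBZ, hBz, hBy, hw1', hw2', Wt.congr hS c.stepT hw4 ?_⟩
  rw [hzz e4.symm]; push_cast; ring

/-- `L2` is abelian. -/
theorem L2_comm : ∀ a ∈ L2, ∀ b ∈ L2, a * b = b * a := by
  have d := c.d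
  obtain ⟨dd, hdd, hdd1⟩ := c.step2.exists_gen (p := p)
  obtain ⟨l, hl, hlz⟩ := c.step1.exists_gen (p := p)
  have hgen : ∀ {v : S}, Commute v l → ∀ a ∈ L1, Commute v a := fun {v} hv a ha => by
    obtain ⟨j, hj⟩ := c.step1.gen hS hl hlz ha
    rw [← mul_inv_cancel_left (l ^ j) a]
    exact (hv.zpow_right j).mul_right (c.zpowers_comm hj v).symm
  suffices h : Commute dd l by
    have hA := comm_sup_zpowers (A := L1) (x := dd) (c.L1_comm hS hF) fun a ha => (hgen h a ha).eq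
    have hle : L2 ≤ L1 ⊔ Subgroup.zpowers dd := fun x hx => by
      obtain ⟨k, hk⟩ := c.step2.gen hS hdd hdd1 hx
      rw [← mul_inv_cancel_left (dd ^ k) x]
      exact mul_mem (Subgroup.mem_sup_right (Subgroup.zpow_mem_zpowers dd k)) (Subgroup.mem_sup_left hk)
    exact fun a ha b hb => hA a (hle ha) b (hle hb)
  by_contra hne
  have hey : ⁅e, l⁆ ≠ 1 := fun h => c.not_comm hS hF d.he d.heH hl hlz (by
    rw [← commutatorElement_inv, h, inv_one])
  obtain ⟨k, hk⟩ := exists_adjust (p := p) c.zc (d.exp z d.hzE) (c.commG1 dd l hl) (c.commG1 e l hl) hey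
  have hkz : e ^ k ∉ Subgroup.zpowers z := fun h => by
    by_cases h0 : (k : ZMod p) = 0
    · have h1 : e ^ k = 1 := Subgroup.mem_bot.1 (zpow_mem_of_cast (by rw [d.exp e d.he]; exact one_mem _) h0)
      rw [h1, mul_one] at hk
      exact hne (commutatorElement_eq_one_iff_mul_comm.1 hk)
    · exact d.heH (mem_of_zpow_mem (by rw [d.exp e d.he]; exact one_mem _) h0 h)
  obtain ⟨w, hw⟩ : ∃ w, dd * e ^ k = w := ⟨_, rfl⟩
  rw [hw] at hk
  have hwM : w ∈ M := hw ▸ mul_mem (c.step2M.le hdd) (c.stepN.le (d.stepN.le (zpow_mem d.he k)))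
  have hwl := hgen (show Commute w l from commutatorElement_eq_one_iff_mul_comm.1 hk)
  obtain ⟨g, -, hg⟩ := c.stepT.exists_gen (p := p)
  refine hg (c.mem_M_of_comm hS hF (zpow_mem d.he k) hkz ?_)
  have hgw : ⁅g, w⁆ ∈ L1 := by
    by_contra hgw
    have hcl : Commute ⁅g, w⁆ l := by
      rw [commutatorElement_def]
      refine Commute.mul_left ?_ (hwl l hl).inv_left
      have h1 := (hwl (g⁻¹ * l * g) (by simpa using c.n1.conj_mem l hl g⁻¹)).eq
      show g * w * g⁻¹ * l = l * (g * w * g⁻¹)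
      calc g * w * g⁻¹ * l = g * (w * (g⁻¹ * l * g)) * g⁻¹ := by group
        _ = g * ((g⁻¹ * l * g) * w) * g⁻¹ := by rw [h1]
        _ = l * (g * w * g⁻¹) := by group
    obtain ⟨j, hj⟩ := c.step2.gen hS (c.commGM g w hwM) hgw hdd
    refine hne ?_
    rw [← mul_inv_cancel_left (⁅g, w⁆ ^ j) dd]
    exact (hcl.zpow_left j).mul_left (c.L1_comm hS hF _ hj l hl)
  have h := mul_mem (inv_mem (c.commG2 g dd hdd)) hgw
  rw [← hw, show ⁅g, dd * e ^ k⁆ = ⁅g, dd⁆ * (dd * ⁅g, e ^ k⁆ * dd⁻¹) by simp only [commutatorElement_def]; group,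
    inv_mul_cancel_left] at h
  have := c.n1.conj_mem _ h dd⁻¹
  simpa only [inv_inv, mul_assoc, inv_mul_cancel_left, inv_mul_cancel, mul_one] using this

/-- The centralizer of `L1`. -/
theorem steps_cent : Step p L2 (Subgroup.centralizer (L1 : Set S)) ∧
    Step p (Subgroup.centralizer (L1 : Set S)) ⊤ ∧ (Subgroup.centralizer (L1 : Set S)).Normal ∧
    (∀ w ∈ Subgroup.centralizer (L1 : Set S), w ∈ M → w ∈ L2) ∧
    ∀ y ∈ E, y ∉ Subgroup.zpowers z → y ∉ Subgroup.centralizer (L1 : Set S) := by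
  have d := c.d
  haveI := c.n1
  set C := Subgroup.centralizer (L1 : Set S) with hC
  have memC : ∀ {x : S}, x ∈ C ↔ ∀ v ∈ L1, v * x = x * v := fun {x} => by
    rw [hC, Subgroup.mem_centralizer_iff]; rfl
  obtain ⟨l, hl, hlz⟩ := c.step1.exists_gen (p := p)
  have hyC : ∀ y ∈ E, y ∉ Subgroup.zpowers z → y ∉ C := fun y hy hyz h =>
    c.not_comm hS hF hy hyz hl hlz (commutatorElement_eq_one_iff_mul_comm.2 (memC.1 h l hl))
  have h2C : L2 ≤ C := fun w hw => memC.2 fun v hv => c.L2_comm hS hF v (c.step2.le hv) w hw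
  haveI hnC : C.Normal := by rw [hC]; infer_instance
  have hey : ⁅e, l⁆ ≠ 1 := fun h => c.not_comm hS hF d.he d.heH hl hlz (by
    rw [← commutatorElement_inv, h, inv_one])
  have htop : (⊤ : Subgroup S) ≤ C ⊔ Subgroup.zpowers e := fun g _ => by
    obtain ⟨k, hk⟩ := exists_adjust (p := p) c.zc (d.exp z d.hzE) (c.commG1 g l hl) (c.commG1 e l hl) hey
    have hgC : g * e ^ k ∈ C := memC.2 fun v hv => by
      obtain ⟨j, hj⟩ := c.step1.gen hS hl hlz hv
      rw [← mul_inv_cancel_left (l ^ j) v]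
      exact (((show Commute (g * e ^ k) l from commutatorElement_eq_one_iff_mul_comm.1 hk).zpow_right j
        ).mul_right (c.zpowers_comm hj _).symm).eq.symm
    rw [← mul_inv_cancel_right g (e ^ k)]
    exact mul_mem (Subgroup.mem_sup_left hgC) (Subgroup.mem_sup_right (inv_mem (Subgroup.zpow_mem_zpowers e k)))
  have hcC : Nat.card C = p ^ 4 := by
    refine le_antisymm ?_ ?_
    · have := pow_le_of_lt hS (lt_top_iff_ne_top.2 fun h : C = ⊤ => hyC e d.he d.heH (h ▸ Subgroup.mem_top e))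
      rw [Subgroup.card_top, c.hcard, pow_succ'] at this
      exact Nat.le_of_mul_le_mul_left this hp.out.pos
    · have h1 := (Subgroup.card_le_of_le htop).trans
        (card_sup_zpowers_le (p := p) hnC (by rw [d.exp e d.he]; exact one_mem _))
      rw [Subgroup.card_top, c.hcard, pow_succ'] at h1
      exact Nat.le_of_mul_le_mul_left h1 hp.out.pos
  refine ⟨step_of_card hS h2C (by rw [hcC, c.card2, ← pow_succ']),
    step_of_card hS le_top (by rw [Subgroup.card_top, c.hcard, hcC, ← pow_succ']), hnC, fun w hw hwM => ?_, hyC⟩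
  rcases c.step2M.eq_of_between (C := M ⊓ C) (le_inf c.step2M.le h2C) inf_le_left with h | h
  · exact h.le ⟨hwM, hw⟩
  · exact absurd ((inf_le_right : M ⊓ C ≤ C) (h.ge (c.stepN.le (d.stepN.le d.he)))) (hyC e d.he d.heH)

/-- Only `p = 3` occurs. -/
theorem prime_eq_three (h2 : p ≠ 2) (h7 : p ≠ 7) (hnab : NoAb p S) {α : MulAut E} (hα : α ∈ autL F E)
    (hn : ev α z ∉ Subgroup.zpowers z) :
    p = 3 ∧ (∀ g ∈ Subgroup.centralizer (L1 : Set S), ∀ w ∈ L2, ⁅g, w⁆ ∈ Subgroup.zpowers z) ∧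
      ∀ g ∈ Subgroup.centralizer (L1 : Set S), g ∉ L2 → ∀ w ∈ L2, w ∉ L1 → ⁅g, w⁆ ≠ 1 := by
  have d := c.d
  obtain ⟨h2C, hCT, hnC, hCM, -⟩ := c.steps_cent hS hF
  set C := Subgroup.centralizer (L1 : Set S) with hC
  have memC : ∀ {x : S}, x ∈ C ↔ ∀ v ∈ L1, v * x = x * v := fun {x} => by
    rw [hC, Subgroup.mem_centralizer_iff]; rfl
  haveI : (Subgroup.zpowers z).Normal := c.hZ ▸ (inferInstance : (Subgroup.center S).Normal)
  haveI := c.n1
  have hC1 : ∀ g ∈ C, ∀ v ∈ L1, ⁅g, v⁆ = 1 := fun g hg v hv =>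
    commutatorElement_eq_one_iff_mul_comm.2 (memC.1 hg v hv).symm
  have hne : ∀ g ∈ C, g ∉ L2 → ∀ w ∈ L2, w ∉ L1 → ⁅g, w⁆ ≠ 1 := fun g hg hg2 w hw hw1 h => by
    have hgc : ∀ a ∈ L2, g * a = a * g := fun a ha => by
      obtain ⟨k, hk⟩ := c.step2.gen hS hw hw1 ha
      rw [← mul_inv_cancel_left (w ^ k) a]
      exact (((show Commute g w from commutatorElement_eq_one_iff_mul_comm.1 h).zpow_right k).mul_right
        (memC.1 hg _ hk).symm).eq
    refine hnab.lt hS (comm_sup_zpowers (c.L2_comm hS hF) hgc) ?_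
    exact le_trans (by rw [c.card2, ← pow_succ']) (le_card_sup hS hg2)
  obtain ⟨a, b, hab, h5, -, h6, -⟩ := exists_scalar (p := p) h2 h7
  obtain ⟨B, hB, hBN, hBM, hB1, hB2, hBZ, hBz, hBy, hw1, hw2, hw4⟩ := c.exists_weights hS hF hα hn hab
  have hBC : B ∈ pres C := mem_pres fun x hx => memC.2 fun v hv => by
    have h := congrArg (ev B) (memC.1 hx _ ((inv_mem hB1 v).2 hv))
    rwa [ev_mul (Subgroup.mem_top _) (Subgroup.mem_top _), ev_mul (Subgroup.mem_top _) (Subgroup.mem_top _),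
      ev_cancel_inv] at h
  -- the error of `g` under `B`
  have hr : ∀ g ∈ C, (g ^ (a ^ 4))⁻¹ * ev B g ∈ L2 := fun g hg =>
    hCM _ (mul_mem (inv_mem (zpow_mem hg _)) ((hBC g).2 hg)) (hw4 g (Subgroup.mem_top g))
  have ha0 : (a : ZMod p) ≠ 0 := fun h => by rw [h, zero_mul] at hab; exact zero_ne_one hab
  have hline : ∀ g ∈ C, ∀ w ∈ L2, ⁅g, w⁆ ∈ Subgroup.zpowers z := by
    intro g hg w hw
    by_contra hgw
    refine h5 ?_
    have hgw1 := c.commG2 g w hw
    have := wt_transfer (a := B) (x := g) (y := w) (D := Subgroup.zpowers z) (Subgroup.mem_top g)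
      (Subgroup.mem_top w) (hw1 _ hgw1) hgw (c.step1.pow_mem hS hgw1) (c.commG1 g _ hgw1) (c.commG1 w _ hgw1)
      (by rw [commutatorElement_eq_one_iff_mul_comm.2 (c.L2_comm hS hF _ (hr g hg) w hw)]; exact one_mem _)
      (c.commG1 _ _ (hw2 w hw)) (c.commG1 g _ (hw2 w hw))
    push_cast at this
    refine mul_left_cancel₀ (pow_ne_zero 2 ha0) ?_
    rw [mul_one]; linear_combination -this
  refine ⟨?_, hline, hne⟩
  by_contra h3
  refine h6 h3 ?_
  obtain ⟨g, hg, hg2⟩ := h2C.exists_gen (p := p)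
  obtain ⟨w, hw, hw1'⟩ := c.step2.exists_gen (p := p)
  obtain ⟨i, hi⟩ := Subgroup.mem_zpowers_iff.1 (hline g hg w hw)
  have := wt_transfer (a := B) (x := g) (y := w) (D := (⊥ : Subgroup S)) (Subgroup.mem_top g) (Subgroup.mem_top w)
    (s := a ^ 4) (t := a ^ 3) (c := a) (by rw [← hi, hBz, inv_mul_cancel]; exact one_mem _)
    (by rw [Subgroup.mem_bot]; exact hne g hg hg2 w hw hw1') (c.stepZ.pow_mem hS ⟨i, hi⟩)
    (c.comm_line ⟨i, hi⟩ g) (c.comm_line ⟨i, hi⟩ w)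
    (by rw [Subgroup.mem_bot, commutatorElement_eq_one_iff_mul_comm]; exact c.L2_comm hS hF _ (hr g hg) w hw)
    (by
      rw [Subgroup.mem_bot, commutatorElement_eq_one_iff_mul_comm]
      exact c.L2_comm hS hF _ (hr g hg) _ (c.step2.le (hw2 w hw)))
    (by rw [Subgroup.mem_bot]; exact hC1 g hg _ (hw2 w hw))
  push_cast at this
  refine mul_left_cancel₀ ha0 ?_
  rw [mul_one]; linear_combination -this

end Pearl

end Cfsg.Agent.OrderFive
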