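import Cfsg.Agent.Lib.OrderFive.Maps
import Cfsg.Agent.Lib.MaxEss.Extend
import Cfsg.Agent.Lib.Fusion.Hyperfocal

/-!
# Stabilizers of series in the automizers of a saturated fusion system
-/

set_option autoImplicit false
set_option linter.unusedSectionVars false
set_option linter.style.haveILetI false

namespace Cfsg.Agent.OrderFive

open Cfsg Cfsg.FusionSystem Cfsg.Agent Cfsg.Agent.FusionSys Cfsg.Agent.MaxEss
open scoped commutatorElement

section group

variable {G : Type*} [Group G]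

/-- The automorphisms of `L` preserving the members of the series and acting trivially on its factors. -/
def stab {L : Subgroup G} (l : List (Subgroup G)) : Subgroup (MulAut L) where
  carrier := {a | (∀ A ∈ l, a ∈ pres A) ∧ ∀ pr ∈ (⊥ :: l).zip l, ∀ y ∈ pr.2, y⁻¹ * ev a y ∈ pr.1}
  one_mem' := ⟨fun A _ => one_mem _, fun pr _ y _ => by rw [ev_id, inv_mul_cancel]; exact one_mem _⟩
  mul_mem' {a b} ha hb := ⟨fun A hA => mul_mem (ha.1 A hA) (hb.1 A hA), fun pr hpr y hy => by
    have h := mul_mem (hb.2 pr hpr y hy)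
      (ha.2 pr hpr _ ((hb.1 pr.2 (List.of_mem_zip hpr).2 y).2 hy))
    rwa [mul_assoc, mul_inv_cancel_left, ← ev_comp] at h⟩
  inv_mem' {a} ha := ⟨fun A hA => inv_mem (ha.1 A hA), fun pr hpr y hy => by
    have h := pr.1.inv_mem (ha.2 pr hpr _ ((inv_mem (ha.1 pr.2 (List.of_mem_zip hpr).2) y).2 hy))
    rwa [mul_inv_rev, inv_inv, ev_cancel_inv] at h⟩

theorem mem_stab {L : Subgroup G} {l : List (Subgroup G)} {a : MulAut L} :
    a ∈ stab l ↔ (∀ A ∈ l, a ∈ pres A) ∧ ∀ pr ∈ (⊥ :: l).zip l, ∀ y ∈ pr.2, y⁻¹ * ev a y ∈ pr.1 := Iff.rfl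

theorem conj_stab {L : Subgroup G} {l : List (Subgroup G)} (hle : ∀ A ∈ l, A ≤ L) {a g : MulAut L}
    (ha : a ∈ stab l) (hg : ∀ A ∈ l, g ∈ pres A) : g * a * g⁻¹ ∈ stab l := by
  refine ⟨fun A hA => mul_mem (mul_mem (hg A hA) (ha.1 A hA)) (inv_mem (hg A hA)), fun pr hpr y hy => ?_⟩
  have h2 := (List.of_mem_zip hpr).2
  have hy' : ev g⁻¹ y ∈ pr.2 := (inv_mem (hg pr.2 h2) y).2 hy
  have h := ha.2 pr hpr _ hy'
  have hg1 : g ∈ pres pr.1 := by
    rcases List.mem_cons.1 (List.of_mem_zip hpr).1 with e | e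
    · rw [e]; exact pres_bot g
    · exact hg _ e
  have hyL : ev g⁻¹ y ∈ L := hle _ h2 hy'
  have h' := (hg1 _).2 h
  rwa [ev_mul (L.inv_mem hyL) (ev_mem hyL), ev_inv hyL, ev_cancel_inv, ← ev_comp, ← ev_comp] at h'

theorem shift_mem {A : Subgroup G} {g y : G} (hy : y ∈ Subgroup.normalizer (A : Set G)) (h : ⁅g, y⁆ ∈ A) :
    y⁻¹ * (g * y * g⁻¹) ∈ A := by
  have := (Subgroup.mem_normalizer_iff.1 (inv_mem hy) ⁅g, y⁆).1 h
  rwa [inv_inv, commutatorElement_def, show y⁻¹ * (g * y * g⁻¹ * y⁻¹) * y = y⁻¹ * (g * y * g⁻¹) by group] at this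

variable [Finite G] {p : ℕ} [hp : Fact p.Prime]

/-- The `i`-th member. -/
def ser {L : Subgroup G} (l : List (Subgroup G)) (i : ℕ) : Subgroup L :=
  (((⊥ :: l)[i]?).getD L).subgroupOf L

theorem ser_last {L : Subgroup G} {l : List (Subgroup G)} (hl : l.getLast? = some L) :
    ser (L := L) l l.length = ⊤ := by
  have h : (⊥ :: l)[l.length]? = some L := by
    cases l with
    | nil => simp at hl
    | cons a t =>
      rw [List.getLast?_eq_getElem?] at hl
      simpa using hl
  rw [ser, h, Option.getD_some, Subgroup.subgroupOf_self]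

theorem ser_zero {L : Subgroup G} (l : List (Subgroup G)) : ser (L := L) l 0 = ⊥ := by
  simp [ser]

theorem ser_step {L : Subgroup G} (l : List (Subgroup G)) {i : ℕ} (hi : i < l.length) :
    ∃ pr ∈ (⊥ :: l).zip l, ser (L := L) l i = pr.1.subgroupOf L ∧ ser (L := L) l (i + 1) = pr.2.subgroupOf L := by
  refine ⟨((⊥ :: l)[i]'(by simp only [List.length_cons]; omega), l[i]), List.mem_iff_getElem.2
    ⟨i, by simp [List.length_zip]; omega, by simp⟩, ?_, ?_⟩
  · rw [ser, List.getElem?_eq_getElem (by simp only [List.length_cons]; omega), Option.getD_some]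
  · rw [ser, List.getElem?_cons_succ, List.getElem?_eq_getElem hi, Option.getD_some]

theorem stab_pgroup (hG : IsPGroup p G) {L : Subgroup G} {l : List (Subgroup G)} (hl : l.getLast? = some L) :
    IsPGroup p (stab (L := L) l) := by
  intro a
  obtain ⟨k, m, hm, hkm⟩ := Nat.exists_eq_pow_mul_and_not_dvd (orderOf_pos a).ne' p hp.out.ne_one
  refine ⟨k, Subtype.ext ?_⟩
  have hmem : ((a : MulAut L) ^ p ^ k) ∈ stab l := pow_mem a.2 _
  refine eq_one_of_stabilizes (hG.to_subgroup L) (ser l) l.length (ser_zero l) (ser_last hl) (fun i hi y hy => ?_) ?_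
  · obtain ⟨pr, hpr, e1, e2⟩ := ser_step (L := L) l hi
    rw [e2, Subgroup.mem_subgroupOf] at hy
    rw [e1, Subgroup.mem_subgroupOf]
    have h := hmem.2 pr hpr _ hy
    rwa [ev_coe] at h
  · refine Nat.Coprime.coprime_dvd_left (k := m) (orderOf_dvd_of_pow_eq_one ?_)
      ((hp.out.coprime_iff_not_dvd.2 hm).symm)
    rw [SubmonoidClass.coe_pow, ← pow_mul, ← hkm, ← SubmonoidClass.coe_pow, pow_orderOf_eq_one]
    rfl

end group

variable {Ω : Type*} [Group Ω] {S : Subgroup Ω} [Finite S] {F : FusionSystem S} {p : ℕ} [hp : Fact p.Prime]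

theorem om_top : om (⊤ : Subgroup S) = S := by
  show Subgroup.map S.subtype ⊤ = S
  rw [← MonoidHom.range_eq_map, Subgroup.range_subtype]

/-- The induced automorphisms. -/
abbrev ind (L : Subgroup S) : Subgroup (MulAut L) := L.normalizerMonoidHom.range

theorem mem_ind_iff {L : Subgroup S} {a : MulAut L} :
    a ∈ ind L ↔ ∃ n ∈ Subgroup.normalizer (L : Set S), ∀ x ∈ L, ev a x = n * x * n⁻¹ := by
  constructor
  · rintro ⟨n, rfl⟩; exact ⟨n, n.2, fun x hx => ev_conj n hx⟩
  · rintro ⟨n, hn, h⟩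
    exact ⟨⟨n, hn⟩, ext_ev fun x hx => by rw [ev_conj _ hx, h x hx]⟩

theorem ind_le (L : Subgroup S) : ind L ≤ autL F L := by
  rintro _ ⟨n, rfl⟩; exact conj_mem_autL n

theorem ind_map (L : Subgroup S) :
    (ind L).map (MulAut.congr (eL L)).toMonoidHom = autInducedBy S (om L) := by
  ext b
  constructor
  · rintro ⟨a, ⟨n, rfl⟩, rfl⟩
    exact conj_mem_induced (g := (n : S)) fun _ => rfl
  · intro hb
    obtain ⟨a, rfl⟩ := (MulAut.congr (eL L)).surjective b
    obtain ⟨k, hk⟩ := exists_of_induced hb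
    exact ⟨a, ⟨⟨k, mem_norm fun x hx => by rw [← hk ⟨x, hx⟩]; exact (a _).2⟩,
      MulEquiv.ext fun x => Subtype.ext (hk x).symm⟩, rfl⟩

variable (hS : IsPGroup p S) (hF : F.IsSaturated p)
include hS hF

/-- The induced automorphisms form a Sylow subgroup of the automizer. -/
theorem card_le_ind {L : Subgroup S} (hfn : F.IsFullyNormalized (om L)) {X : Subgroup (MulAut L)}
    (hX : X ≤ autL F L) (hXp : IsPGroup p X) : Nat.card X ≤ Nat.card (ind L) := by
  haveI := finite_of_le (om_le L)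
  obtain ⟨R, hR⟩ := (fullyNormalized_imp hS hF hfn).2.2
  set c := (MulAut.congr (eL L)).toMonoidHom
  have hle : X.map c ≤ F.autGroup (om L) := by rintro _ ⟨a, ha, rfl⟩; exact hX ha
  obtain ⟨P, hP⟩ := ((hXp.map c).of_equiv (Subgroup.subgroupOfEquivOfLe hle).symm).exists_le_sylow
  have h1 := Subgroup.card_le_of_le hP
  rw [Nat.card_congr (Subgroup.subgroupOfEquivOfLe hle).toEquiv,
    Subgroup.card_map_of_injective (MulAut.congr (eL L)).injective, P.card_eq_multiplicity] at h1
  rw [← R.card_eq_multiplicity, hR, Nat.card_congr (Subgroup.subgroupOfEquivOfLe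
    (autInducedBy_le_autGroup F (om_le L))).toEquiv, ← ind_map,
    Subgroup.card_map_of_injective (MulAut.congr (eL L)).injective] at h1
  exact h1

theorem eq_ind {L : Subgroup S} (hfn : F.IsFullyNormalized (om L)) {X : Subgroup (MulAut L)}
    (hX : X ≤ autL F L) (hXp : IsPGroup p X) (hi : ind L ≤ X) : X = ind L :=
  (Subgroup.eq_of_le_of_card_ge hi (card_le_ind hS hF hfn hX hXp)).symm

theorem ind_pgroup (L : Subgroup S) : IsPGroup p (ind L) :=
  (hS.to_subgroup _).of_surjective L.normalizerMonoidHom.rangeRestrict L.normalizerMonoidHom.rangeRestrict_surjective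

/-- Stabilizing automorphisms are induced when the series is stabilized by the normalizer. -/
theorem stab_eq_conj {L : Subgroup S} (hfn : F.IsFullyNormalized (om L)) {l : List (Subgroup S)}
    (hl : l.getLast? = some L) (hind : ind L ≤ stab l) {a : MulAut L} (ha : a ∈ autL F L) (hs : a ∈ stab l) :
    a ∈ ind L :=
  (eq_ind hS hF hfn (X := autL F L ⊓ stab l) inf_le_left ((stab_pgroup hS hl).to_le inf_le_right)
    (le_inf (ind_le L) hind)).le ⟨ha, hs⟩

/-- Stabilizing automorphisms are induced when the series is invariant under the automizer. -/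
theorem stab_le_ind {L : Subgroup S} (hfn : F.IsFullyNormalized (om L)) {l : List (Subgroup S)}
    (hle : ∀ A ∈ l, A ≤ L) (hl : l.getLast? = some L) (hinv : ∀ A ∈ l, autL F L ≤ pres A) {a : MulAut L}
    (ha : a ∈ autL F L) (hs : a ∈ stab l) : a ∈ ind L := by
  set K := autL F L ⊓ stab l with hK
  have hn : ind L ≤ Subgroup.normalizer (K : Set (MulAut L)) := by
    intro g hg
    have hgA := ind_le (F := F) L hg
    exact MaxEss.mem_norm fun x hx => ⟨mul_mem (mul_mem hgA hx.1) (Subgroup.inv_mem _ hgA),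
      conj_stab hle hx.2 fun A hA => hinv A hA hgA⟩
  have hp' := (ind_pgroup hS hF L).to_sup_of_normal_right' (K := K) ((stab_pgroup hS hl).to_le inf_le_right) hn
  exact (eq_ind hS hF hfn (sup_le (ind_le L) inf_le_left) hp' le_sup_left).le
    (Subgroup.mem_sup_right (show a ∈ K from ⟨ha, hs⟩))

/-- An automorphism preserving a series stabilized by the normalizer extends to it. -/
theorem extend {L : Subgroup S} (hfn : F.IsFullyNormalized (om L)) {l : List (Subgroup S)}
    (hle : ∀ A ∈ l, A ≤ L) (hl : l.getLast? = some L) (hind : ind L ≤ stab l) {a : MulAut L}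
    (ha : a ∈ autL F L) (hpres : ∀ A ∈ l, a ∈ pres A) :
    ∃ b ∈ autL F (Subgroup.normalizer (L : Set S)), ∀ x ∈ L, ev b x = ev a x := by
  obtain ⟨b, hb, hbe⟩ := exists_extend hS hF hfn ha fun g hg => by
    have hgi : L.normalizerMonoidHom ⟨g, hg⟩ ∈ ind L := ⟨_, rfl⟩
    obtain ⟨k, hk, hke⟩ := mem_ind_iff.1 (stab_eq_conj hS hF hfn hl hind
      (mul_mem (mul_mem ha (ind_le L hgi)) (Subgroup.inv_mem _ ha)) (conj_stab hle (hind hgi) hpres))
    refine ⟨k, hk, fun x hx => ?_⟩
    have := hke (a x : S) (a x).2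
    rw [ev_comp, ← ev_coe a x, ev_inv_cancel, ev_comp, ev_conj _ x.2] at this
    rw [← ev_coe a x, ← this, ev_of_mem hx]
  exact ⟨b, hb, fun x hx => by
    rw [ev_of_mem (Subgroup.le_normalizer hx), ev_of_mem hx]; exact hbe ⟨x, hx⟩ _⟩

theorem essential_fn {Q : Subgroup S} (hQ : F.IsEssential p (om Q)) : F.IsFullyNormalized (om Q) := hQ.2.1

theorem centralizer_le {Q : Subgroup S} (hQ : F.IsEssential p (om Q)) : Subgroup.centralizer (Q : Set S) ≤ Q := by
  have h := hQ.1.2 _ (isConj_refl F (om_le Q))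
  rw [centralizerIn_om] at h
  exact (Subgroup.map_le_map_iff_of_injective S.subtype_injective).1 h

/-- In an essential subgroup the stabilizing automorphisms are inner. -/
theorem stab_inner {Q : Subgroup S} (hQ : F.IsEssential p (om Q)) {l : List (Subgroup S)}
    (hle : ∀ A ∈ l, A ≤ Q) (hl : l.getLast? = some Q) (hinv : ∀ A ∈ l, autL F Q ≤ pres A) {a : MulAut Q}
    (ha : a ∈ autL F Q) (hs : a ∈ stab l) : ∃ q ∈ Q, ∀ x ∈ Q, ev a x = q * x * q⁻¹ := by
  haveI := finite_of_le (om_le Q)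
  set K : Subgroup (autL F Q) := (stab l).subgroupOf (autL F Q)
  haveI hKn : K.Normal := ⟨fun k hk g => Subgroup.mem_subgroupOf.2
    (conj_stab hle (Subgroup.mem_subgroupOf.1 hk) fun A hA => hinv A hA g.2)⟩
  have hKp : IsPGroup p K := (stab_pgroup hS hl).comap_of_injective _ (autL F Q).subtype_injective
  set K' := K.map (autEquiv Q).toMonoidHom
  have hKn' : K'.Normal := hKn.map _ (autEquiv Q).surjective
  have h : MulAut.congr (eL Q) a ∈ Inn (om Q) := (essential_radical hS hF hQ).2.le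
    ⟨autEquiv Q ⟨a, ha⟩, PBasic.le_pCore hKn' (hKp.map _) ⟨⟨a, ha⟩, hs, rfl⟩, rfl⟩
  rw [inn_eq_autInducedBy_self, mem_autInducedBy_iff] at h
  obtain ⟨_, ⟨q, hq, rfl⟩, he⟩ := h
  refine ⟨q, hq, fun x hx => Subtype.ext ?_⟩
  have := he (eL Q ⟨x, hx⟩)
  rw [congr_eL_apply] at this
  rw [ev_of_mem hx]
  exact this

/-- An element stabilizing an invariant series of an essential subgroup lies in it. -/
theorem mem_of_stab {Q : Subgroup S} (hQ : F.IsEssential p (om Q)) {l : List (Subgroup S)}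
    (hle : ∀ A ∈ l, A ≤ Q) (hl : l.getLast? = some Q) (hinv : ∀ A ∈ l, autL F Q ≤ pres A) {g : S}
    (hg : g ∈ Subgroup.normalizer (Q : Set S))
    (hs : ∀ pr ∈ (⊥ :: l).zip l, ∀ y ∈ pr.2, y⁻¹ * (g * y * g⁻¹) ∈ pr.1) : g ∈ Q := by
  set θ := Q.normalizerMonoidHom ⟨g, hg⟩
  have hgA : θ ∈ autL F Q := ind_le Q ⟨_, rfl⟩
  obtain ⟨q, hq, he⟩ := stab_inner hS hF hQ hle hl hinv hgA ⟨fun A hA => hinv A hA hgA, fun pr hpr y hy => by
    rw [ev_conj _ (hle _ (List.of_mem_zip hpr).2 hy)]; exact hs pr hpr y hy⟩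
  have hc : q⁻¹ * g ∈ Subgroup.centralizer (Q : Set S) := Subgroup.mem_centralizer_iff.2 fun x hx => by
    have h := he x hx
    rw [ev_conj _ hx] at h
    change g * x * g⁻¹ = q * x * q⁻¹ at h
    calc x * (q⁻¹ * g) = q⁻¹ * (q * x * q⁻¹) * g := by group
      _ = q⁻¹ * (g * x * g⁻¹) * g := by rw [h]
      _ = q⁻¹ * g * x := by group
  simpa using mul_mem hq (centralizer_le hS hF hQ hc)

/-- An essential subgroup has no invariant series with steps of order `p`. -/
theorem no_cyclic_series {Q : Subgroup S} (hQ : F.IsEssential p (om Q)) {l : List (Subgroup S)}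
    (hl : l.getLast? = some Q) (hn : ∀ A ∈ l, Q ≤ Subgroup.normalizer (A : Set S))
    (hle : ∀ A ∈ l, A ≤ Q) (hinv : ∀ A ∈ l, autL F Q ≤ pres A)
    (hst : ∀ pr ∈ (⊥ :: l).zip l, Step p pr.1 pr.2) : False := by
  haveI := finite_of_le (om_le Q)
  haveI hn0 : ∀ i, (ser (L := Q) l i).Normal := fun i => by
    by_cases hi : i < (⊥ :: l).length
    · rcases List.mem_cons.1 ((List.getElem_mem hi)) with e | e
      · rw [ser, List.getElem?_eq_getElem hi, Option.getD_some, e, Subgroup.bot_subgroupOf]; infer_instance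
      · rw [ser, List.getElem?_eq_getElem hi, Option.getD_some]
        exact Subgroup.normal_subgroupOf_of_le_normalizer (hn _ e)
    · rw [ser, List.getElem?_eq_none (by omega), Option.getD_none, Subgroup.subgroupOf_self]; infer_instance
  have hc : IsPGroup p (commutator (autL F Q)) := by
    refine isPGroup_commutator_of_invariant (hS.to_subgroup Q) (ser l) l.length (ser_zero l) (ser_last hl) _ hn0
      (fun i a ha x hx => ?_) fun i hi => ?_
    · by_cases hi : i < (⊥ :: l).length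
      · rw [ser, List.getElem?_eq_getElem hi, Option.getD_some, Subgroup.mem_subgroupOf] at hx ⊢
        rw [← ev_coe]
        rcases List.mem_cons.1 ((List.getElem_mem hi)) with e | e
        · rw [e] at hx ⊢; exact (pres_bot a _).2 hx
        · exact (hinv _ e ha _).2 hx
      · rw [ser, List.getElem?_eq_none (by omega), Option.getD_none, Subgroup.subgroupOf_self]; trivial
    · obtain ⟨pr, hpr, e1, e2⟩ := ser_step (L := Q) l hi
      have hs := hst pr hpr
      obtain ⟨x, hx, hx1⟩ := hs.exists_gen (p := p)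
      have hB : pr.2 ≤ Q := hle _ (List.of_mem_zip hpr).2
      rw [e1, e2]
      refine ⟨⟨x, hB hx⟩, hx, fun y hy => ?_⟩
      obtain ⟨k, hk⟩ := hs.gen hS hx hx1 (Subgroup.mem_subgroupOf.1 hy)
      refine ⟨k, ?_⟩
      haveI : (pr.1.subgroupOf Q).Normal := e1 ▸ hn0 i
      exact (inferInstance : (pr.1.subgroupOf Q).Normal).mem_comm (Subgroup.mem_subgroupOf.2 hk)
  refine not_isPGroup_commutator_autGroup hS hF hQ ?_
  have := hc.map (autEquiv (F := F) Q).toMonoidHom
  rwa [commutator_def, Subgroup.map_commutator, Subgroup.map_top_of_surjective _ (autEquiv (F := F) Q).surjective,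
    ← commutator_def] at this

theorem top_fn : F.IsFullyNormalized (om (⊤ : Subgroup S)) := by
  rw [om_top]; exact fullyNormalized_top F

end Cfsg.Agent.OrderFive
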