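import Cfsg.Agent.Lib.OrderFive.AbelianEssential

/-!
# Restriction, weights of inverses, adjustments
-/

set_option autoImplicit false
set_option linter.unusedSectionVars false
set_option linter.style.haveILetI false

namespace Cfsg.Agent.OrderFive

open Cfsg Cfsg.FusionSystem Cfsg.Agent Cfsg.Agent.FusionSys Cfsg.Agent.MaxEss
open scoped commutatorElement

section group

variable {G : Type*} [Group G] [Finite G] {p : ℕ} [hp : Fact p.Prime]

/-- Commutators with a power, when the commutator is central. -/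
theorem comm_zpow_left {x y : G} (h : ∀ g, Commute ⁅x, y⁆ g) (k : ℤ) : ⁅x ^ k, y⁆ = ⁅x, y⁆ ^ k := by
  have := comm_transfer (D := (⊥ : Subgroup G)) (x := x) (y := y) (r := 1) (q := 1) k 1
    (by rw [Subgroup.mem_bot, commutatorElement_eq_one_iff_mul_comm]; exact (h x).symm)
    (by rw [Subgroup.mem_bot, commutatorElement_eq_one_iff_mul_comm]; exact (h y).symm)
    (by simp) (by simp) (by simp)
  rw [Subgroup.mem_bot, inv_mul_eq_one, mul_one, zpow_one, mul_one, mul_one] at this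
  exact this.symm

/-- Multiplying by a power of `y` kills a central commutator of order `p`. -/
theorem exists_adjust {x y c z : G} (hzc : ∀ g, Commute z g) (hzp : z ^ p = 1) (hx : ⁅x, c⁆ ∈ Subgroup.zpowers z)
    (hy : ⁅y, c⁆ ∈ Subgroup.zpowers z) (hy1 : ⁅y, c⁆ ≠ 1) : ∃ k : ℤ, ⁅x * y ^ k, c⁆ = 1 := by
  obtain ⟨i, hi⟩ := Subgroup.mem_zpowers_iff.1 hx
  obtain ⟨j, hj⟩ := Subgroup.mem_zpowers_iff.1 hy
  have hj0 : (j : ZMod p) ≠ 0 := fun h => hy1 (hj ▸ Subgroup.mem_bot.1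
    (zpow_mem_of_cast (by rw [hzp]; exact one_mem _) h))
  obtain ⟨k, hk⟩ := ZMod.intCast_surjective (-(i : ZMod p) * (j : ZMod p)⁻¹)
  refine ⟨k, ?_⟩
  rw [show ⁅x * y ^ k, c⁆ = x * ⁅y ^ k, c⁆ * x⁻¹ * ⁅x, c⁆ by simp only [commutatorElement_def]; group,
    comm_zpow_left (x := y) (y := c) (fun g => hj ▸ (hzc g).zpow_left j), ← hi, ← hj, ← zpow_mul,
    (((hzc x).zpow_left (j * k)).symm).eq, mul_inv_cancel_right, ← zpow_add]
  refine Subgroup.mem_bot.1 (zpow_mem_of_cast (by rw [hzp]; exact one_mem _) ?_)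
  push_cast
  rw [hk]; field_simp; ring

theorem normal_of_step_top {A : Subgroup G} (h : Step p A ⊤) : A.Normal :=
  Subgroup.normalizer_eq_top_iff.1 (top_le_iff.1 h.norm)

theorem Wt.inv (hG : IsPGroup p G) {L A B : Subgroup G} (hst : Step p A B) (hBL : B ≤ L) {a : MulAut L}
    (ha : a ∈ pres A) (hb : a ∈ pres B) {t t' : ℤ} (h : Wt (ev a) A B t) (h' : Wt (ev a⁻¹) A B t') :
    (t : ZMod p) * t' = 1 := by
  have h1 := Wt.mul hG hst hBL ha h h'
  rw [mul_inv_cancel] at h1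
  have h2 : Wt (ev (1 : MulAut L)) A B 1 := fun y _ => by
    rw [ev_id, zpow_one, inv_mul_cancel]; exact one_mem _
  have := Wt.unique hG hst h1 h2
  push_cast at this
  exact this

/-- Commutators of automorphisms stabilize an invariant series with steps of order `p`. -/
theorem comm_stab (hG : IsPGroup p G) {L : Subgroup G} {l : List (Subgroup G)} (hle : ∀ A ∈ l, A ≤ L)
    (hst : ∀ pr ∈ (⊥ :: l).zip l, Step p pr.1 pr.2) {a b : MulAut L} (ha : ∀ A ∈ l, a ∈ pres A)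
    (hb : ∀ A ∈ l, b ∈ pres A) : ⁅a, b⁆ ∈ stab l := by
  rw [commutatorElement_def]
  refine ⟨fun A hA => mul_mem (mul_mem (mul_mem (ha A hA) (hb A hA)) (inv_mem (ha A hA))) (inv_mem (hb A hA)),
    fun pr hpr => Wt.one_iff.1 ?_⟩
  have h2 := (List.of_mem_zip hpr).2
  have hs := hst pr hpr
  have hBL := hle _ h2
  have hA1 : ∀ c : MulAut L, (∀ A ∈ l, c ∈ pres A) → c ∈ pres pr.1 := fun c hc => by
    rcases List.mem_cons.1 (List.of_mem_zip hpr).1 with e | e
    · rw [e]; exact pres_bot c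
    · exact hc _ e
  obtain ⟨s, hs1⟩ := Wt.exists_wt hG hs hBL (hA1 a ha) (ha _ h2)
  obtain ⟨t, ht1⟩ := Wt.exists_wt hG hs hBL (hA1 b hb) (hb _ h2)
  obtain ⟨s', hs2⟩ := Wt.exists_wt hG hs hBL (inv_mem (hA1 a ha)) (inv_mem (ha _ h2))
  obtain ⟨t', ht2⟩ := Wt.exists_wt hG hs hBL (inv_mem (hA1 b hb)) (inv_mem (hb _ h2))
  refine Wt.congr hG hs (Wt.mul hG hs hBL (mul_mem (mul_mem (hA1 a ha) (hA1 b hb)) (inv_mem (hA1 a ha)))
    (Wt.mul hG hs hBL (mul_mem (hA1 a ha) (hA1 b hb)) (Wt.mul hG hs hBL (hA1 a ha) hs1 ht1) hs2) ht2) ?_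
  have e1 := Wt.inv hG hs hBL (hA1 a ha) (ha _ h2) hs1 hs2
  have e2 := Wt.inv hG hs hBL (hA1 b hb) (hb _ h2) ht1 ht2
  push_cast
  linear_combination (t : ZMod p) * t' * e1 + e2

end group

variable {Ω : Type*} [Group Ω] {S : Subgroup Ω} [Finite S] {F : FusionSystem S} {p : ℕ} [hp : Fact p.Prime]

theorem exists_restrict {M E : Subgroup S} (hle : E ≤ M) {a : MulAut M} (ha : a ∈ autL F M) (hE : a ∈ pres E) :
    ∃ a' ∈ autL F E, ∀ x ∈ E, ev a' x = ev a x := by
  let f : E →* E := (M.subtype.comp (a.toMonoidHom.comp (Subgroup.inclusion hle))).codRestrict E fun x => by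
    show ((a ⟨x, hle x.2⟩ : M) : S) ∈ E
    rw [← ev_of_mem (hle x.2)]; exact (hE _).2 x.2
  have hf : Function.Bijective f := Finite.injective_iff_bijective.1 fun x y h => Subtype.ext (by
    have h' : ((a ⟨x, hle x.2⟩ : M) : S) = (a ⟨y, hle y.2⟩ : M) := congrArg (fun w : E => (w : S)) h
    exact congrArg (fun w : M => (w : S)) (a.injective (Subtype.ext h')))
  refine ⟨MulEquiv.ofBijective f hf, mem_autL.2 (homG_congr ((mem_autL.1 ha).restrict hle) fun _ => rfl),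
    fun x hx => ?_⟩
  rw [ev_of_mem hx, ev_of_mem (hle hx)]
  rfl

theorem fn_of_normal {Q : Subgroup S} (h : Q.Normal) : F.IsFullyNormalized (om Q) := by
  refine ⟨om_le Q, fun Q' _ => ?_⟩
  haveI := finite_of_le (normalizerIn_le S (om Q))
  refine Subgroup.card_le_of_le ?_
  rw [normalizerIn_om, Subgroup.normalizer_eq_top, om_top]
  exact inf_le_left

end Cfsg.Agent.OrderFive
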